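import Cfsg.Agent.Omega.NO3b.EZeroBase

/-!
# The base point (#22310 LEMMA T2, helper506; #22211 (4), helper16), the count

`V` elementary abelian and NotFF, `W ≤ V`, `Fc ≤ V`, `V = W Fc`; `A ≤ N(V) ∩ N(Fc)`, `[V, A, A] = 1`; for `a ∈ A` some
`m ∈ N(V)` is trivial on `W` and acts on `Fc` as `a`.  Then `A` centralises `Fc` or `|A : C_A(Fc)| < |Fc : C_Fc(A)|`.
-/

set_option autoImplicit false

namespace Cfsg.Agent.Omega.NO3b.BasePt.Count

open Subgroup
open Cfsg.Agent.Omega.NO3b.EZero (NotFF)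

universe u

variable {G : Type u} [Group G]

/-- the action of `a` on `W` -/
def rs (W : Subgroup G) (a : G) : W → G := fun w => a * w * a⁻¹

theorem rs_eq_iff {W : Subgroup G} {a b : G} : rs W a = rs W b ↔ b⁻¹ * a ∈ centralizer (W : Set G) := by
  constructor
  · intro h
    rw [mem_centralizer_iff]
    intro w hw
    have h1 : a * w * a⁻¹ = b * w * b⁻¹ := congrFun h ⟨w, hw⟩
    calc w * (b⁻¹ * a) = b⁻¹ * (b * w * b⁻¹) * a := by group
      _ = b⁻¹ * (a * w * a⁻¹) * a := by rw [h1]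
      _ = b⁻¹ * a * w := by group
  · intro h
    funext w
    have h1 := mem_centralizer_iff.1 h w w.2
    change a * w * a⁻¹ = b * w * b⁻¹
    calc a * (w : G) * a⁻¹ = b * (b⁻¹ * a * w) * a⁻¹ := by group
      _ = b * (w * (b⁻¹ * a)) * a⁻¹ := by rw [h1]
      _ = b * w * b⁻¹ := by group

/-- `|A : C_A(W)|` is the number of restrictions -/
theorem relIndex_eq (A W : Subgroup G) :
    (centralizer (W : Set G)).relIndex A = Nat.card (rs W '' (A : Set G)) := by
  have e : (centralizer (W : Set G)).relIndex A = Nat.card (A ⧸ (centralizer (W : Set G)).subgroupOf A) := rfl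
  rw [e]
  refine Nat.card_congr (Equiv.ofBijective (fun q => Quotient.liftOn' q
    (fun a => (⟨rs W (a : G), Set.mem_image_of_mem _ a.2⟩ : rs W '' (A : Set G))) fun a b hab => ?_) ⟨?_, ?_⟩)
  · rw [QuotientGroup.leftRel_apply, mem_subgroupOf] at hab
    exact Subtype.ext (rs_eq_iff.2 hab).symm
  · intro p q
    refine Quotient.inductionOn₂' p q fun a b hab => ?_
    have h1 : rs W (a : G) = rs W (b : G) := congrArg Subtype.val hab
    refine Quotient.sound' ?_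
    rw [QuotientGroup.leftRel_apply, mem_subgroupOf]
    exact rs_eq_iff.1 h1.symm
  · rintro ⟨_, a, ha, rfl⟩
    exact ⟨Quotient.mk'' ⟨a, ha⟩, rfl⟩

/-- a group which acts on `V` as an elementary abelian 2-group acts there as a 2-subgroup. -/
theorem exists_two [Finite G] {A V : Subgroup G} (hAV : A ≤ normalizer (V : Set G))
    (h2 : ∀ a ∈ A, a * a ∈ centralizer (V : Set G)) : ∃ P ≤ A, IsPGroup 2 P ∧
      ∀ a ∈ A, ∃ p ∈ P, p⁻¹ * a ∈ centralizer (V : Set G) := by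
  have hf : Fact (Nat.Prime 2) := ⟨Nat.prime_two⟩
  let N : Subgroup A := (centralizer (V : Set G)).subgroupOf A
  have hN : N.Normal := ⟨fun n hn g => by
    have h1 : (n : G) ∈ centralizer (V : Set G) := mem_subgroupOf.1 hn
    have h3 := hAV g.2
    refine mem_subgroupOf.2 (mem_centralizer_iff.2 fun v hv => ?_)
    change v * ((g : G) * n * (g : G)⁻¹) = (g : G) * n * (g : G)⁻¹ * v
    have h4 : (g : G)⁻¹ * v * g ∈ V := (mem_normalizer_iff''.1 h3 v).1 hv
    have h5 := mem_centralizer_iff.1 h1 _ h4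
    calc v * ((g : G) * n * (g : G)⁻¹) = g * ((g : G)⁻¹ * v * g * n) * (g : G)⁻¹ := by group
      _ = g * (n * ((g : G)⁻¹ * v * g)) * (g : G)⁻¹ := by rw [h5]
      _ = (g : G) * n * (g : G)⁻¹ * v := by group⟩
  obtain ⟨P⟩ : Nonempty (Sylow 2 A) := inferInstance
  have hq : IsPGroup 2 (A ⧸ N) := by
    intro q
    refine ⟨1, ?_⟩
    obtain ⟨a, rfl⟩ := QuotientGroup.mk_surjective q
    rw [pow_one, ← QuotientGroup.mk_pow, QuotientGroup.eq_one_iff, pow_two]
    exact mem_subgroupOf.2 (h2 a a.2)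
  obtain ⟨n, hn⟩ := IsPGroup.iff_card.1 hq
  have hn' : N.index = 2 ^ n := hn
  have h3 : ((P : Subgroup A) ⊔ N).index ∣ 2 ^ n := hn' ▸ index_dvd_of_le le_sup_right
  have h4 : ¬ 2 ∣ ((P : Subgroup A) ⊔ N).index := fun h =>
    P.not_dvd_index (h.trans (index_dvd_of_le le_sup_left))
  obtain ⟨k, -, hk⟩ := (Nat.dvd_prime_pow Nat.prime_two).1 h3
  have h5 : ((P : Subgroup A) ⊔ N).index = 1 := by
    rcases Nat.eq_zero_or_pos k with h0 | h0
    · rw [hk, h0, pow_zero]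
    · exact absurd (hk ▸ dvd_pow_self 2 h0.ne') h4
  have h6 : (P : Subgroup A) ⊔ N = ⊤ := index_eq_one.1 h5
  refine ⟨(P : Subgroup A).map A.subtype, map_subtype_le _, P.isPGroup'.map _, fun a ha => ?_⟩
  have h7 : (⟨a, ha⟩ : A) ∈ (P : Subgroup A) ⊔ N := by rw [h6]; trivial
  obtain ⟨p, hp, c, hc, e⟩ := mem_sup_of_normal_right.1 h7
  refine ⟨p, ⟨p, hp, rfl⟩, ?_⟩
  have e' : (p : G) * c = a := congrArg Subtype.val e
  rw [← e', inv_mul_cancel_left]
  exact mem_subgroupOf.1 hc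

/-- `|V : C_V(P)| = |Fc : C_Fc(P)|` if `V = W Fc` and `P` centralises `W`. -/
theorem relIndex_sup {V W Fc : Subgroup G} (ab : ∀ v ∈ V, ∀ w ∈ V, v * w = w * v) (hW : W ≤ V) (hF : Fc ≤ V)
    (hV : V ≤ W ⊔ Fc) {C : Subgroup G} (hC : W ≤ C) : C.relIndex V = C.relIndex Fc := by
  have hn : ∀ X : Subgroup V, X.Normal := fun X => ⟨fun n hn g => by
    have e : g * n * g⁻¹ = n := by
      apply Subtype.ext
      change (g : G) * n * (g : G)⁻¹ = n
      rw [ab g g.2 n n.2]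
      group
    rw [e]; exact hn⟩
  let X : Subgroup V := C.subgroupOf V
  let N : Subgroup V := Fc.subgroupOf V
  have hX := hn X
  have h1 : N ⊔ X = ⊤ := by
    rw [eq_top_iff]
    intro v _
    have h2 : W.subgroupOf V ⊔ Fc.subgroupOf V = ⊤ := by
      rw [← subgroupOf_sup hW hF, subgroupOf_eq_top]
      exact hV
    have h3 : W.subgroupOf V ⊔ Fc.subgroupOf V ≤ N ⊔ X :=
      sup_le ((subgroupOf_mono V hC).trans le_sup_right) le_sup_left
    exact h3 (by rw [h2]; trivial)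
  have h2 : X.relIndex (N ⊔ X) = X.relIndex N := relIndex_sup_right N X
  rw [h1, relIndex_top_right] at h2
  have h3 : X.relIndex N = C.relIndex Fc := relIndex_subgroupOf hF
  change X.index = _
  rw [h2, h3]

/-- **The count.** -/
theorem count [Finite G] {V W Fc A D : Subgroup G} (ab : ∀ v ∈ V, ∀ w ∈ V, v * w = w * v)
    (sq : ∀ v ∈ V, v * v = 1) (hW : W ≤ V) (hF : Fc ≤ V) (hV : V ≤ W ⊔ Fc) (hAV : A ≤ normalizer (V : Set G))
    (hAF : A ≤ normalizer (Fc : Set G))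
    (hm : ∀ a ∈ A, ∃ m ∈ normalizer (V : Set G), (∀ w ∈ W, m * w = w * m) ∧
      ∀ v ∈ Fc, m * v * m⁻¹ = a * v * a⁻¹)
    (hVD : ∀ a ∈ A, ∀ v ∈ V, a * v * a⁻¹ * v⁻¹ ∈ D) (hDA : ∀ a ∈ A, ∀ d ∈ D, a * d = d * a) (hNF : NotFF V)
    (hne : ¬ A ≤ centralizer (Fc : Set G)) :
    (centralizer (Fc : Set G)).relIndex A < (centralizer (A : Set G)).relIndex Fc := by
  -- `Â`
  let Ah : Subgroup G :=
    { carrier := {m | m ∈ normalizer (V : Set G) ∧ (∀ w ∈ W, m * w = w * m) ∧ ∃ a ∈ A, ∀ v ∈ Fc, m * v * m⁻¹ = a * v * a⁻¹}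
      one_mem' := ⟨one_mem _, fun w _ => by rw [one_mul, mul_one], 1, one_mem _, fun _ _ => rfl⟩
      mul_mem' := by
        rintro m n ⟨h1, h2, a, ha, h3⟩ ⟨h1', h2', b, hb, h3'⟩
        refine ⟨mul_mem h1 h1', fun w hw => ?_, a * b, mul_mem ha hb, fun v hv => ?_⟩
        · rw [mul_assoc, h2' w hw, ← mul_assoc, h2 w hw, mul_assoc]
        · have h4 : b * v * b⁻¹ ∈ Fc := (mem_normalizer_iff.1 (hAF hb) v).1 hv
          calc m * n * v * (m * n)⁻¹ = m * (n * v * n⁻¹) * m⁻¹ := by group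
            _ = m * (b * v * b⁻¹) * m⁻¹ := by rw [h3' v hv]
            _ = a * (b * v * b⁻¹) * a⁻¹ := h3 _ h4
            _ = a * b * v * (a * b)⁻¹ := by group
      inv_mem' := by
        rintro m ⟨h1, h2, a, ha, h3⟩
        refine ⟨inv_mem h1, fun w hw => ?_, a⁻¹, inv_mem ha, fun v hv => ?_⟩
        · have := h2 w hw
          calc m⁻¹ * w = m⁻¹ * (w * m) * m⁻¹ := by group
            _ = m⁻¹ * (m * w) * m⁻¹ := by rw [this]
            _ = w * m⁻¹ := by group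
        · have h4 : a⁻¹ * v * a⁻¹⁻¹ ∈ Fc := (mem_normalizer_iff.1 (hAF (inv_mem ha)) v).1 hv
          have h5 := h3 _ h4
          calc m⁻¹ * v * m⁻¹⁻¹ = m⁻¹ * (a * (a⁻¹ * v * a⁻¹⁻¹) * a⁻¹) * m := by group
            _ = m⁻¹ * (m * (a⁻¹ * v * a⁻¹⁻¹) * m⁻¹) * m := by rw [h5]
            _ = a⁻¹ * v * a⁻¹⁻¹ := by group }
  have hAhV : Ah ≤ normalizer (V : Set G) := fun m hm => hm.1
  -- elements acting equally on `W` and `Fc` act equally on `V`
  have hcen : ∀ x : G, (∀ w ∈ W, x * w = w * x) → (∀ v ∈ Fc, x * v = v * x) → x ∈ centralizer (V : Set G) := by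
    intro x h1 h2
    have h3 : V ≤ centralizer ({x} : Set G) := hV.trans (sup_le
      (fun w hw => mem_centralizer_iff.2 fun y hy => by rw [Set.mem_singleton_iff.1 hy]; exact h1 w hw)
      (fun w hw => mem_centralizer_iff.2 fun y hy => by rw [Set.mem_singleton_iff.1 hy]; exact h2 w hw))
    exact mem_centralizer_iff.2 fun v hv => (mem_centralizer_iff.1 (h3 hv) x rfl).symm
  have hsqA : ∀ a ∈ A, ∀ v ∈ V, a * (a * v * a⁻¹) * a⁻¹ = v := by
    intro a ha v hv
    have h1 := hDA a ha _ (hVD a ha v hv)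
    have h2 : a * v * a⁻¹ ∈ V := (mem_normalizer_iff.1 (hAV ha) v).1 hv
    have h3 : a * v * a⁻¹ * v⁻¹ * (a * v * a⁻¹ * v⁻¹) = 1 := sq _ (mul_mem h2 (inv_mem hv))
    calc a * (a * v * a⁻¹) * a⁻¹ = a * (a * v * a⁻¹ * v⁻¹) * a⁻¹ * (a * v * a⁻¹) := by group
      _ = a * v * a⁻¹ * v⁻¹ * a * a⁻¹ * (a * v * a⁻¹) := by rw [h1]
      _ = a * v * a⁻¹ * v⁻¹ * (a * v * a⁻¹ * v⁻¹) * v := by group
      _ = v := by rw [h3, one_mul]
  have hsq : ∀ m ∈ Ah, m * m ∈ centralizer (V : Set G) := by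
    rintro m ⟨h1, h2, a, ha, h3⟩
    refine hcen _ (fun w hw => ?_) fun v hv => ?_
    · rw [mul_assoc, h2 w hw, ← mul_assoc, h2 w hw, mul_assoc]
    · have h4 : a * v * a⁻¹ ∈ Fc := (mem_normalizer_iff.1 (hAF ha) v).1 hv
      have h5 : m * (m * v * m⁻¹) * m⁻¹ = v := by
        rw [h3 v hv, h3 _ h4]
        exact hsqA a ha v (hF hv)
      calc m * m * v = m * (m * v * m⁻¹) * m⁻¹ * (m * m) := by group
        _ = v * (m * m) := by rw [h5]
  obtain ⟨P, hPA, hP2, hP⟩ := exists_two hAhV hsq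
  -- the restrictions to `Fc`
  have himg : rs Fc '' (P : Set G) = rs Fc '' (A : Set G) := by
    ext f
    constructor
    · rintro ⟨p, hp, rfl⟩
      obtain ⟨-, -, a, ha, h3⟩ := hPA hp
      exact ⟨a, ha, funext fun v => (h3 v v.2).symm⟩
    · rintro ⟨a, ha, rfl⟩
      obtain ⟨m, h1, h2, h3⟩ := hm a ha
      obtain ⟨p, hp, h4⟩ := hP m ⟨h1, h2, a, ha, h3⟩
      refine ⟨p, hp, ?_⟩
      have h5 : rs Fc m = rs Fc p := rs_eq_iff.2 (centralizer_le hF h4)
      rw [← h5]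
      exact funext fun v => h3 v v.2
  have e1 : (centralizer (Fc : Set G)).relIndex A = (centralizer (V : Set G)).relIndex P := by
    rw [relIndex_eq A Fc, ← himg, ← relIndex_eq P Fc, ← inf_relIndex_right (centralizer (Fc : Set G)) P,
      ← inf_relIndex_right (centralizer (V : Set G)) P]
    congr 1
    refine le_antisymm (fun x hx => ⟨hcen x (hPA hx.2).2.1 fun v hv =>
      (mem_centralizer_iff.1 hx.1 v hv).symm, hx.2⟩) (inf_le_inf_right _ (centralizer_le hF))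
  have e2 : (centralizer (A : Set G)).relIndex Fc = (centralizer (P : Set G)).relIndex V := by
    rw [relIndex_sup ab hW hF hV (C := centralizer (P : Set G)) fun w hw =>
      mem_centralizer_iff.2 fun p hp => (hPA hp).2.1 w hw,
      ← inf_relIndex_right (centralizer (A : Set G)) Fc, ← inf_relIndex_right (centralizer (P : Set G)) Fc]
    congr 1
    ext v
    simp only [mem_inf]
    constructor
    · rintro ⟨h1, h2⟩
      refine ⟨mem_centralizer_iff.2 fun p hp => ?_, h2⟩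
      obtain ⟨-, -, a, ha, h3⟩ := hPA hp
      have h4 := mem_centralizer_iff.1 h1 a ha
      have h5 := h3 v h2
      rw [h4, mul_inv_cancel_right] at h5
      rw [← mul_inv_eq_iff_eq_mul]
      exact h5
    · rintro ⟨h1, h2⟩
      refine ⟨mem_centralizer_iff.2 fun a ha => ?_, h2⟩
      have h6 : rs Fc a ∈ rs Fc '' (P : Set G) := by rw [himg]; exact ⟨a, ha, rfl⟩
      obtain ⟨p, hp, h3⟩ := h6
      have h4 := mem_centralizer_iff.1 h1 p hp
      have h5 : p * v * p⁻¹ = a * v * a⁻¹ := congrFun h3 ⟨v, h2⟩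
      rw [h4, mul_inv_cancel_right] at h5
      rw [← mul_inv_eq_iff_eq_mul]
      exact h5.symm
  rw [e1, e2]
  refine hNF P hP2 (hPA.trans hAhV) (fun a ha => by rw [pow_two]; exact hsq a (hPA ha)) (fun a ha b hb => ?_) ?_
  · -- commutators
    have h1 := hsq _ (mul_mem (hPA ha) (hPA hb))
    have h2 := hsq _ (inv_mem (hPA ha))
    have h3 := hsq _ (inv_mem (hPA hb))
    -- `a b a⁻¹ b⁻¹ = (a b)² b⁻¹ a⁻² b · b⁻²`
    have e : a * b * a⁻¹ * b⁻¹ = a * b * (a * b) * (b⁻¹ * (a⁻¹ * a⁻¹) * b) * (b⁻¹ * b⁻¹) := by group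
    rw [e]
    refine mul_mem (mul_mem h1 ?_) h3
    have hnor' : ∀ x ∈ centralizer (V : Set G), b⁻¹ * x * b ∈ centralizer (V : Set G) := by
      intro x hx
      have hb' := hAhV (hPA hb)
      refine mem_centralizer_iff.2 fun v hv => ?_
      have h4 : b * v * b⁻¹ ∈ V := (mem_normalizer_iff.1 hb' v).1 hv
      have h5 := mem_centralizer_iff.1 hx _ h4
      calc v * (b⁻¹ * x * b) = b⁻¹ * (b * v * b⁻¹ * x) * b := by group
        _ = b⁻¹ * (x * (b * v * b⁻¹)) * b := by rw [h5]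
        _ = b⁻¹ * x * b * v := by group
    exact hnor' _ h2
  · intro hPC
    apply hne
    intro a ha
    have h6 : rs Fc a ∈ rs Fc '' (P : Set G) := by rw [himg]; exact ⟨a, ha, rfl⟩
    obtain ⟨p, hp, h3⟩ := h6
    refine mem_centralizer_iff.2 fun v hv => ?_
    have h4 := mem_centralizer_iff.1 (hPC hp) v (hF hv)
    have h5 : p * v * p⁻¹ = a * v * a⁻¹ := congrFun h3 ⟨v, hv⟩
    rw [← h4, mul_inv_cancel_right] at h5
    rw [eq_comm, ← mul_inv_eq_iff_eq_mul]
    exact h5.symm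

end Cfsg.Agent.Omega.NO3b.BasePt.Count
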