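import Mathlib

/-!
# 2-elements of `GL_K(A)`, `char K = 2`, are products of transvections

`two_mem_closure` : `e^(2^j) = 1` implies `e ∈ ⟨transvections⟩` (Dieudonné's theorem in Mathlib: `e` is not exceptional
and `det e = 1`).
-/

set_option autoImplicit false

namespace Cfsg.Agent.Omega.NO3b.BasePt.TwoTv

open Module LinearMap LinearEquiv
open scoped Pointwise

theorem pow_two_eq_one {K : Type*} [Field K] [CharP K 2] {a : K} {j : ℕ} (h : a ^ 2 ^ j = 1) : a = 1 := by
  have hf : Fact (Nat.Prime 2) := ⟨Nat.prime_two⟩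
  have h1 : (a - 1) ^ 2 ^ j = 0 := by rw [sub_pow_char_pow, one_pow, h, sub_self]
  exact sub_eq_zero.1 (pow_eq_zero_iff (pow_ne_zero j two_ne_zero) |>.1 h1)

theorem two_mem_closure {K A : Type*} [Field K] [CharP K 2] [AddCommGroup A] [Module K A] [Module.Finite K A]
    {e : A ≃ₗ[K] A} {j : ℕ} (h : e ^ 2 ^ j = 1) : e ∈ Subgroup.closure (LinearEquiv.transvections K A) := by
  have hdet : LinearEquiv.det e = 1 := by
    have h1 : (LinearEquiv.det e) ^ 2 ^ j = 1 := by rw [← map_pow, h, map_one]
    have h2 : ((LinearEquiv.det e : Kˣ) : K) ^ 2 ^ j = 1 := by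
      rw [← Units.val_pow_eq_pow_val, h1, Units.val_one]
    exact Units.ext (pow_two_eq_one h2)
  have hne : ¬ LinearEquiv.IsExceptional e := by
    rintro ⟨-, h1, a, ha⟩
    apply h1
    have hpow : ∀ (n : ℕ) (x : A), (Submodule.Quotient.mk ((e ^ n) x) : A ⧸ e.toLinearMap.fixedSubmodule) =
        a ^ n • Submodule.Quotient.mk x := by
      intro n
      induction n with
      | zero => intro x; rw [pow_zero, pow_zero, one_smul]; rfl
      | succ n ih =>
        intro x
        rw [pow_succ', pow_succ', mul_smul, ← ih, ← ha]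
        exact (LinearEquiv.fixedReduce_mk e _).symm
    have hx : ∀ x : A ⧸ e.toLinearMap.fixedSubmodule, e.fixedReduce x = x := by
      intro x
      obtain ⟨y, rfl⟩ := Submodule.Quotient.mk_surjective _ x
      by_cases h0 : (Submodule.Quotient.mk y : A ⧸ e.toLinearMap.fixedSubmodule) = 0
      · rw [h0, map_zero]
      · have h2 := hpow (2 ^ j) y
        rw [h] at h2
        have h3 : (1 - a ^ 2 ^ j) • (Submodule.Quotient.mk y : A ⧸ e.toLinearMap.fixedSubmodule) = 0 := by
          rw [sub_smul, one_smul, ← h2]
          exact sub_self _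
        have h4 : a ^ 2 ^ j = 1 := ((sub_eq_zero.1 ((smul_eq_zero.1 h3).resolve_right h0))).symm
        rw [ha, pow_two_eq_one h4, one_smul]
    exact LinearEquiv.ext hx
  have h2 := LinearEquiv.mem_transvections_pow_mul_dilatransvections_of_not_isExceptional hne
  obtain ⟨t, ht, d, hd, rfl⟩ := Set.mem_mul.1 h2
  have ht' : t ∈ Subgroup.closure (LinearEquiv.transvections K A) :=
    (Set.pow_subset_pow_left Subgroup.subset_closure).trans
      (fun x hx => by
        have : ∀ (n : ℕ) (x : A ≃ₗ[K] A), x ∈ ((Subgroup.closure (LinearEquiv.transvections K A) :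
            Subgroup (A ≃ₗ[K] A)) : Set (A ≃ₗ[K] A)) ^ n → x ∈ Subgroup.closure (LinearEquiv.transvections K A) := by
          intro n
          induction n with
          | zero =>
            intro x hx
            rw [pow_zero, Set.mem_one] at hx
            rw [hx]; exact one_mem _
          | succ n ih =>
            intro x hx
            rw [pow_succ] at hx
            obtain ⟨y, hy, z, hz, rfl⟩ := Set.mem_mul.1 hx
            exact mul_mem (ih y hy) hz
        exact this _ x hx) ht
  refine mul_mem ht' ?_
  have hdt : ∀ t ∈ Subgroup.closure (LinearEquiv.transvections K A), LinearEquiv.det t = 1 := by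
    intro t ht
    induction ht using Subgroup.closure_induction with
    | mem t ht =>
      obtain ⟨f, v, hfv, rfl⟩ := ht
      exact LinearEquiv.transvection.det_eq_one hfv
    | one => exact map_one _
    | mul a b _ _ ha hb => rw [map_mul, ha, hb, one_mul]
    | inv a _ ha => rw [map_inv, ha, inv_one]
  have hd1 : LinearEquiv.det d = 1 := by rwa [map_mul, hdt t ht', one_mul] at hdet
  obtain ⟨f, v, hfv⟩ := hd
  have h3 : f v = 0 := by
    have h4 : LinearMap.det (d : A →ₗ[K] A) = 1 := by
      rw [← LinearEquiv.coe_det, hd1, Units.val_one]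
    rw [hfv, LinearMap.transvection.det] at h4
    exact left_eq_add.1 h4.symm
  refine Subgroup.subset_closure ⟨f, v, h3, ?_⟩
  ext x
  rw [LinearEquiv.transvection.apply]
  have := congrArg (fun g : A →ₗ[K] A => g x) hfv
  exact this

/-- A subgroup of the `K`-linear automorphisms of `A` which contains all transvections contains the 2-elements. -/
theorem mem_of_two {K A : Type*} [Field K] [CharP K 2] [AddCommGroup A] [Module K A] [Module.Finite K A]
    {H : Subgroup (A ≃ₗ[K] A)} (hH : ∀ (φ : Module.Dual K A) (a : A) (h : φ a = 0), LinearEquiv.transvection h ∈ H)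
    {e : A ≃ₗ[K] A} {j : ℕ} (h : e ^ 2 ^ j = 1) : e ∈ H := by
  refine (Subgroup.closure_le H).2 ?_ (two_mem_closure h)
  rintro _ ⟨φ, a, ha, rfl⟩
  exact hH φ a ha

end Cfsg.Agent.Omega.NO3b.BasePt.TwoTv
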