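import Cfsg.Agent.Omega.NO3b.Exit.DescBlk
import Cfsg.Agent.Omega.NO3b.BasePt.TwoTv

/-!
# (P3) for one block (bb 22310, 22497): an automorphism which fixes `n ⊗ E`

`A` a finite irreducible `Y`-module, `K = End_Y(A)`, `E = Hom_Y(A, U) ≠ 0`, `n ∈ A`, `n ≠ 0`.

* `act_pt` : an injective endomorphism `μ` of `U` which normalises the action of `Y` and fixes `f n` for all `f ∈ E`
  acts on `A ⊗ E` as `g ⊗ 1`, `g` a `K`-linear automorphism of `A` (`Mdl.act` of TenMdl.lean with `n` instead of `A₀`);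
* `act_two` : if `Y` induces all transvections and `μ` is a 2-element then `μ` acts on `A ⊗ E` as an element of `Y`.
-/

set_option autoImplicit false

namespace Cfsg.Agent.Omega.NO3b.BasePt.ActPt

open Subgroup Cfsg.Agent.Omega.NO3b.Exit Cfsg.Agent.Omega.NO3b.Exit.Ten Cfsg.Agent.Omega.NO3b.Exit.Descent
open Cfsg.Agent.Omega.NO3b.BasePt.TwoTv

universe u v w

variable {Y : Type u} {A : Type v} {U : Type w} [Group Y] [AddCommGroup A] [DistribMulAction Y A] [AddCommGroup U]
  [DistribMulAction Y U] [Finite A] [hI : IsIrr Y A]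

theorem act_pt [Finite U] (μ : U →+ U) (hμ : Function.Injective μ)
    (h1 : ∀ k : Y, ∃ k' : Y, ∀ u, μ (k • u) = k' • μ u)
    (h2 : ∀ k' : Y, ∃ k : Y, ∀ u, μ (k • u) = k' • μ u) {n : A} (hn : n ≠ 0)
    (hF : ∀ f : HomY Y A U, μ ((f : A →+ U) n) = (f : A →+ U) n) {f₀ : HomY Y A U} (hf₀ : f₀ ≠ 0) :
    ∃ g : A →ₗ[KK Y A] A, Function.Injective g ∧
      ∀ (f : HomY Y A U) (a : A), μ ((f : A →+ U) a) = (f : A →+ U) (g a) := by
  classical
  have hFK : ∀ (f : HomY Y A U) (κ : KK Y A), μ ((f : A →+ U) (κ • n)) = (f : A →+ U) (κ • n) := by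
    intro f κ
    have h3 := hF (κ • f)
    rwa [HomY.smul_apply] at h3
  -- `μ f A ≤ f A`
  have h3 : ∀ (f : HomY Y A U) (a : A), ∃ b : A, μ ((f : A →+ U) a) = (f : A →+ U) b := by
    intro f
    let N : AddSubgroup A := ((f : A →+ U).range).comap (μ.comp (f : A →+ U))
    have hN : N = ⊤ := by
      rcases hI.irr N (fun k n hn => by
        obtain ⟨b, hb⟩ := hn
        obtain ⟨k', hk'⟩ := h1 k
        refine ⟨k' • b, ?_⟩
        rw [f.2, hb, AddMonoidHom.comp_apply, AddMonoidHom.comp_apply, f.2, hk']) with h | h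
      · exfalso
        apply hn
        have : n ∈ N := ⟨n, (hF f).symm⟩
        rw [h] at this
        exact this
      · exact h
    intro a
    have : a ∈ N := by rw [hN]; trivial
    obtain ⟨b, hb⟩ := this
    exact ⟨b, hb.symm⟩
  choose G hG using h3
  have hGadd : ∀ (f : HomY Y A U), f ≠ 0 → ∀ a b, G f (a + b) = G f a + G f b := fun f hf a b =>
    HomY.inj hf (by rw [← hG, map_add, map_add, map_add, ← hG, ← hG])
  have hGA : ∀ (f : HomY Y A U), f ≠ 0 → ∀ κ : KK Y A, G f (κ • n) = κ • n := fun f hf κ =>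
    HomY.inj hf (by rw [← hG, hFK])
  -- commutation with `K`
  have hGK : ∀ (f : HomY Y A U), f ≠ 0 → ∀ (κ : KK Y A) a, G f (κ • a) = κ • G f a := by
    intro f hf κ
    let g : A →+ A := AddMonoidHom.mk' (G f) (hGadd f hf)
    have hgi : Function.Injective g := by
      intro a b hab
      have hab' : G f a = G f b := hab
      exact HomY.inj hf (hμ (by rw [hG, hG, hab']))
    have hgb : Function.Bijective g := ⟨hgi, Finite.injective_iff_surjective.1 hgi⟩
    obtain ⟨r, hr⟩ := hgb.2.hasRightInverse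
    have hr' : ∀ a, r (g a) = a := fun a => hgi (hr _)
    have hradd : ∀ a b, r (a + b) = r a + r b := fun a b => hgi (by rw [hr, map_add, hr, hr])
    have hgk : ∀ k : Y, ∃ k₁ : Y, ∀ a, g (k₁ • a) = k • g a := by
      intro k
      obtain ⟨k₁, hk₁⟩ := h2 k
      refine ⟨k₁, fun a => HomY.inj hf ?_⟩
      change (f : A →+ U) (G f (k₁ • a)) = (f : A →+ U) (k • G f a)
      rw [← hG, f.2, f.2, hk₁, hG]
    have hrk : ∀ k : Y, ∃ k₁ : Y, (∀ a, g (k₁ • a) = k • g a) ∧ ∀ a, r (k • a) = k₁ • r a := by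
      intro k
      obtain ⟨k₁, hk₁⟩ := hgk k
      exact ⟨k₁, hk₁, fun a => hgi (by rw [hr, hk₁, hr])⟩
    let κ' : KK Y A := KK.mk Y A (AddMonoidHom.mk' (fun a => g (κ • r a)) fun a b => by
      rw [hradd, smul_add, map_add]) fun k a => by
        obtain ⟨k₁, hk₁, hk₁'⟩ := hrk k
        change g (κ • r (k • a)) = k • g (κ • r a)
        rw [hk₁', KK.smul_smul_comm, hk₁]
    have hκ' : ∀ a, κ' • a = g (κ • r a) := fun a => rfl
    have hgn : g n = n := by
      have := hGA f hf 1
      rwa [one_smul] at this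
    have hrs : r n = n := hgi (by rw [hr]; exact hgn.symm)
    have h5 : κ' • n = κ • n := by
      rw [hκ', hrs]
      exact hGA f hf κ
    have h6 : κ' = κ := by
      by_contra hne
      apply hn
      have h7 : (κ' - κ) • n = 0 := by rw [sub_smul, h5, sub_self]
      have h8 : (κ' - κ) ≠ 0 := sub_ne_zero.2 hne
      rw [← one_smul (KK Y A) n, ← inv_mul_cancel₀ h8, mul_smul, h7, smul_zero]
    intro a
    have h9 := hκ' (g a)
    rw [h6, hr'] at h9
    exact h9.symm
  -- all `G f` are equal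
  have hall : ∀ f : HomY Y A U, f ≠ 0 → ∀ a, G f a = G f₀ a := by
    intro f hf a
    by_cases hdep : ∃ κ : KK Y A, f = κ • f₀
    · obtain ⟨κ, hκ⟩ := hdep
      apply HomY.inj hf
      rw [← hG, hκ, HomY.smul_apply, HomY.smul_apply, hG, hGK f₀ hf₀]
    · have hli : LinearIndependent (KK Y A) ![f, f₀] := by
        rw [LinearIndependent.pair_iff]
        intro x y hxy
        have hx : x = 0 := by
          by_contra hx
          apply hdep
          refine ⟨-(x⁻¹ * y), ?_⟩
          rw [neg_smul, mul_smul, eq_neg_of_add_eq_zero_right hxy, smul_neg, neg_neg, smul_smul,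
            inv_mul_cancel₀ hx, one_smul]
        refine ⟨hx, ?_⟩
        by_contra hy
        rw [hx, zero_smul, zero_add] at hxy
        apply hf₀
        rw [← one_smul (KK Y A) f₀, ← inv_mul_cancel₀ hy, mul_smul, hxy, smul_zero]
      have hsum : f + f₀ ≠ 0 := by
        intro h0
        apply hdep
        exact ⟨-1, by rw [neg_smul, one_smul]; exact eq_neg_of_add_eq_zero_left h0⟩
      have h4 := HomY.ind hli Finset.univ ![G (f + f₀) a - G f a, G (f + f₀) a - G f₀ a] (by
        rw [Fin.sum_univ_two]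
        simp only [Matrix.cons_val_zero, Matrix.cons_val_one]
        have h5 := hG (f + f₀) a
        rw [AddSubgroup.coe_add, AddMonoidHom.add_apply, map_add, hG, hG, AddMonoidHom.add_apply] at h5
        rw [map_sub, map_sub]
        rw [sub_add_sub_comm, ← h5, sub_self])
      have h6 := h4 0 (Finset.mem_univ _)
      have h7 := h4 1 (Finset.mem_univ _)
      simp only [Matrix.cons_val_zero, Matrix.cons_val_one] at h6 h7
      rw [← sub_eq_zero.1 h6, sub_eq_zero.1 h7]
  refine ⟨{ toFun := G f₀, map_add' := hGadd f₀ hf₀, map_smul' := fun κ a => hGK f₀ hf₀ κ a }, ?_, ?_⟩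
  · intro a b hab
    have hab' : G f₀ a = G f₀ b := hab
    exact HomY.inj hf₀ (hμ (by rw [hG, hG, hab']))
  · intro f a
    change μ ((f : A →+ U) a) = (f : A →+ U) (G f₀ a)
    by_cases hf : f = 0
    · rw [hf]
      change μ 0 = 0
      exact map_zero μ
    · rw [hG, hall f hf]

/-- the characteristic of `K` is 2 -/
theorem charP_two (two : ∀ a : A, a + a = 0) : CharP (KK Y A) 2 := by
  obtain ⟨a, ha⟩ := hI.ne
  have hc2 : (1 : KK Y A) + 1 = 0 := by
    by_contra hne
    apply ha
    have h3 : ((1 : KK Y A) + 1) • a = 0 := by rw [add_smul, one_smul, two]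
    rw [← one_smul (KK Y A) a, ← inv_mul_cancel₀ hne, mul_smul, h3, smul_zero]
  exact CharTwo.of_one_ne_zero_of_two_eq_zero one_ne_zero (by rw [← one_add_one_eq_two, hc2])

/-- **(P3)** for one block -/
theorem act_two [Finite U] (htv : AllTv Y A) (two : ∀ a : A, a + a = 0) (μ : U →+ U) (hμ : Function.Injective μ)
    (h1 : ∀ k : Y, ∃ k' : Y, ∀ u, μ (k • u) = k' • μ u)
    (h2 : ∀ k' : Y, ∃ k : Y, ∀ u, μ (k • u) = k' • μ u) {n : A} (hn : n ≠ 0)
    (hF : ∀ f : HomY Y A U, μ ((f : A →+ U) n) = (f : A →+ U) n) {j : ℕ} (hj : ∀ v ∈ img Y A U, μ^[2 ^ j] v = v) :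
    ∃ y : Y, ∀ v ∈ img Y A U, μ v = y • v := by
  by_cases hex : ∃ f : HomY Y A U, f ≠ 0
  · obtain ⟨f₀, hf₀⟩ := hex
    obtain ⟨g, hgi, hg⟩ := act_pt μ hμ h1 h2 hn hF hf₀
    have hchar := charP_two (Y := Y) two
    have hfin : Module.Finite (KK Y A) A := Module.Finite.of_finite
    have hgn : ∀ (n : ℕ) (f : HomY Y A U) (x : A), μ^[n] ((f : A →+ U) x) = (f : A →+ U) (g^[n] x) := by
      intro n f
      induction n with
      | zero => intro x; rfl
      | succ n ih => intro x; rw [Function.iterate_succ_apply', ih, hg, Function.iterate_succ_apply']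
    have hgj : ∀ x, g^[2 ^ j] x = x := fun x => HomY.inj hf₀ (by rw [← hgn, hj _ (mem_img f₀ x)])
    let e : A ≃ₗ[KK Y A] A := LinearEquiv.ofBijective g ⟨hgi, Finite.injective_iff_surjective.1 hgi⟩
    have he : ∀ x, e x = g x := fun _ => rfl
    have hen : ∀ (n : ℕ) (x : A), (e ^ n) x = g^[n] x := by
      intro n
      induction n with
      | zero => intro x; rfl
      | succ n ih =>
        intro x
        rw [pow_succ', Function.iterate_succ_apply', ← ih]
        rfl
    have he1 : e ^ 2 ^ j = 1 := LinearEquiv.ext fun x => by rw [hen, hgj]; rfl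
    let H : Subgroup (A ≃ₗ[KK Y A] A) :=
      { carrier := {t | ∃ y : Y, ∀ a : A, t a = y • a}
        one_mem' := ⟨1, fun a => (one_smul Y a).symm⟩
        mul_mem' := by
          rintro s t ⟨y, hy⟩ ⟨z, hz⟩
          exact ⟨y * z, fun a => by rw [LinearEquiv.mul_apply, hz, hy, mul_smul]⟩
        inv_mem' := by
          rintro s ⟨y, hy⟩
          refine ⟨y⁻¹, fun a => ?_⟩
          have h3 : s (y⁻¹ • a) = a := by rw [hy, smul_inv_smul]
          have h4 : s⁻¹ (s (y⁻¹ • a)) = y⁻¹ • a := by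
            rw [← LinearEquiv.mul_apply, inv_mul_cancel]; rfl
          rwa [h3] at h4 }
    obtain ⟨y, hy⟩ : e ∈ H := mem_of_two (fun φ a h => by
      obtain ⟨k, hk⟩ := htv φ a h
      exact ⟨k, fun x => by rw [hk, LinearEquiv.transvection.apply]⟩) he1
    refine ⟨y, fun v hv => ?_⟩
    induction hv using AddSubgroup.closure_induction with
    | mem v hv =>
      obtain ⟨f, a, rfl⟩ := hv
      rw [hg, ← he, hy, f.2]
    | zero => rw [map_zero, smul_zero]
    | add a b _ _ ha hb => rw [map_add, smul_add, ha, hb]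
    | neg a _ ha => rw [map_neg, smul_neg, ha]
  · push Not at hex
    refine ⟨1, fun v hv => ?_⟩
    have hv0 : v = 0 := by
      induction hv using AddSubgroup.closure_induction with
      | mem v hv =>
        obtain ⟨f, a, rfl⟩ := hv
        rw [hex f]; rfl
      | zero => rfl
      | add a b _ _ ha hb => rw [ha, hb, add_zero]
      | neg a _ ha => rw [ha, neg_zero]
    rw [hv0, map_zero, smul_zero]

end Cfsg.Agent.Omega.NO3b.BasePt.ActPt
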