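import Cfsg.Agent.Omega.NO3b.Exit.TenMdl
import Cfsg.Agent.Omega.NO3b.Exit.DescBlk

/-!
# The base point (#22211 (3), helper16; #22310 LEMMA T2, helper506), part 1: one block `A ⊗_K E`

`Mdl V F C A₀ Q β` : `img Y A U = A ⊗ E`, `F ∩ (A ⊗ E) = A₀ ⊗ E`.

* `Mdl.act_top` : an automorphism `μ` of `A ⊗ E` which normalises the image of `Y` and is trivial modulo `F` acts as
  `g ⊗ 1`, `g : A → A` linear over `K`;
* `exists_of_sq` : `g : A → A` linear, `g² = 1`, and `Y` induces all transvections: `g` is induced by `Y`;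
* `Mdl.exists_top` : both together.
-/

set_option autoImplicit false

namespace Cfsg.Agent.Omega.NO3b.BasePt.ActTop

open Subgroup Cfsg.Agent.Omega.NO3b.Exit.Ten
open Cfsg.Agent.Omega.NO3b.Exit.Descent (AllTv img mem_img)

universe u v w

section mdl

variable {Y : Type u} {A : Type v} {U : Type w} [Group Y] [AddCommGroup A] [DistribMulAction Y A]
  [AddCommGroup U] [DistribMulAction Y U] {V F C : AddSubgroup U} {A₀ : AddSubgroup A} {Q : Subgroup Y}
  {β : A →+ U →+ U} [Finite A] [hI : IsIrr Y A]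

/-- **An automorphism normalising `Y`, trivial modulo `F`, is `g ⊗ 1`.** -/
theorem act_top [Finite U] (D : Mdl V F C A₀ Q β) (μ : U →+ U) (hμ : Function.Injective μ)
    (hI' : ∀ w ∈ img Y A U, μ w ∈ img Y A U)
    (h1 : ∀ k : Y, ∃ k' : Y, ∀ w ∈ img Y A U, μ (k • w) = k' • μ w)
    (h2 : ∀ k' : Y, ∃ k : Y, ∀ w ∈ img Y A U, μ (k • w) = k' • μ w)
    (hF : ∀ w ∈ img Y A U, μ w - w ∈ F) :
    ∃ g : A →ₗ[KK Y A] A, Function.Injective g ∧ (∀ a, g a - a ∈ A₀) ∧
      ∀ (f : HomY Y A U) (a : A), μ ((f : A →+ U) a) = (f : A →+ U) (g a) := by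
  classical
  obtain ⟨s₀, hs₀, hs0⟩ := D.ne
  obtain ⟨a₀, ha₀⟩ := D.nt
  have hfF : ∀ (f : HomY Y A U) {s : A}, s ∈ A₀ → (f : A →+ U) s ∈ F := by
    intro f s hs
    obtain ⟨u, rfl⟩ := D.psi_surj f
    exact D.inF s hs u
  -- `μ` is onto on `img ∩ F`
  have hsur : ∀ x ∈ img Y A U, x ∈ F → ∃ y ∈ img Y A U, y ∈ F ∧ μ y = x := by
    let X : AddSubgroup U := img Y A U ⊓ F
    have hX : ∀ x ∈ X, μ x ∈ X := by
      intro x hx
      refine ⟨hI' x hx.1, ?_⟩
      have e : μ x = (μ x - x) + x := by abel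
      rw [e]
      exact F.add_mem (hF x hx.1) hx.2
    let ν : X → X := fun x => ⟨μ x, hX x x.2⟩
    have hν : Function.Injective ν := fun x y hxy => Subtype.ext (hμ (congrArg Subtype.val hxy))
    intro x hx hxF
    obtain ⟨y, hy⟩ := (Finite.injective_iff_surjective.1 hν) ⟨x, hx, hxF⟩
    exact ⟨y, y.2.1, y.2.2, congrArg Subtype.val hy⟩
  -- `μ f A ≤ f A`
  have h3 : ∀ (f : HomY Y A U) (a : A), ∃ b : A, μ ((f : A →+ U) a) = (f : A →+ U) b := by
    intro f
    let N : AddSubgroup A := ((f : A →+ U).range).comap (μ.comp (f : A →+ U))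
    have hN : N = ⊤ := by
      rcases hI.irr N (fun k n hn => by
        obtain ⟨b, hb⟩ := hn
        obtain ⟨k', hk'⟩ := h1 k
        refine ⟨k' • b, ?_⟩
        rw [f.2, hb, AddMonoidHom.comp_apply, AddMonoidHom.comp_apply, f.2, hk' _ (mem_img f n)]) with h | h
      · exfalso
        apply hs0
        have : s₀ ∈ N := by
          obtain ⟨d, hd, hda⟩ := D.surj a₀ ha₀ s₀ hs₀
          obtain ⟨d', hd'⟩ := h1 d
          -- `x = μ f a₀ - f a₀` is fixed by `d'`
          have hx := hF _ (mem_img f a₀)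
          obtain ⟨y, hy, hyF, hyx⟩ := hsur _ (sub_mem (hI' _ (mem_img f a₀)) (mem_img f a₀)) hx
          have h5 : d' • (μ ((f : A →+ U) a₀) - (f : A →+ U) a₀) = μ ((f : A →+ U) a₀) - (f : A →+ U) a₀ := by
            rw [← hyx, ← hd' y hy, D.qF d hd y hyF]
          refine ⟨d' • a₀ - a₀, ?_⟩
          rw [AddMonoidHom.comp_apply, ← hda, map_sub, map_sub, map_sub, f.2, f.2, hd' _ (mem_img f a₀)]
          rw [smul_sub] at h5
          rw [sub_eq_sub_iff_sub_eq_sub] at h5
          exact h5.symm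
        rw [h] at this
        exact this
      · exact h
    intro a
    have : a ∈ N := by rw [hN]; trivial
    obtain ⟨b, hb⟩ := this
    exact ⟨b, hb.symm⟩
  choose G hG using h3
  have hGadd : ∀ (f : HomY Y A U), f ≠ 0 → ∀ a b, G f (a + b) = G f a + G f b := fun f hf a b =>
    HomY.inj hf (by rw [← hG, map_add, map_add, map_add, ← hG, ← hG])
  have hGA : ∀ (f : HomY Y A U), f ≠ 0 → ∀ a, G f a - a ∈ A₀ := by
    intro f hf a
    by_contra hcon
    apply hf
    refine D.val_inj hcon ?_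
    rw [map_sub, ← hG]
    exact hF _ (mem_img f a)
  -- commutation with `K`
  have hGK : ∀ (f : HomY Y A U), f ≠ 0 → ∀ (κ : KK Y A) a, G f (κ • a) = κ • G f a := by
    intro f hf κ
    let g : A →+ A := AddMonoidHom.mk' (G f) (hGadd f hf)
    have hgi : Function.Injective g := by
      intro a b hab
      have hab' : G f a = G f b := hab
      exact HomY.inj hf (hμ (by rw [hG, hG, hab']))
    have hgb : Function.Bijective g := ⟨hgi, Finite.injective_iff_surjective.1 hgi⟩
    obtain ⟨r, hr⟩ := hgb.2.hasRightInverse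
    have hr' : ∀ a, r (g a) = a := fun a => hgi (hr _)
    have hradd : ∀ a b, r (a + b) = r a + r b := fun a b => hgi (by rw [hr, map_add, hr, hr])
    have hgk : ∀ k : Y, ∃ k₁ : Y, ∀ a, g (k₁ • a) = k • g a := by
      intro k
      obtain ⟨k₁, hk₁⟩ := h2 k
      refine ⟨k₁, fun a => HomY.inj hf ?_⟩
      change (f : A →+ U) (G f (k₁ • a)) = (f : A →+ U) (k • G f a)
      rw [← hG, f.2, f.2, hk₁ _ (mem_img f a), hG]
    have hrk : ∀ k : Y, ∃ k₁ : Y, (∀ a, g (k₁ • a) = k • g a) ∧ ∀ a, r (k • a) = k₁ • r a := by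
      intro k
      obtain ⟨k₁, hk₁⟩ := hgk k
      exact ⟨k₁, hk₁, fun a => hgi (by rw [hr, hk₁, hr])⟩
    let κ' : KK Y A := KK.mk Y A (AddMonoidHom.mk' (fun a => g (κ • r a)) fun a b => by
      rw [hradd, smul_add, map_add]) fun k a => by
        obtain ⟨k₁, hk₁, hk₁'⟩ := hrk k
        change g (κ • r (k • a)) = k • g (κ • r a)
        rw [hk₁', KK.smul_smul_comm, hk₁]
    have hκ' : ∀ a, κ' • a = g (κ • r a) := fun a => rfl
    have hg0 : ∀ a, g a - a ∈ A₀ := fun a => hGA f hf a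
    have h5 : κ' • a₀ - κ • a₀ ∈ A₀ := by
      have e1 : κ' • g a₀ = g (κ • a₀) := by rw [hκ', hr']
      have e : κ' • a₀ - κ • a₀ = (g (κ • a₀) - κ • a₀) - κ' • (g a₀ - a₀) := by
        rw [smul_sub, e1]; abel
      rw [e]
      exact A₀.sub_mem (hg0 _) (D.smul_mem κ' (hg0 a₀))
    have h6 : κ' = κ := by
      by_contra hne
      apply ha₀
      have h8 : (κ' - κ) ≠ 0 := sub_ne_zero.2 hne
      rw [← sub_smul] at h5
      have h7 := D.smul_mem (κ' - κ)⁻¹ h5
      rwa [smul_smul, inv_mul_cancel₀ h8, one_smul] at h7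
    intro a
    have h9 := hκ' (g a)
    rw [h6, hr'] at h9
    exact h9.symm
  -- all `G f` are equal
  obtain ⟨f₀, hf₀⟩ := D.exists_ne
  have hall : ∀ f : HomY Y A U, f ≠ 0 → ∀ a, G f a = G f₀ a := by
    intro f hf a
    by_cases hdep : ∃ κ : KK Y A, f = κ • f₀
    · obtain ⟨κ, hκ⟩ := hdep
      apply HomY.inj hf
      rw [← hG, hκ, HomY.smul_apply, HomY.smul_apply, hG, hGK f₀ hf₀]
    · have hli : LinearIndependent (KK Y A) ![f, f₀] := by
        rw [LinearIndependent.pair_iff]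
        intro x y hxy
        have hx : x = 0 := by
          by_contra hx
          apply hdep
          refine ⟨-(x⁻¹ * y), ?_⟩
          rw [neg_smul, mul_smul, eq_neg_of_add_eq_zero_right hxy, smul_neg, neg_neg, smul_smul,
            inv_mul_cancel₀ hx, one_smul]
        refine ⟨hx, ?_⟩
        by_contra hy
        rw [hx, zero_smul, zero_add] at hxy
        apply hf₀
        rw [← one_smul (KK Y A) f₀, ← inv_mul_cancel₀ hy, mul_smul, hxy, smul_zero]
      have hsum : f + f₀ ≠ 0 := by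
        intro h0
        apply hdep
        exact ⟨-1, by rw [neg_smul, one_smul]; exact eq_neg_of_add_eq_zero_left h0⟩
      have h4 := HomY.ind hli Finset.univ ![G (f + f₀) a - G f a, G (f + f₀) a - G f₀ a] (by
        rw [Fin.sum_univ_two]
        simp only [Matrix.cons_val_zero, Matrix.cons_val_one]
        have h5 := hG (f + f₀) a
        rw [AddSubgroup.coe_add, AddMonoidHom.add_apply, map_add, hG, hG, AddMonoidHom.add_apply] at h5
        rw [map_sub, map_sub]
        rw [sub_add_sub_comm, ← h5, sub_self])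
      have h6 := h4 0 (Finset.mem_univ _)
      have h7 := h4 1 (Finset.mem_univ _)
      simp only [Matrix.cons_val_zero, Matrix.cons_val_one] at h6 h7
      rw [← sub_eq_zero.1 h6, sub_eq_zero.1 h7]
  refine ⟨{ toFun := G f₀, map_add' := hGadd f₀ hf₀, map_smul' := fun κ a => hGK f₀ hf₀ κ a }, ?_, ?_, ?_⟩
  · intro a b hab
    have hab' : G f₀ a = G f₀ b := hab
    exact HomY.inj hf₀ (hμ (by rw [hG, hG, hab']))
  · exact fun s => hGA f₀ hf₀ s
  · intro f a
    change μ ((f : A →+ U) a) = (f : A →+ U) (G f₀ a)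
    by_cases hf : f = 0
    · rw [hf]
      change μ 0 = 0
      exact map_zero μ
    · rw [hG, hall f hf]

end mdl

section sq

variable {Y : Type u} {A : Type v} [Group Y] [AddCommGroup A] [DistribMulAction Y A] [Finite A] [hI : IsIrr Y A]

/-- `1 + N`, `N² = 0`, is a product of transvections. -/
theorem exists_of_nil (htv : AllTv Y A) (n : ℕ) : ∀ N : A →ₗ[KK Y A] A, (∀ a, N (N a) = 0) →
    Module.finrank (KK Y A) (LinearMap.range N) ≤ n → ∃ k : Y, ∀ a, k • a = a + N a := by
  induction n with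
  | zero =>
    intro N _ h0
    have hfin : Module.Finite (KK Y A) (LinearMap.range N) := Module.Finite.of_finite
    have h1 : LinearMap.range N = ⊥ := Submodule.finrank_eq_zero.1 (Nat.le_zero.1 h0)
    refine ⟨1, fun a => ?_⟩
    have h2 : N a ∈ LinearMap.range N := ⟨a, rfl⟩
    rw [h1, Submodule.mem_bot] at h2
    rw [one_smul, h2, add_zero]
  | succ n ih =>
    intro N hN hn
    by_cases h0 : ∀ a, N a = 0
    · exact ⟨1, fun a => by rw [one_smul, h0, add_zero]⟩
    push Not at h0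
    obtain ⟨b, hb⟩ := h0
    -- a functional `ψ` with `ψ (N b) = 1`
    have hli : N b ∉ (⊥ : Submodule (KK Y A) A) := fun h => hb ((Submodule.mem_bot _).1 h)
    obtain ⟨ψ₀, hψ1, -⟩ := Submodule.exists_dual_map_eq_bot_of_notMem hli inferInstance
    set ψ : Module.Dual (KK Y A) A := (ψ₀ (N b))⁻¹ • ψ₀ with hψdef
    have hψ : ψ (N b) = 1 := by rw [hψdef, LinearMap.smul_apply, smul_eq_mul, inv_mul_cancel₀ hψ1]
    let N' : A →ₗ[KK Y A] A := N - (ψ.comp N).smulRight (N b)
    have hN' : ∀ a, N' a = N a - ψ (N a) • N b := fun a => rfl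
    have hNN' : ∀ a, N (N' a) = 0 := by
      intro a
      rw [hN', map_sub, map_smul, hN, hN, smul_zero, sub_zero]
    have hN'2 : ∀ a, N' (N' a) = 0 := by
      intro a
      rw [hN' (N' a), hNN', map_zero, zero_smul, sub_zero]
    have hψN' : ∀ a, ψ (N' a) = 0 := by
      intro a
      rw [hN', map_sub, map_smul, hψ, smul_eq_mul, mul_one, sub_self]
    have hlt : LinearMap.range N' < LinearMap.range N := by
      refine lt_of_le_of_ne ?_ ?_
      · rintro _ ⟨a, rfl⟩
        rw [hN']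
        exact Submodule.sub_mem _ ⟨a, rfl⟩ (Submodule.smul_mem _ _ ⟨b, rfl⟩)
      · intro he
        have h1 : N b ∈ LinearMap.range N' := by rw [he]; exact ⟨b, rfl⟩
        obtain ⟨a, ha⟩ := h1
        have h2 := hψN' a
        rw [ha, hψ] at h2
        exact one_ne_zero h2
    have hfin : Module.Finite (KK Y A) (LinearMap.range N) := Module.Finite.of_finite
    have h2 := Submodule.finrank_lt_finrank_of_lt hlt
    obtain ⟨k, hk⟩ := ih N' hN'2 (by omega)
    obtain ⟨k₁, hk₁⟩ := htv (ψ.comp N) (N b) (by rw [LinearMap.comp_apply, hN, map_zero])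
    refine ⟨k₁ * k, fun a => ?_⟩
    rw [mul_smul, hk, hk₁]
    have h3 : (ψ.comp N) (a + N' a) = ψ (N a) := by
      rw [map_add, LinearMap.comp_apply, LinearMap.comp_apply, hNN', map_zero, add_zero]
    rw [h3, hN']
    abel

/-- a linear involution is induced by `Y`. -/
theorem exists_of_sq (htv : AllTv Y A) (two : ∀ a : A, a + a = 0) (g : A →ₗ[KK Y A] A) (hg : ∀ a, g (g a) = a) :
    ∃ k : Y, ∀ a, k • a = g a := by
  obtain ⟨k, hk⟩ := exists_of_nil htv _ (g - LinearMap.id) (fun a => by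
    simp only [LinearMap.sub_apply, LinearMap.id_apply, map_sub, hg]
    have h1 := two (a - g a)
    have e : a - g a - (g a - a) = (a - g a) + (a - g a) := by abel
    rw [e, h1]) le_rfl
  refine ⟨k, fun a => ?_⟩
  rw [hk, LinearMap.sub_apply, LinearMap.id_apply]
  abel

end sq

end Cfsg.Agent.Omega.NO3b.BasePt.ActTop
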