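import Cfsg.Agent.Omega.NO3b.Exit.BlkHX

/-!
# The blocks of `V` (helper255's `Blk0`): fixed points of elements of `KV` (helper556, #22497 (a))

* `mem_F_of_fix` : `C_V(Q) ≤ F`;
* `exists_lin` : `k ∈ KV` acts on `V₁ = A ⊗ E` as `g ⊗ 1`, `g` a `K`-linear map of `A`;
* `fix_le` : if `k ∈ KV` moves a block then `C_V(k) ≤ m F` for some `m ∈ M`;
* `V1_fixN` : a subgroup `N` normalised by `Y` which moves `V₁` has no fixed points on `V₁`;
* `cent_YM` : an `M`-invariant `W ≤ V` centralised by an element of `Y` which moves `V₁` is centralised by `YM`;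
  `inf_all` : and meets `all` trivially.
-/

set_option autoImplicit false

open scoped Pointwise

namespace Cfsg.Agent.Omega.NO3b.BasePt

open Subgroup Cfsg.Agent.Omega.NO3b.Exit Ten Descent
open Cfsg.Agent.Omega.NO3b.Exit.TBlk hiding Blk
open Cfsg.Agent.Omega.NO3b.Exit.BlkZ

universe u v

section dat

variable {H : Type u} {U : Type v} [Group H] [Finite H] [AddCommGroup U] [DistribMulAction H U] [Finite U]
variable {Y Q BB : Subgroup H} {V F L C : AddSubgroup U} {h : H} (D : Dat Y Q BB V F L C h)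

include D in
/-- `C_V(Q) ≤ F` -/
theorem mem_F_of_fix {v : U} (hv : v ∈ V) (hf : ∀ d ∈ Q, d • v = v) : v ∈ F := by
  obtain ⟨y, hy, hy'⟩ := D.exists_notMem
  obtain ⟨l, hl, f, hfF, rfl⟩ := D.span (D.AA_le hy) hy' (D.AA_V hy) hv
  obtain ⟨s, hs, hs1, hsF⟩ := D.ne
  obtain ⟨d, hd, e⟩ := D.surj (D.AA_le hy) hy' (D.AA_V hy) (s := s) ⟨hs, hsF⟩
  have h1 : br s l = 0 := by
    rw [← e, D.br_comm (D.QY hd) (D.AA_le hy)]
    have h2 := hf d hd
    rw [smul_add, D.qF d hd f hfF] at h2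
    exact br_eq_zero.2 (add_right_cancel h2)
  by_cases hlC : l ∈ C
  · rw [D.br_C (D.AA_le hy) hlC, zero_add]; exact hfF
  · exact absurd (eq_one_of_br D hlC (D.AZ_le_AA ⟨hs, hsF⟩) h1) hs1

theorem hom_mem_F (e : HomY Y (AM D) U) {s : AM D} (hs : s ∈ D.AZM) : (e : AM D →+ U) s ∈ F := by
  obtain ⟨u, rfl⟩ := D.mdl.psi_surj e
  exact D.mdl.inF s hs u

theorem hom_mem_V1 (f : HomY Y (AM D) U) (w : AM D) : (f : AM D →+ U) w ∈ V1 D := by
  obtain ⟨u, rfl⟩ := D.mdl.psi_surj f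
  rw [Mdl.psi_apply, D.bt_apply]
  exact br_mem_V1 D w.val_mem u

/-- an element trivial on `F` which moves `V` moves `V₁` -/
theorem exists_V1_move {d : H} (hd : ∀ f ∈ F, d • f = f) {v : U} (hv : v ∈ V) (hdv : d • v ≠ v) :
    ∃ w ∈ V1 D, d • w ≠ w := by
  obtain ⟨y, hy, l, -, f, hf, rfl⟩ := D.V_span hv
  refine ⟨br y l, br_mem_V1 D hy l, fun h0 => hdv ?_⟩
  rw [smul_add, h0, hd f hf]

end dat

section blk

variable {H : Type u} {U : Type v} [Group H] [Finite H] [AddCommGroup U] [DistribMulAction H U] [Finite U]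
variable {Y Q BB : Subgroup H} {V F L C : AddSubgroup U} {h : H} {M KV S : Subgroup H}
variable (B : Blk0 Y Q BB V F L C h M KV S)

/-- `k ∈ KV` acts on `V₁ = A ⊗ E` as `g ⊗ 1` with a `K`-linear `g` -/
theorem exists_lin {k : H} (hk : k ∈ KV) : ∃ g : AM B.dat →ₗ[KK Y (AM B.dat)] AM B.dat,
    (∀ a : AM B.dat, (g a).val = k * a.val * k⁻¹) ∧
      ∀ (f : HomY Y (AM B.dat) U) (a : AM B.dat), k • (f : AM B.dat →+ U) a = (f : AM B.dat →+ U) (g a) := by
  let c : AM B.dat →+ AM B.dat :=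
    AddMonoidHom.mk' (fun a => AM.mk (k * a.val * k⁻¹) (B.AA_K k hk _ a.val_mem)) fun a b => AM.ext (by
      change k * (a.val * b.val) * k⁻¹ = k * a.val * k⁻¹ * (k * b.val * k⁻¹)
      group)
  have hc : ∀ (f : HomY Y (AM B.dat) U) (a : AM B.dat), k • (f : AM B.dat →+ U) a = (f : AM B.dat →+ U) (c a) := by
    intro f a
    obtain ⟨u, rfl⟩ := B.dat.mdl.psi_surj f
    rw [Mdl.psi_apply, Mdl.psi_apply, B.dat.bt_apply, B.dat.bt_apply]
    exact (B.br_K hk a.val_mem u).symm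
  obtain ⟨f₀, hf₀⟩ := B.dat.mdl.exists_ne
  refine ⟨{ toFun := c, map_add' := map_add c, map_smul' := fun κ a => HomY.inj hf₀ ?_ }, fun a => rfl, hc⟩
  rw [← hc, ← HomY.smul_apply, hc, HomY.smul_apply]
  rfl

/-- if `k ∈ KV` moves the block `V₁` then `C_V(k) ≤ g F` for some `g ∈ Y` -/
theorem fix_le_one {k : H} (hk : k ∈ KV) {v : U} (hv : v ∈ V1 B.dat) (hkv : k • v ≠ v) :
    ∃ g ∈ Y, ∀ x ∈ V, k • x = x → g⁻¹ • x ∈ F := by
  obtain ⟨c, -, hc⟩ := exists_lin B hk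
  -- `c ≠ 1`
  have hne : LinearMap.ker (c - LinearMap.id) ≠ ⊤ := by
    intro h0
    have h1 : ∀ a, c a = a := fun a => by
      have h2 : a ∈ LinearMap.ker (c - LinearMap.id) := by rw [h0]; trivial
      rw [LinearMap.mem_ker, LinearMap.sub_apply, LinearMap.id_apply] at h2
      exact sub_eq_zero.1 h2
    apply hkv
    have h2 := V1_le_img B.dat hv
    clear hv hkv
    induction h2 using AddSubgroup.closure_induction with
    | mem x hx =>
      obtain ⟨f, a, rfl⟩ := hx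
      rw [hc, h1]
    | zero => exact smul_zero _
    | add a b _ _ ha hb => rw [smul_add, ha, hb]
    | neg a _ ha => rw [smul_neg, ha]
  obtain ⟨φ, hφ, hle⟩ := Submodule.exists_le_ker_of_lt_top _ (lt_top_iff_ne_top.2 hne)
  obtain ⟨g, hg⟩ := B.dat.mdl.axis hφ
  refine ⟨g, g.2, fun x hx hkx => ?_⟩
  have hgY : ∀ z : U, (∀ y ∈ Y, ((1 : H) * y * (1 : H)⁻¹) • z = z) → (g : H)⁻¹ • z = z := by
    intro z hz
    have h1 := hz _ (inv_mem g.2)
    rwa [one_mul, inv_one, mul_one] at h1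
  have hF : ∀ z ∈ V, (∀ y ∈ Y, ((1 : H) * y * (1 : H)⁻¹) • z = z) → z ∈ F := by
    intro z hz hz'
    refine mem_F_of_fix B.dat hz fun d hd => ?_
    have h1 := hz' d (B.dat.QY hd)
    rwa [one_mul, inv_one, mul_one] at h1
  obtain ⟨a, ha, z, hz, hzY, rfl⟩ := B.gen_dec hx
  obtain ⟨a1, ha1, b1, hb1, rfl⟩ := B.mem_all ha 1
  have hzY' : ∀ y ∈ Y, ((1 : H) * y * (1 : H)⁻¹) • z = z := fun y hy => hzY _ (B.conj_mem_YM (one_mem _) hy)
  have hbY : ∀ y ∈ Y, ((1 : H) * y * (1 : H)⁻¹) • b1 = b1 := fun y hy => B.cent_rest (one_mem _) hy hb1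
  -- `k a = a`
  have hka : k • (a1 + b1) = a1 + b1 := by
    have h1 : k • (a1 + b1) - (a1 + b1) = z - k • z := by
      rw [smul_add] at hkx
      rw [sub_eq_sub_iff_add_eq_add, hkx, add_comm]
    rw [← sub_eq_zero]
    refine B.all_sep (sub_mem (B.all_M (B.KM hk) ha) ha) fun m hm y hy => ?_
    rw [h1, smul_sub]
    have h2 := hzY _ (B.conj_mem_YM hm hy)
    have h3 := hzY _ (B.YM_conj (inv_mem (B.KM hk)) (B.conj_mem_YM hm hy))
    rw [inv_inv, mul_smul, mul_smul, inv_smul_eq_iff] at h3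
    rw [h2, h3]
  have hk1 : k • a1 = a1 := B.comp_fix (one_mem _) ha1 hb1 rfl hka hk
  rw [one_smul] at ha1
  -- coordinates
  obtain ⟨n, f, hf, hco⟩ := exists_coord (Y := Y) (A := AM B.dat) (U := U)
  obtain ⟨α, hα⟩ := hco a1 (V1_le_img B.dat ha1)
  have hcα : ∀ i, c (α i) = α i := by
    intro i
    have h3 := HomY.ind hf Finset.univ (fun i => c (α i) - α i) (by
      rw [hα, Finset.smul_sum, ← sub_eq_zero, ← Finset.sum_sub_distrib] at hk1
      rw [← hk1]
      exact Finset.sum_congr rfl fun i _ => by rw [map_sub, hc]) i (Finset.mem_univ _)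
    exact sub_eq_zero.1 h3
  have hφα : ∀ i, g⁻¹ • α i ∈ B.dat.AZM := by
    intro i
    refine (hg (α i)).1 ?_
    have h1 : α i ∈ LinearMap.ker (c - LinearMap.id) := by
      rw [LinearMap.mem_ker, LinearMap.sub_apply, LinearMap.id_apply, hcα, sub_self]
    exact hle h1
  rw [smul_add, smul_add, hgY _ hbY, hgY _ hzY']
  refine F.add_mem (F.add_mem ?_ (hF _ (B.rest_le 1 hb1) hbY)) (hF _ hz hzY')
  rw [hα, Finset.smul_sum]
  refine F.sum_mem fun i _ => ?_
  have h1 : (g : H)⁻¹ • (f i : AM B.dat →+ U) (α i) = (f i : AM B.dat →+ U) (g⁻¹ • α i) := ((f i).2 g⁻¹ (α i)).symm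
  rw [h1]
  exact hom_mem_F B.dat _ (hφα i)

/-- **if `k ∈ KV` moves a block then `C_V(k) ≤ m F` for some `m ∈ M`** -/
theorem fix_le {k : H} (hk : k ∈ KV) {v : U} (hv : v ∈ B.all) (hkv : k • v ≠ v) :
    ∃ m ∈ M, ∀ x ∈ V, k • x = x → m⁻¹ • x ∈ F := by
  have h1 : ∃ m ∈ M, ∃ w ∈ m • V1 B.dat, k • w ≠ w := by
    by_contra hcon
    push Not at hcon
    apply hkv
    clear hkv
    induction hv using AddSubgroup.closure_induction with
    | mem v hv =>
      obtain ⟨m, hm, hv⟩ := hv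
      exact hcon m hm v hv
    | zero => exact smul_zero _
    | add a b _ _ ha hb => rw [smul_add, ha, hb]
    | neg a _ ha => rw [smul_neg, ha]
  obtain ⟨m, hm, w, hw, hkw⟩ := h1
  obtain ⟨w', hw', rfl⟩ := B.mem_smul.1 hw
  obtain ⟨g, hg, h2⟩ := fix_le_one B (B.nK' hm hk) hw' (fun h0 => hkw (by
    rw [mul_smul, mul_smul, inv_smul_eq_iff] at h0
    exact h0))
  refine ⟨m * g, mul_mem hm (B.KM (B.YK hg)), fun x hx hkx => ?_⟩
  have h3 := h2 (m⁻¹ • x) (B.mV _ (inv_mem hm) x hx) (by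
    rw [mul_smul, mul_smul, smul_inv_smul, hkx])
  rwa [mul_inv_rev, mul_smul]

/-- a subgroup `N` normalised by `Y` which moves `V₁` has no fixed points on `V₁` -/
theorem V1_fixN {N : Subgroup H} (hNK : N ≤ KV) (hN : ∀ k ∈ Y, ∀ n ∈ N, k * n * k⁻¹ ∈ N) {d : H} (hdN : d ∈ N)
    {v : U} (hv : v ∈ V1 B.dat) (hdv : d • v ≠ v) {w : U} (hw : w ∈ V1 B.dat) (hwN : ∀ n ∈ N, n • w = w) : w = 0 := by
  let A' : AddSubgroup (AM B.dat) :=
    { carrier := {a | ∀ n ∈ N, n * a.val * n⁻¹ = a.val}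
      zero_mem' := fun n _ => by rw [AM.val_zero]; group
      add_mem' := fun {a b} ha hb n hn => by
        rw [AM.val_add]
        conv_rhs => rw [← ha n hn, ← hb n hn]
        group
      neg_mem' := fun {a} ha n hn => by
        rw [AM.val_neg]
        conv_rhs => rw [← ha n hn]
        group }
  have hA' : A' = ⊥ := by
    rcases (B.dat.isIrr).irr A' (fun k a ha n hn => by
      have h1 := ha _ (hN _ (inv_mem k.2) n hn)
      rw [inv_inv] at h1
      rw [AM.val_smul]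
      conv_rhs => rw [← h1]
      group) with h1 | h1
    · exact h1
    · exfalso
      apply hdv
      obtain ⟨c, hcv, hc⟩ := exists_lin B (hNK hdN)
      have h2 : ∀ a, c a = a := fun a => AM.ext (by
        have h3 : a ∈ A' := by rw [h1]; trivial
        rw [hcv]; exact h3 d hdN)
      have h3 := V1_le_img B.dat hv
      clear hv hdv
      induction h3 using AddSubgroup.closure_induction with
      | mem x hx =>
        obtain ⟨f, a, rfl⟩ := hx
        rw [hc, h2]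
      | zero => exact smul_zero _
      | add a b _ _ ha hb => rw [smul_add, ha, hb]
      | neg a _ ha => rw [smul_neg, ha]
  obtain ⟨n, f, hf, hco⟩ := exists_coord (Y := Y) (A := AM B.dat) (U := U)
  obtain ⟨α, rfl⟩ := hco w (V1_le_img B.dat hw)
  have hα : ∀ i, α i = 0 := by
    intro i
    have h1 : α i ∈ A' := by
      intro x hx
      obtain ⟨c, hcv, hc⟩ := exists_lin B (hNK hx)
      have h2 := hwN x hx
      have h3 := HomY.ind hf Finset.univ (fun i => c (α i) - α i) (by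
        rw [Finset.smul_sum, ← sub_eq_zero, ← Finset.sum_sub_distrib] at h2
        rw [← h2]
        exact Finset.sum_congr rfl fun i _ => by rw [map_sub, hc]) i (Finset.mem_univ _)
      rw [← hcv, sub_eq_zero.1 h3]
    rw [hA'] at h1
    exact h1
  exact Finset.sum_eq_zero fun i _ => by rw [hα i, map_zero]

/-- an `M`-invariant `W ≤ V` centralised by an element of `Y` which moves `V₁` is centralised by `YM` -/
theorem cent_YM {W : AddSubgroup U} (hWV : W ≤ V) (hW : ∀ m ∈ M, ∀ w ∈ W, m • w ∈ W) {d : H} (hd : d ∈ Y)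
    {v : U} (hv : v ∈ V1 B.dat) (hdv : d • v ≠ v) (hdW : ∀ w ∈ W, d • w = w) {m : H} (hm : m ∈ M) {k : H}
    (hk : k ∈ Y) {w : U} (hw : w ∈ W) : (m * k * m⁻¹) • w = w := by
  have hYM : ∀ y ∈ Y, y ∈ M := fun y hy => B.KM (B.YK hy)
  let N : Subgroup H :=
    { carrier := {y | y ∈ Y ∧ ∀ w ∈ W, y • w = w}
      one_mem' := ⟨one_mem _, fun w _ => one_smul _ w⟩
      mul_mem' := fun {a b} ha hb => ⟨mul_mem ha.1 hb.1, fun w hw => by rw [mul_smul, hb.2 w hw, ha.2 w hw]⟩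
      inv_mem' := fun {a} ha => ⟨inv_mem ha.1, fun w hw => by rw [inv_smul_eq_iff, ha.2 w hw]⟩ }
  have hN : ∀ k ∈ Y, ∀ n ∈ N, k * n * k⁻¹ ∈ N := fun k hk n hn =>
    ⟨mul_mem (mul_mem hk hn.1) (inv_mem hk), fun w hw => by
      rw [mul_smul, mul_smul, hn.2 _ (hW _ (hYM _ (inv_mem hk)) w hw), smul_inv_smul]⟩
  have key : ∀ y ∈ Y, ∀ w ∈ W, y • w = w := by
    intro y hy w hw
    rw [← br_eq_zero]
    refine V1_fixN B (N := N) (fun n hn => B.YK hn.1) hN (d := d) ⟨hd, hdW⟩ hv hdv (br_Y_V1 B.dat hy (hWV hw))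
      fun n hn => hn.2 _ ?_
    rw [br_def]
    exact sub_mem (hW _ (hYM y hy) w hw) hw
  rw [mul_smul, mul_smul, key k hk _ (hW _ (inv_mem hm) w hw), smul_inv_smul]

end blk

end Cfsg.Agent.Omega.NO3b.BasePt
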