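import Cfsg.Agent.Omega.NO3b.Exit.BlkHX
import Cfsg.Agent.Omega.NO3b.Exit.TightBlkMX
import Cfsg.Agent.Omega.NO3b.Chain.Group

/-!
# The blocks of `V` for a panel, in any module `U` (3L-T, GammaFF (S4))

`V ≤ U` elementary abelian, `H ≤ N_G(U)`, `M₀ ≤ H`, `F ≤ V`.

* `BlkIn S V M₀ F hH hU` : the blocks `Blk0` of `V` with flat `F` in the module `U`;
* `blkIn_of_mx` : from the M-side frame `MX`;
* `PanSys S V M₀ F U H` : a family of panels with flats `F i`; panel `i` has its blocks in `U i`, and for `i`, `j` one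
  of them has its blocks in some `U' ≥ U i, U j`.
-/

set_option autoImplicit false

namespace Cfsg.Agent.Omega.NO3b.BasePt

open Subgroup Cfsg
open Cfsg.Agent.ZN.ChoiceBase hiding mem_zc
open Cfsg.Agent.Omega.NO3b.Exit.Bridge
open Cfsg.Agent.Omega.NO3b.Exit (LocBar.im_mono LocBar.isPGroup_im LocBar.syl_im)
open Cfsg.Agent.Omega.NO3b.Exit.TDat (MX sbc FFq ncl KV)
open Cfsg.Agent.Omega.NO3b.Exit.BlkZ (Blk0)
open Cfsg.Agent.Omega.NO3b.Exit.TBlk (sn_sbc_of_le)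
open Cfsg.Agent.Omega.FFBr (XX im)
open Cfsg.Agent.Omega.FF.Basic (fx)
open scoped Pointwise

universe u v w

/-- The plug `MX → Blk0`. -/
theorem blk0_of_mx {Γ : Type u} {U : Type v} [Group Γ] [Finite Γ] [AddCommGroup U] [DistribMulAction Γ U]
    {M X D A : Subgroup Γ} {V F : AddSubgroup U} {g : Γ} (h : MX M X D A V F g) {S : Subgroup Γ} (SM : S ≤ M)
    (S2 : IsPGroup 2 S) (syl : ¬ 2 ∣ S.relIndex M) :
    Blk0 (sbc M (FFq M F)) (FFq M F) (ncl (KV M V h.MV) A) V F (g • V) (fx U A) g⁻¹ M (KV M V h.MV) S where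
  dat := h.dat
  KM := fun _ hk => hk.1
  nK := fun _ hm _ hk => h.KV_norm hm hk
  mV := h.MV
  kV := fun _ hk => hk.2
  kB := fun _ hk _ hb => NO3b.Exit.TDat.ncl_conj hk hb
  sn := sn_sbc_of_le MX.FFq_le_M h.sbc_le_KV fun _ hk => hk.1
  SM := SM
  S2 := S2
  syl := syl

variable {G : Type u} [Group G]

/-- The blocks of `V` for the panel with flat `F`, in the module `U`. -/
def BlkIn (S V M₀ F : Subgroup G) {U H : Subgroup G} (hH : H ≤ normalizer (U : Set G))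
    (hU : U ≤ centralizer (U : Set G)) : Prop :=
  ∃ (BB : Subgroup (XX hH)) (Lw C : AddSubgroup (MU hU)) (x : XX hH)
    (hV : ∀ m ∈ im hH M₀, ∀ v ∈ ad hU V, m • v ∈ ad hU V),
    Blk0 (sbc (im hH M₀) (FFq (im hH M₀) (ad hU F))) (FFq (im hH M₀) (ad hU F)) BB (ad hU V) (ad hU F) Lw C x
      (im hH M₀) (KV (im hH M₀) (ad hU V) hV) (im hH S)

/-- `MX` gives the blocks -/
theorem blkIn_of_mx [Finite G] {S V M₀ F : Subgroup G} {U H : Subgroup G} {hH : H ≤ normalizer (U : Set G)}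
    {hU : U ≤ centralizer (U : Set G)} {X D A : Subgroup (XX hH)} {g : XX hH}
    (m : MX (im hH M₀) X D A (ad hU V) (ad hU F) g) (SM : S ≤ M₀) (S2 : IsPGroup 2 S)
    (syl : ¬ 2 ∣ (im hH S).relIndex (im hH M₀)) : BlkIn S V M₀ F hH hU :=
  ⟨_, _, _, _, m.MV, blk0_of_mx m (LocBar.im_mono _ SM) (LocBar.isPGroup_im _ S2) syl⟩

/-- A family of panels of `V`: panel `i` has flat `F i` and its blocks in `U i`; for `i`, `j` one of them has its
blocks in a module which contains `U i`, `U j`. -/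
structure PanSys (S V M₀ : Subgroup G) {ι : Type w} (F U H : ι → Subgroup G) : Prop where
  hH : ∀ i, H i ≤ normalizer (U i : Set G)
  hU : ∀ i, U i ≤ centralizer (U i : Set G)
  VU : ∀ i, V ≤ U i
  MH : ∀ i, M₀ ≤ H i
  FV : ∀ i, F i ≤ V
  one : ∀ i, BlkIn S V M₀ (F i) (hH i) (hU i)
  two : ∀ i j, ∃ (U' H' : Subgroup G) (hH' : H' ≤ normalizer (U' : Set G)) (hU' : U' ≤ centralizer (U' : Set G)),
    U i ≤ U' ∧ U j ≤ U' ∧ M₀ ≤ H' ∧ (BlkIn S V M₀ (F i) hH' hU' ∨ BlkIn S V M₀ (F j) hH' hU')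

end Cfsg.Agent.Omega.NO3b.BasePt
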