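import Cfsg.Agent.Omega.NO3b.BasePt.Def
import Cfsg.Agent.Omega.NO3b.OneR.Lin

/-!
# One block `V = img Y A W = A ⊗_K E`, `E = Hom_Y(A, W)` (NotFFG, base point, (B1); helper25)

* `exists_coef` : for `0 ≠ f ∈ E` there is a `Y`-map `c : V → A` with `c (f a) = a`;
* `exists_act` : `k` normalising `V` and commuting with `End_Y(V)` acts on `V` as `θ ⊗ 1`, `θ` `K`-linear;
* `prod_tv` : a group inducing all transvections induces every `1 + δ`, `δ² = 0`;
* `ns` : a group acting through `A`, normalised by `Y`, containing an involution moving `V`, induces all transvections;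
* `contr`, `fix_eq_zero`, `exists_sub`.
-/

set_option autoImplicit false

namespace Cfsg.Agent.Omega.NO3b.BasePt.Pr

open Subgroup
open Cfsg.Agent.Omega.NO3b.Exit Cfsg.Agent.Omega.NO3b.Exit.Ten Cfsg.Agent.Omega.NO3b.Exit.Descent
open Cfsg.Agent.Omega.NO3b.OneR (all_tv exists_first exists_dual_one)
open Cfsg.Agent.Omega.FF.Basic (fx)
open scoped Pointwise

universe u v w

variable {Γ : Type u} [Group Γ] {W : Type v} [AddCommGroup W] [DistribMulAction Γ W]
variable {Y : Subgroup Γ} {A : Type w} [AddCommGroup A] [Finite A] [DistribMulAction Y A] [hI : IsIrr Y A]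

/-- `k` acts on `A ⊗ E` as `θ ⊗ 1` -/
def Ac (W : Type v) [AddCommGroup W] [DistribMulAction Γ W] {Y : Subgroup Γ} {A : Type w} [AddCommGroup A] [Finite A]
    [DistribMulAction Y A] [IsIrr Y A] (k : Γ) (θ : A →ₗ[KK Y A] A) : Prop :=
  ∀ (f : HomY Y A W) (a : A), k • (f : A →+ W) a = (f : A →+ W) (θ a)

/-- `1 + φ ⊗ a` -/
noncomputable def tm (φ : Module.Dual (KK Y A) A) (a : A) : A →ₗ[KK Y A] A := LinearMap.id + φ.smulRight a

theorem tm_apply (φ : Module.Dual (KK Y A) A) (a x : A) : tm φ a x = x + φ x • a := rfl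

/-- `N` induces all transvections of `A` -/
def AllT (W : Type v) [AddCommGroup W] [DistribMulAction Γ W] (N : Subgroup Γ) (Y : Subgroup Γ) (A : Type w)
    [AddCommGroup A] [Finite A] [DistribMulAction Y A] [IsIrr Y A] : Prop :=
  ∀ (φ : Module.Dual (KK Y A) A) (a : A), φ a = 0 → ∃ n ∈ N, Ac W n (tm φ a)

theorem Ac.mul {k l : Γ} {θ η : A →ₗ[KK Y A] A} (hk : Ac W k θ) (hl : Ac W l η) : Ac W (k * l) (θ ∘ₗ η) := by
  intro f a
  rw [mul_smul, hl, hk]
  rfl

theorem Ac.congr {k : Γ} {θ η : A →ₗ[KK Y A] A} (hk : Ac W k θ) (h : ∀ a, θ a = η a) : Ac W k η := by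
  intro f a
  rw [hk, h]

theorem allT_self (tv : AllTv Y A) : AllT W Y Y A := by
  intro φ a ha
  obtain ⟨k, hk⟩ := tv φ a ha
  exact ⟨k, k.2, fun f x => by rw [tm_apply, ← hk]; exact (f.2 k x).symm⟩

theorem AllT.mono {N N' : Subgroup Γ} (h : AllT W N Y A) (hN : N ≤ N') : AllT W N' Y A := fun φ a ha => by
  obtain ⟨n, hn, h1⟩ := h φ a ha
  exact ⟨n, hN hn, h1⟩

omit [DistribMulAction Γ W] in
theorem kk_two (two : ∀ a : A, a + a = 0) (x : KK Y A) : x + x = 0 := by
  by_contra hne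
  obtain ⟨a, ha⟩ := hI.ne
  apply ha
  have h3 : (x + x) • a = 0 := by rw [add_smul, two]
  rw [← one_smul (KK Y A) a, ← inv_mul_cancel₀ hne, mul_smul, h3, smul_zero]

/-- a nonzero vector in the kernel of a functional -/
theorem exists_ker (dA : 2 ≤ Module.finrank (KK Y A) A) (φ : Module.Dual (KK Y A) A) : ∃ a : A, a ≠ 0 ∧ φ a = 0 := by
  have hfin : Module.Finite (KK Y A) A := Module.Finite.of_finite
  have h : LinearMap.ker φ ≠ ⊥ := by
    refine LinearMap.ker_ne_bot_of_finrank_lt ?_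
    rw [Module.finrank_self]
    omega
  obtain ⟨a, ha, ha0⟩ := Submodule.exists_mem_ne_zero_of_ne_bot h
  exact ⟨a, ha0, ha⟩

theorem exists_indep (dA : 2 ≤ Module.finrank (KK Y A) A) (a : A) : ∃ b : A, ∀ κ : KK Y A, κ • a ≠ b := by
  by_contra hcon
  push Not at hcon
  have hfin : Module.Finite (KK Y A) A := Module.Finite.of_finite
  have h1 : Submodule.span (KK Y A) ({a} : Set A) = ⊤ := by
    rw [eq_top_iff]
    intro b _
    obtain ⟨κ, hκ⟩ := hcon b
    exact Submodule.mem_span_singleton.2 ⟨κ, hκ⟩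
  have h2 := finrank_span_le_card (R := KK Y A) ({a} : Set A)
  rw [h1, finrank_top] at h2
  have h3 : ({a} : Set A).toFinset.card = 1 := by simp
  omega

section fin

variable [Finite W]

/-- coordinates -/
theorem exists_crd : ∃ (d : ℕ) (b : Module.Basis (Fin d) (KK Y A) (HomY Y A W)), ∀ w ∈ img Y A W, ∃ a : Fin d → A,
    w = ∑ i, ((b i : HomY Y A W) : A →+ W) (a i) := by
  have hfin3 : Module.Finite (KK Y A) (HomY Y A W) := Module.Finite.of_finite
  let b := Module.finBasis (KK Y A) (HomY Y A W)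
  refine ⟨_, b, fun w hw => ?_⟩
  let N : AddSubgroup W :=
    { carrier := {w | ∃ a : Fin (Module.finrank (KK Y A) (HomY Y A W)) → A, w = ∑ i, ((b i : HomY Y A W) : A →+ W) (a i)}
      zero_mem' := ⟨0, by simp⟩
      add_mem' := by
        rintro x y ⟨a, rfl⟩ ⟨c, rfl⟩
        refine ⟨a + c, ?_⟩
        rw [← Finset.sum_add_distrib]
        exact Finset.sum_congr rfl fun i _ => by rw [Pi.add_apply, map_add]
      neg_mem' := by
        rintro x ⟨a, rfl⟩
        refine ⟨-a, ?_⟩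
        rw [← Finset.sum_neg_distrib]
        exact Finset.sum_congr rfl fun i _ => by rw [Pi.neg_apply, map_neg] }
  have h : img Y A W ≤ N := by
    refine (AddSubgroup.closure_le _).2 ?_
    rintro _ ⟨f, a, rfl⟩
    refine ⟨fun i => b.repr f i • a, ?_⟩
    conv_lhs => rw [← b.sum_repr f]
    rw [AddSubgroup.val_finsetSum, AddMonoidHom.finsetSum_apply]
    exact Finset.sum_congr rfl fun i _ => by rw [HomY.smul_apply]
  exact h hw

omit [Finite W] [Finite A] hI in
theorem smul_img {y : Γ} (hy : y ∈ Y) {w : W} (hw : w ∈ img Y A W) : y • w ∈ img Y A W := by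
  induction hw using AddSubgroup.closure_induction with
  | mem w hw =>
    obtain ⟨f, a, rfl⟩ := hw
    have : y • (f : A →+ W) a = (f : A →+ W) ((⟨y, hy⟩ : Y) • a) := (f.2 ⟨y, hy⟩ a).symm
    rw [this]
    exact mem_img f _
  | zero => rw [smul_zero]; exact zero_mem _
  | add a b _ _ ha hb => rw [smul_add]; exact add_mem ha hb
  | neg a _ ha => rw [smul_neg]; exact neg_mem ha

/-- the projection to one coordinate -/
theorem exists_coef {V : AddSubgroup W} (hV : V = img Y A W) {f : HomY Y A W} (hf : f ≠ 0) :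
    ∃ c : V →+ A, (∀ y (hy : y ∈ Y), ∀ v v' : V, (v' : W) = y • (v : W) → c v' = (⟨y, hy⟩ : Y) • c v) ∧
      ∀ (a : A) (v : V), (v : W) = (f : A →+ W) a → c v = a := by
  subst hV
  obtain ⟨d, b, hb⟩ := exists_crd (Y := Y) (A := A) (W := W)
  have hfin3 : Module.Finite (KK Y A) (HomY Y A W) := Module.Finite.of_finite
  obtain ⟨l0, hl0, -⟩ := Submodule.exists_dual_map_eq_bot_of_notMem (p := (⊥ : Submodule (KK Y A) (HomY Y A W)))
    (x := f) (fun h => hf ((Submodule.mem_bot _).1 h)) inferInstance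
  let l : Module.Dual (KK Y A) (HomY Y A W) := (l0 f)⁻¹ • l0
  have hl : l f = 1 := by
    change (l0 f)⁻¹ * l0 f = 1
    exact inv_mul_cancel₀ hl0
  choose co hco using hb
  have huniq : ∀ a a' : Fin d → A, ∑ i, ((b i : HomY Y A W) : A →+ W) (a i) = ∑ i, ((b i : HomY Y A W) : A →+ W) (a' i) →
      a = a' := by
    intro a a' h
    funext i
    have h1 := HomY.ind b.linearIndependent Finset.univ (a - a') (by
      have e : ∑ i, ((b i : HomY Y A W) : A →+ W) ((a - a') i) =
          ∑ i, ((b i : HomY Y A W) : A →+ W) (a i) - ∑ i, ((b i : HomY Y A W) : A →+ W) (a' i) := by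
        rw [← Finset.sum_sub_distrib]
        exact Finset.sum_congr rfl fun i _ => by rw [Pi.sub_apply, map_sub]
      rw [e, h, sub_self]) i (Finset.mem_univ i)
    exact sub_eq_zero.1 h1
  refine ⟨AddMonoidHom.mk' (fun v => ∑ i, l (b i) • co v.1 v.2 i) ?_, ?_, ?_⟩
  · intro x y
    have h1 : co (x + y : img Y A W).1 (x + y).2 = co x.1 x.2 + co y.1 y.2 := by
      apply huniq
      rw [← hco]
      have e : ∑ i, ((b i : HomY Y A W) : A →+ W) ((co x.1 x.2 + co y.1 y.2) i) =
          ∑ i, ((b i : HomY Y A W) : A →+ W) (co x.1 x.2 i) + ∑ i, ((b i : HomY Y A W) : A →+ W) (co y.1 y.2 i) := by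
        rw [← Finset.sum_add_distrib]
        exact Finset.sum_congr rfl fun i _ => by rw [Pi.add_apply, map_add]
      rw [e, ← hco, ← hco]
      rfl
    rw [h1, ← Finset.sum_add_distrib]
    exact Finset.sum_congr rfl fun i _ => by rw [Pi.add_apply, smul_add]
  · intro y hy v v' h
    have h1 : co v'.1 v'.2 = fun i => (⟨y, hy⟩ : Y) • co v.1 v.2 i := by
      apply huniq
      rw [← hco, h]
      conv_lhs => rw [hco v.1 v.2]
      rw [Finset.smul_sum]
      exact Finset.sum_congr rfl fun i _ => ((b i : HomY Y A W).2 ⟨y, hy⟩ _).symm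
    change ∑ i, l (b i) • co v'.1 v'.2 i = (⟨y, hy⟩ : Y) • ∑ i, l (b i) • co v.1 v.2 i
    rw [h1, Finset.smul_sum]
    exact Finset.sum_congr rfl fun i _ => KK.smul_smul_comm _ _ _
  · intro a v h
    have h1 : co v.1 v.2 = fun i => b.repr f i • a := by
      apply huniq
      rw [← hco, h]
      conv_lhs => rw [← b.sum_repr f]
      rw [AddSubgroup.val_finsetSum, AddMonoidHom.finsetSum_apply]
      exact Finset.sum_congr rfl fun i _ => by rw [HomY.smul_apply]
    change ∑ i, l (b i) • co v.1 v.2 i = a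
    rw [h1]
    have h2 : ∑ i, l (b i) • b.repr f i • a = (∑ i, b.repr f i * l (b i)) • a := by
      rw [Finset.sum_smul]
      exact Finset.sum_congr rfl fun i _ => by rw [smul_smul, mul_comm]
    have h3 : ∑ i, b.repr f i * l (b i) = l f := by
      conv_rhs => rw [← b.sum_repr f, map_sum]
      exact Finset.sum_congr rfl fun i _ => by rw [map_smul, smul_eq_mul]
    rw [h2, h3, hl, one_smul]

/-- **(lin) ⇒ `θ ⊗ 1`** -/
theorem exists_act {V : AddSubgroup W} (hV : V = img Y A W) (hE : ∃ f : HomY Y A W, f ≠ 0) {k : Γ}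
    (kV : ∀ v ∈ V, k • v ∈ V)
    (lin : ∀ e : V →+ V, (∀ y ∈ Y, ∀ v v' : V, (v' : W) = y • (v : W) → (e v' : W) = y • (e v : W)) →
      ∀ v v' : V, (v' : W) = k • (v : W) → (e v' : W) = k • (e v : W)) : ∃ θ : A →ₗ[KK Y A] A, Ac W k θ := by
  obtain ⟨f₀, hf₀⟩ := hE
  obtain ⟨c, hc1, hc2⟩ := exists_coef hV hf₀
  have hmem : ∀ (g : HomY Y A W) (a : A), (g : A →+ W) a ∈ V := fun g a => by rw [hV]; exact mem_img g a
  let θ : A → A := fun a => c ⟨k • (f₀ : A →+ W) a, kV _ (hmem f₀ a)⟩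
  have key : ∀ (g : HomY Y A W) (a : A), k • (g : A →+ W) a = (g : A →+ W) (θ a) := by
    intro g a
    let e : V →+ V :=
      { toFun := fun v => ⟨(g : A →+ W) (c v), hmem g _⟩
        map_zero' := Subtype.ext (by
          change (g : A →+ W) (c 0) = 0
          rw [map_zero, map_zero])
        map_add' := fun x y => Subtype.ext (by
          change (g : A →+ W) (c (x + y)) = (g : A →+ W) (c x) + (g : A →+ W) (c y)
          rw [map_add, map_add]) }
    have he : ∀ v, (e v : W) = (g : A →+ W) (c v) := fun _ => rfl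
    have h1 := lin e (fun y hy v v' h => by rw [he, he, hc1 y hy v v' h]; exact g.2 ⟨y, hy⟩ _)
      ⟨(f₀ : A →+ W) a, hmem f₀ a⟩ ⟨k • (f₀ : A →+ W) a, kV _ (hmem f₀ a)⟩ rfl
    rw [he, he, hc2 a ⟨(f₀ : A →+ W) a, hmem f₀ a⟩ rfl] at h1
    exact h1.symm
  have hadd : ∀ a b, θ (a + b) = θ a + θ b := fun a b =>
    HomY.inj hf₀ (by rw [← key, map_add, smul_add, key, key, ← map_add])
  refine ⟨{ toFun := θ, map_add' := hadd, map_smul' := fun κ a => ?_ }, key⟩
  apply HomY.inj hf₀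
  rw [RingHom.id_apply, ← key, ← HomY.smul_apply, key, HomY.smul_apply]

/-- `w = ∑ f_i(a_i)`: the contraction with a functional -/
theorem contr {w : W} (hw : w ∈ img Y A W) (hw0 : w ≠ 0) : ∃ (φ : Module.Dual (KK Y A) A) (f : HomY Y A W), f ≠ 0 ∧
    ∀ (a : A) (n : Γ), Ac W n (tm φ a) → n • w = w + (f : A →+ W) a := by
  obtain ⟨d, b, hb⟩ := exists_crd (Y := Y) (A := A) (W := W)
  obtain ⟨a, rfl⟩ := hb w hw
  obtain ⟨j, hj⟩ : ∃ j, a j ≠ 0 := by
    by_contra hcon
    push Not at hcon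
    apply hw0
    exact Finset.sum_eq_zero fun i _ => by rw [hcon, map_zero]
  have hfin : Module.Finite (KK Y A) A := Module.Finite.of_finite
  obtain ⟨φ, hφ, -⟩ := Submodule.exists_dual_map_eq_bot_of_notMem (p := (⊥ : Submodule (KK Y A) A))
    (x := a j) (fun h => hj ((Submodule.mem_bot _).1 h)) inferInstance
  refine ⟨φ, ∑ i, φ (a i) • b i, ?_, ?_⟩
  · intro h0
    have h1 := Fintype.linearIndependent_iff.1 b.linearIndependent (fun i => φ (a i)) h0 j
    exact hφ h1
  · intro x n hn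
    rw [Finset.smul_sum, AddSubgroup.val_finsetSum, AddMonoidHom.finsetSum_apply, ← Finset.sum_add_distrib]
    refine Finset.sum_congr rfl fun i _ => ?_
    rw [hn, tm_apply, map_add, HomY.smul_apply]

/-- a subgroup of `A` invariant under all transvections -/
theorem irr_tv (dA : 2 ≤ Module.finrank (KK Y A) A) {B : AddSubgroup A}
    (hB : ∀ (φ : Module.Dual (KK Y A) A) (c : A), φ c = 0 → ∀ x ∈ B, φ x • c ∈ B) {a : A} (ha : a ∈ B) (ha0 : a ≠ 0)
    (x : A) : x ∈ B := by
  have hfin : Module.Finite (KK Y A) A := Module.Finite.of_finite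
  have key : ∀ x : A, (∀ κ : KK Y A, κ • a ≠ x) → x ∈ B := by
    intro x hx
    obtain ⟨φ, h1, h2⟩ := exists_dual_one hx ha0
    have h3 := hB φ x h2 a ha
    rwa [h1, one_smul] at h3
  by_cases hx : ∀ κ : KK Y A, κ • a ≠ x
  · exact key x hx
  · push Not at hx
    obtain ⟨κ, rfl⟩ := hx
    obtain ⟨y, hy⟩ := exists_indep dA a
    have h1 := key y hy
    have h2 := key (y + κ • a) (fun l e => hy (l - κ) (by rw [sub_smul, e]; abel))
    have e : κ • a = (y + κ • a) - y := by abel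
    rw [e]
    exact B.sub_mem h2 h1

/-- **An `N`-invariant subgroup meeting `V` contains some `f A`.** -/
theorem exists_sub (dA : 2 ≤ Module.finrank (KK Y A) A) {N : Subgroup Γ} (hN : AllT W N Y A) {X : AddSubgroup W}
    (hX : ∀ n ∈ N, ∀ x ∈ X, n • x ∈ X) {w : W} (hwX : w ∈ X) (hw : w ∈ img Y A W) (hw0 : w ≠ 0) :
    ∃ f : HomY Y A W, f ≠ 0 ∧ ∀ a, (f : A →+ W) a ∈ X := by
  obtain ⟨φ, f, hf, h1⟩ := contr hw hw0
  obtain ⟨a, ha0, ha⟩ := exists_ker dA φ
  obtain ⟨n, hn, hn'⟩ := hN φ a ha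
  have h2 : (f : A →+ W) a ∈ X := by
    have e : (f : A →+ W) a = n • w - w := by rw [h1 a n hn']; abel
    rw [e]
    exact X.sub_mem (hX n hn w hwX) hwX
  refine ⟨f, hf, fun x => ?_⟩
  let B : AddSubgroup A := X.comap (f : A →+ W)
  refine (irr_tv dA (B := B) (fun ψ c hc x hx => ?_) (a := a) h2 ha0 x : x ∈ B)
  obtain ⟨m, hm, hm'⟩ := hN ψ c hc
  change (f : A →+ W) (ψ x • c) ∈ X
  have e : (f : A →+ W) (ψ x • c) = m • (f : A →+ W) x - (f : A →+ W) x := by
    rw [hm', tm_apply, map_add]; abel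
  rw [e]
  exact X.sub_mem (hX m hm _ hx) hx

/-- no fixed points -/
theorem fix_eq_zero (dA : 2 ≤ Module.finrank (KK Y A) A) {N : Subgroup Γ} (hN : AllT W N Y A) {w : W}
    (hw : w ∈ img Y A W) (hfix : ∀ n ∈ N, n • w = w) : w = 0 := by
  by_contra hw0
  obtain ⟨φ, f, hf, h1⟩ := contr hw hw0
  obtain ⟨a, ha0, ha⟩ := exists_ker dA φ
  obtain ⟨n, hn, hn'⟩ := hN φ a ha
  have h2 := h1 a n hn'
  rw [hfix n hn] at h2
  exact hf (HomY.eq_zero (left_eq_add.1 h2) ha0)

end fin

/-- **products of commuting transvections** -/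
theorem prod_tv {N : Subgroup Γ} (hN : AllT W N Y A) (δ : A →ₗ[KK Y A] A) (h2 : ∀ x, δ (δ x) = 0) :
    ∃ n ∈ N, Ac W n (LinearMap.id + δ) := by
  classical
  have hfin : Module.Finite (KK Y A) A := Module.Finite.of_finite
  let b := Module.finBasis (KK Y A) (LinearMap.range δ)
  let φ : Fin (Module.finrank (KK Y A) (LinearMap.range δ)) → Module.Dual (KK Y A) A := fun i =>
    (b.coord i) ∘ₗ δ.rangeRestrict
  have hφ : ∀ i x, φ i x = b.repr (δ.rangeRestrict x) i := fun i x => rfl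
  have hφb : ∀ i j, φ i ((b j : LinearMap.range δ) : A) = 0 := by
    intro i j
    obtain ⟨x, hx⟩ := (b j).2
    have h3 : δ.rangeRestrict ((b j : LinearMap.range δ) : A) = 0 := Subtype.ext (by
      change δ ((b j : LinearMap.range δ) : A) = 0
      rw [← hx, h2])
    rw [hφ, h3, map_zero]; rfl
  have key : ∀ s : Finset (Fin (Module.finrank (KK Y A) (LinearMap.range δ))),
      ∃ n ∈ N, Ac W n (LinearMap.id + ∑ i ∈ s, (φ i).smulRight ((b i : LinearMap.range δ) : A)) := by
    intro s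
    induction s using Finset.induction_on with
    | empty => exact ⟨1, one_mem _, fun f a => by rw [Finset.sum_empty, add_zero, one_smul]; rfl⟩
    | insert j s hj ih =>
      obtain ⟨n, hn, h3⟩ := ih
      obtain ⟨m, hm, h4⟩ := hN (φ j) ((b j : LinearMap.range δ) : A) (hφb j j)
      refine ⟨m * n, mul_mem hm hn, (h4.mul h3).congr fun a => ?_⟩
      rw [LinearMap.comp_apply, tm_apply, LinearMap.add_apply, LinearMap.id_apply, LinearMap.sum_apply,
        Finset.sum_insert hj, LinearMap.add_apply, LinearMap.id_apply, LinearMap.add_apply, LinearMap.sum_apply]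
      have h5 : φ j (a + ∑ i ∈ s, ((φ i).smulRight ((b i : LinearMap.range δ) : A)) a) = φ j a := by
        rw [map_add, map_sum]
        have : ∑ i ∈ s, φ j (((φ i).smulRight ((b i : LinearMap.range δ) : A)) a) = 0 :=
          Finset.sum_eq_zero fun i _ => by
            rw [LinearMap.smulRight_apply, map_smul, hφb, smul_zero]
        rw [this, add_zero]
      rw [h5, LinearMap.smulRight_apply]
      abel
  obtain ⟨n, hn, h3⟩ := key Finset.univ
  refine ⟨n, hn, h3.congr fun a => ?_⟩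
  rw [LinearMap.add_apply, LinearMap.add_apply, LinearMap.id_apply, LinearMap.sum_apply]
  congr 1
  have h4 := congrArg Subtype.val (b.sum_repr (δ.rangeRestrict a))
  have h5 : ((δ.rangeRestrict a : LinearMap.range δ) : A) = δ a := rfl
  rw [h5] at h4
  rw [← h4, AddSubmonoidClass.coe_finsetSum]
  rfl

/-- **LEMMA NS** -/
theorem ns (two : ∀ a : A, a + a = 0) (tv : AllTv Y A) {N : Subgroup Γ}
    (hY : ∀ y ∈ Y, ∀ n ∈ N, y * n * y⁻¹ ∈ N) {t : Γ} (ht : t ∈ N) {θ : A →ₗ[KK Y A] A} (hθ : Ac W t θ)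
    (h2 : ∀ a, θ (θ a) = a) (h0 : ∃ a, θ a ≠ a) : AllT W N Y A := by
  have hK := kk_two (Y := Y) two
  have neg : ∀ a : A, -a = a := fun a => neg_eq_of_add_eq_zero_left (two a)
  have hinv : ∀ {y : Γ} {η : A →ₗ[KK Y A] A}, Ac W y η → (∀ a, η (η a) = a) → Ac W y⁻¹ η := by
    intro y η hy hη f a
    rw [inv_smul_eq_iff, hy, hη]
  have htm : ∀ (φ : Module.Dual (KK Y A) A) (a : A), φ a = 0 → ∀ x, tm φ a (tm φ a x) = x := by
    intro φ a ha x
    rw [tm_apply, tm_apply, map_add, map_smul, ha, smul_zero, add_zero, add_assoc, two, add_zero]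
  have hAY := allT_self (W := W) tv
  refine all_tv hK two (fun φ a => ∃ n ∈ N, Ac W n (tm φ a)) ?_ ?_ ?_ ?_ ?_
  · rintro φ a b ha hb ⟨n, hn, h3⟩ ⟨m, hm, h4⟩
    refine ⟨n * m, mul_mem hn hm, (h3.mul h4).congr fun x => ?_⟩
    rw [LinearMap.comp_apply, tm_apply, tm_apply, tm_apply, map_add, map_smul, hb, smul_zero, add_zero, smul_add]
    abel
  · rintro κ φ a ⟨n, hn, h3⟩
    refine ⟨n, hn, h3.congr fun x => ?_⟩
    rw [tm_apply, tm_apply, LinearMap.smul_apply, smul_eq_mul, mul_comm, mul_smul]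
  · rintro κ φ a ⟨n, hn, h3⟩
    refine ⟨n, hn, h3.congr fun x => ?_⟩
    rw [tm_apply, tm_apply, LinearMap.smul_apply, smul_eq_mul, mul_comm, mul_smul]
  · rintro φ a χ b ha hb ⟨n, hn, h3⟩
    obtain ⟨y, hy, h4⟩ := hAY χ b hb
    refine ⟨y * n * y⁻¹, hY y hy n hn, ((h4.mul h3).mul (hinv h4 (htm χ b hb))).congr fun x => ?_⟩
    have hs : φ (x + χ x • b) = (φ + φ b • χ) x := by
      rw [map_add, map_smul, LinearMap.add_apply, LinearMap.smul_apply, smul_eq_mul, smul_eq_mul, mul_comm]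
    rw [LinearMap.comp_apply, LinearMap.comp_apply, tm_apply χ b x, tm_apply φ a, hs, tm_apply χ b, tm_apply]
    have h5 : ∀ s : KK Y A, χ (x + χ x • b + s • a) = χ x + s * χ a := fun s => by
      rw [map_add, map_add, map_smul, map_smul, hb, smul_zero, add_zero, smul_eq_mul]
    rw [h5, add_smul, mul_smul, smul_add]
    calc x + χ x • b + (φ + φ b • χ) x • a + (χ x • b + (φ + φ b • χ) x • χ a • b)
        = (x + ((φ + φ b • χ) x • a + (φ + φ b • χ) x • χ a • b)) + (χ x • b + χ x • b) := by abel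
      _ = _ := by rw [two, add_zero]
  · let δ : A →ₗ[KK Y A] A := θ - LinearMap.id
    have hδ : ∀ x, δ x = θ x - x := fun x => rfl
    have hθδ : ∀ x, θ x = x + δ x := fun x => by rw [hδ]; abel
    have hδ2 : ∀ x, δ (δ x) = 0 := fun x => by
      rw [hδ, hδ, map_sub, h2]
      have e : x - θ x - (θ x - x) = (x + x) - (θ x + θ x) := by abel
      rw [e, two, two, sub_zero]
    rcases exists_first δ hδ2 (by
      obtain ⟨a, ha⟩ := h0
      exact ⟨a, fun h => ha (by rw [hθδ, h, add_zero])⟩) with ⟨φ, a, h3, h4, h5, h6⟩ | ⟨φ, a, h3, h4, h5, h6⟩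
    · refine ⟨φ, a, h3, h4, h5, t, ht, hθ.congr fun x => ?_⟩
      rw [hθδ, h6, tm_apply]
    · obtain ⟨y, hy, h7⟩ := hAY φ a h5
      refine ⟨φ, δ a, h3, h4, h6 a, t * (y * t⁻¹ * y⁻¹), mul_mem ht (hY y hy _ (inv_mem ht)),
        (hθ.mul ((h7.mul (hinv hθ h2)).mul (hinv h7 (htm φ a h5)))).congr fun x => ?_⟩
      rw [LinearMap.comp_apply, LinearMap.comp_apply, LinearMap.comp_apply, tm_apply φ a x, hθδ (x + φ x • a),
        map_add δ, map_smul δ, tm_apply φ a]
      have h8 : φ (x + φ x • a + (δ x + φ x • δ a)) = φ x := by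
        rw [map_add, map_add, map_add, map_smul, map_smul, h5, h6, h6, smul_zero, add_zero, add_zero, add_zero]
      have h9 : δ (x + φ x • a + (δ x + φ x • δ a) + φ x • a) = δ x + (φ x • δ a + φ x • δ a) := by
        simp only [map_add, map_smul, hδ2, smul_zero, add_zero]
        abel
      rw [h8, hθδ, h9, tm_apply, two, add_zero]
      calc x + φ x • a + (δ x + φ x • δ a) + φ x • a + δ x
          = (x + φ x • δ a) + ((φ x • a + φ x • a) + (δ x + δ x)) := by abel
        _ = _ := by rw [two, two, add_zero, add_zero]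

end Cfsg.Agent.Omega.NO3b.BasePt.Pr
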