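import Cfsg.Agent.Omega.NO3b.BasePt.LW3
import Cfsg.Agent.Omega.NO3b.TheoremL.Tight

/-!
# THEOREM L with two lines (#22211, helper16): the literal

`X` finite acts faithfully on the elementary abelian 2-group `U`; `F ≤ V ≤ Vb ≤ U`; `S` is a Sylow 2-subgroup of `X`.
`V` is the SMALL line: `N_X(V)` is the unique maximal subgroup of `X` over `S`.  `Vb` is the BIG line: it is normalised
by `S` only; `Vb ∩ Vb^x ≤ F` for `x ∉ N_X(V)`; NF for `S` on `Vb`; NF on `V` only for the subgroups `E` of `S` with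
`[Vb, E] ≤ F`.  `B` : `MBU U B` as in `TheoremL/Tight.lean`.  Then `Vb = V` (`BasePt/TwoL.lean`).
-/

set_option autoImplicit false
set_option linter.unusedSectionVars false
set_option linter.dupNamespace false

namespace Cfsg.Agent.Omega.NO3b.BasePt

open Cfsg.Agent.Omega.FF.Basic
open Cfsg.Agent.Omega.NO3b.Exit.TT
open Cfsg (pCore)
open scoped Pointwise

/-- The hypotheses of the two-line THEOREM L. -/
structure DatB {X : Type*} [Group X] {U : Type*} [AddCommGroup U] [DistribMulAction X U] (S : Sylow 2 X)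
    (Vb V F : AddSubgroup U) : Prop where
  two : ∀ u : U, u + u = 0
  faith : ∀ x : X, (∀ u : U, x • u = u) → x = 1
  SV : (S : Subgroup X) ≤ nf X V
  SVb : (S : Subgroup X) ≤ nf X Vb
  ne : nf X V ≠ ⊤
  uniq : ∀ K : Subgroup X, (S : Subgroup X) ≤ K → K ≠ ⊤ → K ≤ nf X V
  FV : F ≤ V
  VVb : V ≤ Vb
  Fx : ∀ (x : X), ∀ f ∈ F, x • f = f
  ti : ∀ x : X, x ∉ nf X V → Vb ⊓ x • Vb ≤ F
  nfb : ∀ A : Subgroup X, A ≤ (S : Subgroup X) → (∀ a ∈ A, ∀ v ∈ Vb, a • a • v = v) → ¬ A ≤ cf X Vb →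
    Nat.card A * Nat.card ↥(Vb ⊓ fx U A) < Nat.card Vb * Nat.card ↥(A ⊓ cf X Vb)
  nfd : ∀ E : Subgroup X, E ≤ (S : Subgroup X) → (∀ e ∈ E, ∀ v ∈ Vb, e • v - v ∈ F) → ¬ E ≤ cf X V →
    Nat.card E * Nat.card ↥(V ⊓ fx U E) < Nat.card V * Nat.card ↥(E ⊓ cf X V)

end Cfsg.Agent.Omega.NO3b.BasePt
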