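import Cfsg.Agent.Omega.NO3b.Exit.DescBlk
import Cfsg.Agent.Omega.NO3b.Exit.BO
import Cfsg.Agent.Omega.FF.Basic

/-!
# NotFFG (NO-3L), the base point: blocks on `V` (helper556 bb 22497, helper957)

`Γ` acts faithfully on the elementary abelian 2-group `W` (`= V`), `M ≤ Γ` (`= Aut_M(V)`).

* `cm W Y` : `[W, Y]`;
* `IsBlk W Y` : `Y` is generated by involutions, `[W, Y] = A ⊗_K E`, `Y` irreducible on `A`, `K = End_Y(A)`,
  `Y` induces all `K`-transvections of `A`, `dim_K A ≥ 2`, `dim_K E ≥ 2`;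
* `Fam W M 𝒴` : a set of blocks, invariant under `M`, `Y` trivial on `[W, Y']` for `Y ≠ Y'`; `RR 𝒴 = ∏ Y`;
* `PB W M F Y K` : one panel: `Y ≤ K ⊴ M`, `Y` is a block, `F = C_W(Q)` for a subgroup `Q ≤ Y`, the conjugates of
  `[W, Y]` under `M` are equal or disjoint, `K` normalises `[W, Y]` and commutes there with `End_Y([W, Y])`.
-/

set_option autoImplicit false

namespace Cfsg.Agent.Omega.NO3b.BasePt

open Subgroup
open Cfsg.Agent.Omega.NO3b.Exit Cfsg.Agent.Omega.NO3b.Exit.Ten Cfsg.Agent.Omega.NO3b.Exit.Descent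
open Cfsg.Agent.Omega.FF.Basic (fx)
open scoped Pointwise

universe u v

variable {Γ : Type u} [Group Γ] (W : Type v) [AddCommGroup W] [DistribMulAction Γ W]

/-- `[W, Y]` -/
def cm (Y : Subgroup Γ) : AddSubgroup W := AddSubgroup.closure {v | ∃ y ∈ Y, ∃ w : W, v = y • w - w}

/-- `Y` is a block: `SL(A) ⊗ 1` on `[W, Y] = A ⊗ E`, `dim A ≥ 2`, `dim E ≥ 2`. -/
structure IsBlk (Y : Subgroup Γ) : Prop where
  gen : Y ≤ closure {y | y ∈ Y ∧ y * y = 1}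
  ex : ∃ (A : Type (max u v)) (_ : AddCommGroup A) (_ : Finite A) (_ : DistribMulAction Y A) (_ : IsIrr Y A),
    AllTv Y A ∧ (∀ a : A, a + a = 0) ∧ cm W Y = img Y A W ∧
      2 ≤ Module.finrank (KK Y A) A ∧ 2 ≤ Module.finrank (KK Y A) (HomY Y A W)

/-- A set of blocks, invariant under `M`. -/
structure Fam (M : Subgroup Γ) (𝒴 : Set (Subgroup Γ)) : Prop where
  faith : ∀ g : Γ, (∀ w : W, g • w = w) → g = 1
  two : ∀ w : W, w + w = 0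
  le : ∀ Y ∈ 𝒴, Y ≤ M
  conj : ∀ Y ∈ 𝒴, ∀ m ∈ M, Y.map (MulAut.conj m).toMonoidHom ∈ 𝒴
  blk : ∀ Y ∈ 𝒴, IsBlk W Y
  triv : ∀ Y ∈ 𝒴, ∀ Y' ∈ 𝒴, Y ≠ Y' → ∀ y ∈ Y, ∀ v ∈ cm W Y', y • v = v

/-- `∏ Y` -/
def RR (𝒴 : Set (Subgroup Γ)) : Subgroup Γ := sSup 𝒴

/-- One panel, on `V`. -/
structure PB (M : Subgroup Γ) (F : AddSubgroup W) (Y K : Subgroup Γ) : Prop where
  blk : IsBlk W Y
  YK : Y ≤ K
  KM : K ≤ M
  nK : ∀ m ∈ M, ∀ k ∈ K, m * k * m⁻¹ ∈ K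
  flat : ∃ Q ≤ Y, fx W Q = F
  dich : ∀ m ∈ M, m • cm W Y = cm W Y ∨ m • cm W Y ⊓ cm W Y = ⊥
  cen : ∀ m ∈ M, m • cm W Y ≠ cm W Y → ∀ y ∈ Y, ∀ v ∈ m • cm W Y, y • v = v
  stab : ∀ k ∈ K, k • cm W Y = cm W Y
  lin : ∀ k ∈ K, ∀ e : cm W Y →+ cm W Y, (∀ y ∈ Y, ∀ v v' : cm W Y, (v' : W) = y • (v : W) →
    (e v' : W) = y • (e v : W)) → ∀ v v' : cm W Y, (v' : W) = k • (v : W) → (e v' : W) = k • (e v : W)

end Cfsg.Agent.Omega.NO3b.BasePt
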