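import Cfsg.Agent.Omega.NO3b.BasePt.DelBlk
import Cfsg.Agent.Omega.NO3b.Exit.BO

/-!
# The base point (#22211, helper16; #22310, helper506), part 3: the flats `D`

`B : Blk0 Y Q BB V F L C h M KV S` (helper255), `V = Σ m V₁` (`hall`), `D ≤ V`.  A block `m V₁` is *bad* for `D` if
`D ≤ m' F` for some `m' ∈ M` with `m' V₁ = m V₁`.

* `Vb D`, `Vn D` : the sum of the bad blocks, of the other blocks; `Z1 = C_V(S ∩ YM)`;
  `RR D = Vn D + (Vb D ∩ Z1)`, `Lb D = RR D + D`;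
* `exists_dec`, `disj` : `V = Vb ⊕ Vn`; `smul_Vb`, `smul_Vn` : `N_M(D)`-invariant;
* `fix_Z1`, `norm_Z1` : `C_{KV}(z)` centralises, `C_M(z)` normalises `Z1` (`z ∈ V` fixed by `S`, all components `≠ 0`);
* `Z1_le_RR`, `RR_mono`, `Lb_le_F` : `D ≤ m F`, `z ∈ D` implies `Lb D ≤ m F`;
* `exists_prod` : `t ∈ M`, `[V, t] ≤ D ≤ C_V(t)`: `t` acts on `Vb` as some `e ∈ YM` which centralises `Vn`;
  `fix_Vb_Z1` : `t` centralises `Vb ∩ Z1` if `t z = z`.
-/

set_option autoImplicit false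

open scoped Pointwise

namespace Cfsg.Agent.Omega.NO3b.BasePt.Del

open Subgroup Cfsg.Agent.Omega.NO3b.Exit Ten Descent
open Cfsg.Agent.Omega.NO3b.Exit.TBlk hiding Blk
open Cfsg.Agent.Omega.NO3b.Exit.BlkZ
open Cfsg.Agent.Omega.NO3b.BasePt.ActTop Cfsg.Agent.Omega.NO3b.BasePt.DelBlk
open Cfsg.Agent.Omega.FF.Basic (fx mem_fx)

universe u v

section defs

variable {H : Type u} {U : Type v} [Group H] [AddCommGroup U] [DistribMulAction H U]
variable {Y Q BB : Subgroup H} {V F L C : AddSubgroup U} {h : H} {M KV S : Subgroup H}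
variable (B : Blk0 Y Q BB V F L C h M KV S)

/-- the block `m V₁` is bad for `D` -/
def Bad (D : AddSubgroup U) (m : H) : Prop := ∃ m' ∈ M, m' • V1 B.dat = m • V1 B.dat ∧ D ≤ m' • F

/-- the sum of the bad blocks -/
def Vb (D : AddSubgroup U) : AddSubgroup U := AddSubgroup.closure {v | ∃ m ∈ M, D ≤ m • F ∧ v ∈ m • V1 B.dat}

/-- the sum of the other blocks -/
def Vn (D : AddSubgroup U) : AddSubgroup U := AddSubgroup.closure {v | ∃ m ∈ M, ¬ Bad B D m ∧ v ∈ m • V1 B.dat}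

/-- `C_V(S ∩ YM)` -/
def Z1 (B : Blk0 Y Q BB V F L C h M KV S) : AddSubgroup U := V ⊓ fx U (S ⊓ B.YM)

/-- `R(D)` -/
def RR (D : AddSubgroup U) : AddSubgroup U := Vn B D ⊔ (Vb B D ⊓ Z1 B)

/-- `R(D) + D` -/
def Lb (D : AddSubgroup U) : AddSubgroup U := RR B D ⊔ D

/-- `z ∈ V` is fixed by `S`, and has all components `≠ 0`. -/
structure Gd (z : U) : Prop where
  mem : z ∈ V
  fix : ∀ s ∈ S, s • z = z
  comp : ∀ m ∈ M, z ∉ B.rest m

theorem mem_Z1 {v : U} : v ∈ Z1 B ↔ v ∈ V ∧ ∀ s ∈ S, s ∈ B.YM → s • v = v :=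
  ⟨fun h => ⟨h.1, fun s hs hsY => h.2 s ⟨hs, hsY⟩⟩, fun h => ⟨h.1, fun s hs => h.2 s hs.1 hs.2⟩⟩

theorem Vb_le (D : AddSubgroup U) : Vb B D ≤ B.all := (AddSubgroup.closure_le _).2 (by
  rintro v ⟨m, hm, -, hv⟩
  exact B.le_all hm hv)

theorem Vn_le (D : AddSubgroup U) : Vn B D ≤ B.all := (AddSubgroup.closure_le _).2 (by
  rintro v ⟨m, hm, -, hv⟩
  exact B.le_all hm hv)

theorem le_Vb {D : AddSubgroup U} {m : H} (hm : m ∈ M) (hD : D ≤ m • F) : m • V1 B.dat ≤ Vb B D :=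
  fun _ hv => AddSubgroup.subset_closure ⟨m, hm, hD, hv⟩

theorem le_Vb_of_bad {D : AddSubgroup U} {m : H} (hb : Bad B D m) : m • V1 B.dat ≤ Vb B D := by
  obtain ⟨m', hm', e, hD⟩ := hb
  rw [← e]
  exact le_Vb B hm' hD

theorem le_Vn {D : AddSubgroup U} {m : H} (hm : m ∈ M) (hb : ¬ Bad B D m) : m • V1 B.dat ≤ Vn B D :=
  fun _ hv => AddSubgroup.subset_closure ⟨m, hm, hb, hv⟩

theorem Vb_le_rest {D : AddSubgroup U} {m : H} (hb : ¬ Bad B D m) : Vb B D ≤ B.rest m :=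
  (AddSubgroup.closure_le _).2 (by
    rintro v ⟨m', hm', hD, hv⟩
    exact B.le_rest hm' (fun e => hb ⟨m', hm', e.symm, hD⟩) hv)

theorem Vn_le_rest {D : AddSubgroup U} {m : H} (hb : Bad B D m) : Vn B D ≤ B.rest m :=
  (AddSubgroup.closure_le _).2 (by
    rintro v ⟨m', hm', hb', hv⟩
    refine B.le_rest hm' (fun e => hb' ?_) hv
    obtain ⟨m'', hm'', e', hD⟩ := hb
    exact ⟨m'', hm'', e'.trans e, hD⟩)

theorem bad_of_le {D : AddSubgroup U} {m : H} (hm : m ∈ M) (hD : D ≤ m • F) : Bad B D m := ⟨m, hm, rfl, hD⟩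

/-- induction for the sum of blocks -/
theorem sum_smul {p : H → Prop} {x : H} (hp : ∀ m ∈ M, p m → p (x * m)) (hx : x ∈ M) {v : U}
    (hv : v ∈ AddSubgroup.closure {v | ∃ m ∈ M, p m ∧ v ∈ m • V1 B.dat}) :
    x • v ∈ AddSubgroup.closure {v | ∃ m ∈ M, p m ∧ v ∈ m • V1 B.dat} := by
  induction hv using AddSubgroup.closure_induction with
  | mem v hv =>
    obtain ⟨m, hm, hpm, hv⟩ := hv
    refine AddSubgroup.subset_closure ⟨x * m, mul_mem hx hm, hp m hm hpm, ?_⟩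
    rw [mul_smul]
    exact AddSubgroup.smul_mem_pointwise_smul _ _ _ hv
  | zero => rw [smul_zero]; exact zero_mem _
  | add a b _ _ ha hb => rw [smul_add]; exact add_mem ha hb
  | neg a _ ha => rw [smul_neg]; exact neg_mem ha

/-- `N_M(D)` normalises the sum of the bad blocks -/
theorem smul_Vb {D : AddSubgroup U} {x : H} (hx : x ∈ M) (hD : x • D = D) {v : U} (hv : v ∈ Vb B D) :
    x • v ∈ Vb B D := by
  refine sum_smul B (p := fun m => D ≤ m • F) (fun m _ h1 => ?_) hx hv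
  rw [mul_smul, ← hD]
  exact AddSubgroup.pointwise_smul_le_pointwise_smul_iff.2 h1

theorem smul_Vn {D : AddSubgroup U} {x : H} (hx : x ∈ M) (hD : x • D = D) {v : U} (hv : v ∈ Vn B D) :
    x • v ∈ Vn B D := by
  refine sum_smul B (p := fun m => ¬ Bad B D m) (fun m _ h1 h2 => h1 ?_) hx hv
  obtain ⟨m', hm', e, hD'⟩ := h2
  refine ⟨x⁻¹ * m', mul_mem (inv_mem hx) hm', ?_, ?_⟩
  · rw [mul_smul, e, mul_smul, inv_smul_smul]
  · intro d hd
    rw [mul_smul, AddSubgroup.mem_pointwise_smul_iff_inv_smul_mem, inv_inv]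
    refine hD' ?_
    rw [← hD]
    exact AddSubgroup.smul_mem_pointwise_smul _ _ _ hd

end defs

section fin

variable {H : Type u} {U : Type v} [Group H] [Finite H] [AddCommGroup U] [DistribMulAction H U] [Finite U]
variable {Y Q BB : Subgroup H} {V F L C : AddSubgroup U} {h : H} {M KV S : Subgroup H}
variable (B : Blk0 Y Q BB V F L C h M KV S)

/-- `Vb ∩ Vn = 0` -/
theorem disj {D : AddSubgroup U} {v : U} (h1 : v ∈ Vb B D) (h2 : v ∈ Vn B D) : v = 0 := by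
  refine B.all_sep' (Vb_le B D h1) fun m _ => ?_
  by_cases hb : Bad B D m
  · exact Vn_le_rest B hb h2
  · exact Vb_le_rest B hb h1

omit [Finite H] [Finite U] in
/-- `Σ m V₁ = Vb + Vn` -/
theorem exists_dec' (D : AddSubgroup U) {v : U} (hv : v ∈ B.all) : ∃ a ∈ Vb B D, ∃ b ∈ Vn B D, v = a + b := by
  induction hv using AddSubgroup.closure_induction with
  | mem v hv =>
    obtain ⟨m, hm, hv⟩ := hv
    by_cases hb : Bad B D m
    · exact ⟨v, le_Vb_of_bad B hb hv, 0, zero_mem _, (add_zero v).symm⟩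
    · exact ⟨0, zero_mem _, v, le_Vn B hm hb hv, (zero_add v).symm⟩
  | zero => exact ⟨0, zero_mem _, 0, zero_mem _, (add_zero 0).symm⟩
  | add a b _ _ ha hb =>
    obtain ⟨a1, ha1, a2, ha2, rfl⟩ := ha
    obtain ⟨b1, hb1, b2, hb2, rfl⟩ := hb
    exact ⟨_, add_mem ha1 hb1, _, add_mem ha2 hb2, by abel⟩
  | neg a _ ha =>
    obtain ⟨a1, ha1, a2, ha2, rfl⟩ := ha
    exact ⟨_, neg_mem ha1, _, neg_mem ha2, by abel⟩

theorem K_Vb {D : AddSubgroup U} {x : H} (hx : x ∈ KV) {v : U} (hv : v ∈ Vb B D) : x • v ∈ Vb B D := by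
  induction hv using AddSubgroup.closure_induction with
  | mem v hv =>
    obtain ⟨m, hm, hD, hv⟩ := hv
    exact le_Vb B hm hD (B.smul_V1_K hm hx hv)
  | zero => rw [smul_zero]; exact zero_mem _
  | add a b _ _ ha hb => rw [smul_add]; exact add_mem ha hb
  | neg a _ ha => rw [smul_neg]; exact neg_mem ha

theorem K_Vn {D : AddSubgroup U} {x : H} (hx : x ∈ KV) {v : U} (hv : v ∈ Vn B D) : x • v ∈ Vn B D := by
  induction hv using AddSubgroup.closure_induction with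
  | mem v hv =>
    obtain ⟨m, hm, hD, hv⟩ := hv
    exact le_Vn B hm hD (B.smul_V1_K hm hx hv)
  | zero => rw [smul_zero]; exact zero_mem _
  | add a b _ _ ha hb => rw [smul_add]; exact add_mem ha hb
  | neg a _ ha => rw [smul_neg]; exact neg_mem ha

/-- components of a fixed vector are fixed -/
theorem comp_fix' {D : AddSubgroup U} {x : H} (hb : ∀ v ∈ Vb B D, x • v ∈ Vb B D) (hn : ∀ v ∈ Vn B D, x • v ∈ Vn B D)
    {a b : U} (ha : a ∈ Vb B D) (hb' : b ∈ Vn B D) (hx : x • (a + b) = a + b) : x • a = a ∧ x • b = b := by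
  rw [smul_add] at hx
  have h1 : x • a - a = b - x • b := by
    rw [sub_eq_sub_iff_add_eq_add, hx, add_comm]
  have h2 : x • a - a = 0 := disj B (sub_mem (hb a ha) ha) (by rw [h1]; exact sub_mem hb' (hn b hb'))
  rw [h2] at h1
  exact ⟨sub_eq_zero.1 h2, (sub_eq_zero.1 h1.symm).symm⟩

/-- `C_{KV}(z)` centralises `Z1`. -/
theorem fix_Z1 (hall : V ≤ B.all) {z : U} (hz : Gd B z) {y : H} (hy : y ∈ KV) (hyz : y • z = z) {w : U}
    (hw : w ∈ Z1 B) : y • w = w := by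
  rw [mem_Z1] at hw
  rw [← sub_eq_zero]
  have hwa := hall hw.1
  refine B.all_sep' (sub_mem (B.all_M (B.KM hy) hwa) hwa) fun m hm => ?_
  obtain ⟨a, ha, b, hb, e⟩ := B.mem_all (hall hz.mem) m
  obtain ⟨a', ha', b', hb', e'⟩ := B.mem_all hwa m
  have ha0 : a ≠ 0 := by
    rintro rfl
    rw [zero_add] at e
    exact hz.comp m hm (e ▸ hb)
  have h1 : y • a = a := B.comp_fix hm ha hb e hyz hy
  have h2 : (op U y - 1 : AddMonoid.End U) a' = 0 := by
    refine B.ann_comp hm ha ha0 (fun s hs hsY => B.comp_fix hm ha hb e (hz.fix s hs) (B.YM_le hsY)) ha'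
      (fun s hs hsY => B.comp_fix hm ha' hb' e' (hw.2 s hs hsY) (B.YM_le hsY))
      (sub_mem (op_mem hy) (one_mem' KV)) ?_
    change y • a - a = 0
    rw [h1, sub_self]
  change y • a' - a' = 0 at h2
  have e2 : y • w - w = (y • a' - a') + (y • b' - b') := by
    rw [e', smul_add]; abel
  rw [e2, h2, zero_add]
  exact sub_mem (B.rest_K hm hy hb') hb'

/-- `C_M(z)` normalises `Z1`. -/
theorem norm_Z1 (hall : V ≤ B.all) {z : U} (hz : Gd B z) {x : H} (hx : x ∈ M) (hxz : x • z = z) {w : U}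
    (hw : w ∈ Z1 B) : x • w ∈ Z1 B := by
  have hw' := (mem_Z1 B).1 hw
  refine (mem_Z1 B).2 ⟨B.mV x hx w hw'.1, fun s hs hsY => ?_⟩
  have h1 : x⁻¹ * s * x ∈ B.YM := by
    have h2 := B.YM_conj (inv_mem hx) hsY
    rwa [inv_inv] at h2
  have h2 : (x⁻¹ * s * x) • z = z := by
    rw [mul_smul, mul_smul, hxz, hz.fix s hs, inv_smul_eq_iff, hxz]
  have h3 := fix_Z1 B hall hz (B.YM_le h1) h2 hw
  rw [mul_smul, mul_smul, inv_smul_eq_iff] at h3
  exact h3

/-- `Z1 = (Vb ∩ Z1) + (Vn ∩ Z1)` -/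
theorem Z1_dec (hall : V ≤ B.all) (hV : B.all ≤ V) (D : AddSubgroup U) {w : U} (hw : w ∈ Z1 B) :
    ∃ a ∈ Vb B D ⊓ Z1 B, ∃ b ∈ Vn B D ⊓ Z1 B, w = a + b := by
  have hw' := (mem_Z1 B).1 hw
  obtain ⟨a, ha, b, hb, rfl⟩ := exists_dec' B D (hall hw'.1)
  have h1 : ∀ s ∈ S, s ∈ B.YM → s • a = a ∧ s • b = b := fun s hs hsY =>
    comp_fix' B (fun v hv => K_Vb B (B.YM_le hsY) hv) (fun v hv => K_Vn B (B.YM_le hsY) hv) ha hb (hw'.2 s hs hsY)
  exact ⟨a, ⟨ha, (mem_Z1 B).2 ⟨hV (Vb_le B D ha), fun s hs hsY => (h1 s hs hsY).1⟩⟩,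
    b, ⟨hb, (mem_Z1 B).2 ⟨hV (Vn_le B D hb), fun s hs hsY => (h1 s hs hsY).2⟩⟩, rfl⟩

theorem Z1_le_RR (hall : V ≤ B.all) (D : AddSubgroup U) : Z1 B ≤ RR B D := by
  intro w hw
  obtain ⟨a, ha, b, hb, rfl⟩ := Z1_dec B hall B.all_le D hw
  exact add_mem (le_sup_right (a := Vn B D) ha) (le_sup_left (b := Vb B D ⊓ Z1 B) hb.1)

omit [Finite H] [Finite U] in
theorem Vb_anti {D D' : AddSubgroup U} (hD : D ≤ D') : Vb B D' ≤ Vb B D := (AddSubgroup.closure_le _).2 (by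
  rintro v ⟨m, hm, h1, hv⟩
  exact le_Vb B hm (hD.trans h1) hv)

omit [Finite H] [Finite U] in
theorem Vn_mono {D D' : AddSubgroup U} (hD : D ≤ D') : Vn B D ≤ Vn B D' := (AddSubgroup.closure_le _).2 (by
  rintro v ⟨m, hm, h1, hv⟩
  refine le_Vn B hm (fun h2 => h1 ?_) hv
  obtain ⟨m', hm', e, h3⟩ := h2
  exact ⟨m', hm', e, hD.trans h3⟩)

/-- `R(D) ≤ R(D')` for `D ≤ D'` -/
theorem RR_mono (hall : V ≤ B.all) {D D' : AddSubgroup U} (hD : D ≤ D') : RR B D ≤ RR B D' :=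
  sup_le ((Vn_mono B hD).trans le_sup_left) (inf_le_right.trans (Z1_le_RR B hall D'))

theorem Lb_mono (hall : V ≤ B.all) {D D' : AddSubgroup U} (hD : D ≤ D') : Lb B D ≤ Lb B D' :=
  sup_le ((RR_mono B hall hD).trans le_sup_left) (hD.trans le_sup_right)

omit [Finite H] [Finite U] in
theorem RR_le (D : AddSubgroup U) : RR B D ≤ V :=
  sup_le ((Vn_le B D).trans B.all_le) (inf_le_right.trans inf_le_left)

omit [Finite H] [Finite U] in
theorem Lb_le {D : AddSubgroup U} (hD : D ≤ V) : Lb B D ≤ V := sup_le (RR_le B D) hD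

/-- `C_M(z) ∩ N_M(D)` normalises `R(D)`. -/
theorem smul_RR (hall : V ≤ B.all) {z : U} (hz : Gd B z) {D : AddSubgroup U} {x : H} (hx : x ∈ M) (hxz : x • z = z)
    (hD : x • D = D) {v : U} (hv : v ∈ RR B D) : x • v ∈ RR B D := by
  obtain ⟨a, ha, b, hb, rfl⟩ := AddSubgroup.mem_sup.1 hv
  rw [smul_add]
  exact add_mem (le_sup_left (b := Vb B D ⊓ Z1 B) (smul_Vn B hx hD ha))
    (le_sup_right (a := Vn B D) ⟨smul_Vb B hx hD hb.1, norm_Z1 B hall hz hx hxz hb.2⟩)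

theorem smul_Lb (hall : V ≤ B.all) {z : U} (hz : Gd B z) {D : AddSubgroup U} {x : H} (hx : x ∈ M) (hxz : x • z = z)
    (hD : x • D = D) {v : U} (hv : v ∈ Lb B D) : x • v ∈ Lb B D := by
  obtain ⟨a, ha, b, hb, rfl⟩ := AddSubgroup.mem_sup.1 hv
  rw [smul_add]
  refine add_mem (le_sup_left (b := D) (smul_RR B hall hz hx hxz hD ha)) (le_sup_right (a := RR B D) ?_)
  rw [← hD]
  exact AddSubgroup.smul_mem_pointwise_smul _ _ _ hb

/-- two vectors of `V₁` fixed by a Sylow subgroup of `Y`: `0 ≠ w ∈ F` implies `w' ∈ F`. -/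
theorem F_of_F {T : Subgroup H} (hT2 : IsPGroup 2 T) (hT : ¬ 2 ∣ T.relIndex Y) {w w' : U} (hw : w ∈ V1 B.dat)
    (hwT : ∀ t ∈ T, t ∈ Y → t • w = w) (hw0 : w ≠ 0) (hw' : w' ∈ V1 B.dat) (hwT' : ∀ t ∈ T, t ∈ Y → t • w' = w')
    (hF : w ∈ F) : w' ∈ F := by
  have hT' : ¬ 2 ∣ (T.subgroupOf Y).index := hT
  have hT2' : IsPGroup 2 (T.subgroupOf Y) := hT2.comap_of_injective _ (subtype_injective Y)
  obtain ⟨n, -, hn0, hn⟩ := exists_fix (V := AM B.dat) (H := Y) hT2' B.dat.AM_two (A := ⊤)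
    (fun _ _ _ _ => trivial) (by
      intro h
      obtain ⟨a, ha⟩ := (B.dat.isIrr).ne
      have : a ∈ (⊤ : AddSubgroup (AM B.dat)) := trivial
      rw [h] at this
      exact ha this)
  obtain ⟨f, rfl⟩ := exists_of_fix (allTv B.dat) B.dat.AM_two hT' hn0 hn (V1_le_img B.dat hw)
    (fun t ht => hwT t (mem_subgroupOf.1 ht) t.2)
  obtain ⟨f', rfl⟩ := exists_of_fix (allTv B.dat) B.dat.AM_two hT' hn0 hn (V1_le_img B.dat hw')
    (fun t ht => hwT' t (mem_subgroupOf.1 ht) t.2)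
  have hf0 : f ≠ 0 := by
    rintro rfl
    exact hw0 rfl
  have hnA : n ∈ B.dat.AZM := by
    by_contra hcon
    exact hf0 (B.dat.mdl.val_inj hcon hF)
  obtain ⟨u, rfl⟩ := B.dat.mdl.psi_surj f'
  exact B.dat.mdl.inF n hnA u

/-- `D ≤ m F`, `z ∈ D`: `Z1 ≤ m F` -/
theorem Z1_le_F (hall : V ≤ B.all) {z : U} (hz : Gd B z) {D : AddSubgroup U} (hzD : z ∈ D) {m : H} (hm : m ∈ M)
    (hD : D ≤ m • F) : Z1 B ≤ m • F := by
  intro w hw
  rw [mem_Z1] at hw
  obtain ⟨a, ha, b, hb, e⟩ := B.mem_all (hall hz.mem) m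
  obtain ⟨a', ha', b', hb', e'⟩ := B.mem_all (hall hw.1) m
  have ha0 : a ≠ 0 := by
    rintro rfl
    rw [zero_add] at e
    exact hz.comp m hm (e ▸ hb)
  have haF : a ∈ m • F := by
    have e1 : a = z - b := by rw [e]; abel
    rw [e1]
    exact sub_mem (hD hzD) (rest_le_smul_F B hm hb)
  have hmem : ∀ v ∈ m • V1 B.dat, m⁻¹ • v ∈ V1 B.dat := fun v hv =>
    AddSubgroup.mem_pointwise_smul_iff_inv_smul_mem.1 hv
  have hfix : ∀ v : U, (∀ s ∈ S, s ∈ B.YM → s • v = v) →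
      ∀ t ∈ S.map (MulAut.conj m⁻¹).toMonoidHom, t ∈ Y → t • m⁻¹ • v = m⁻¹ • v := by
    rintro v hv _ ⟨s, hs, rfl⟩ ht
    have hsK : s ∈ B.YM := by
      have h2 := B.conj_mem_YM hm ht
      have e3 : m * (MulAut.conj m⁻¹).toMonoidHom s * m⁻¹ = s := by
        change m * (m⁻¹ * s * m⁻¹⁻¹) * m⁻¹ = s
        group
      rwa [e3] at h2
    change (m⁻¹ * s * m⁻¹⁻¹) • m⁻¹ • v = _
    rw [smul_smul, inv_inv, mul_assoc, mul_inv_cancel, mul_one, mul_smul, hv s hs hsK]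
  have haS : ∀ s ∈ S, s ∈ B.YM → s • a = a := fun s hs hsY => B.comp_fix hm ha hb e (hz.fix s hs) (B.YM_le hsY)
  have haS' : ∀ s ∈ S, s ∈ B.YM → s • a' = a' := fun s hs hsY =>
    B.comp_fix hm ha' hb' e' (hw.2 s hs hsY) (B.YM_le hsY)
  have h2 : m⁻¹ • a' ∈ F := by
    refine F_of_F B (T := S.map (MulAut.conj m⁻¹).toMonoidHom) (B.S2.map _) (B.odd_T hm)
      (w := m⁻¹ • a) (hmem a ha) (hfix a haS) ?_ (hmem a' ha') (hfix a' haS')
      (AddSubgroup.mem_pointwise_smul_iff_inv_smul_mem.1 haF)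
    intro h3
    exact ha0 (by rw [← smul_inv_smul m a, h3, smul_zero])
  rw [e']
  exact add_mem (AddSubgroup.mem_pointwise_smul_iff_inv_smul_mem.2 h2) (rest_le_smul_F B hm hb')

/-- **`D ≤ m F`, `z ∈ D` implies `R(D) + D ≤ m F`.** -/
theorem Lb_le_F (hall : V ≤ B.all) {z : U} (hz : Gd B z) {D : AddSubgroup U} (hzD : z ∈ D) {m : H} (hm : m ∈ M)
    (hD : D ≤ m • F) : Lb B D ≤ m • F :=
  sup_le (sup_le ((Vn_le_rest B (bad_of_le B hm hD)).trans (rest_le_smul_F B hm))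
    (inf_le_right.trans (Z1_le_F B hall hz hzD hm hD))) hD

omit [Finite H] [Finite U] in
include B in
/-- `m F ≠ V` -/
theorem F_ne (hF : ¬ V ≤ F) {m : H} (hm : m ∈ M) : ¬ V ≤ m • F := fun h1 => hF fun v hv => by
  have h2 := h1 (B.mV m hm v hv)
  rwa [AddSubgroup.mem_pointwise_smul_iff_inv_smul_mem, inv_smul_smul] at h2

theorem Lb_ne (hall : V ≤ B.all) {z : U} (hz : Gd B z) {D : AddSubgroup U} (hzD : z ∈ D) {m : H} (hm : m ∈ M)
    (hD : D ≤ m • F) : ¬ V ≤ Lb B D := fun h1 =>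
  F_ne B (fun h2 => V1_not_le B ((V1_le B.dat).trans h2)) hm (h1.trans (Lb_le_F B hall hz hzD hm hD))

omit [Finite H] [Finite U] in
/-- `t ∈ M`, `[V, t] ≤ D ≤ C_V(t)`: `t² = 1` on `V` -/
theorem sq_of (two : ∀ u : U, u + u = 0) {D : AddSubgroup U} {t : H} (htD : ∀ v ∈ V, t • v - v ∈ D)
    (hDt : ∀ d ∈ D, t • d = d) : ∀ v ∈ V, t • t • v = v := by
  intro v hv
  have h1 := hDt _ (htD v hv)
  rw [smul_sub] at h1
  have h2 : t • t • v = (t • v - v) + t • v := by rw [← h1]; abel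
  have h3 := two (t • v - v)
  have e : (t • v - v) + t • v = (t • v - v) + (t • v - v) + v := by abel
  rw [h2, e, h3, zero_add]

/-- **`t` acts on the bad blocks as an element of `YM` which centralises the other blocks.** -/
theorem exists_prod {D : AddSubgroup U} {t : H} (ht : t ∈ M) (htD : ∀ v ∈ V, t • v - v ∈ D)
    (hDt : ∀ d ∈ D, t • d = d) : ∃ e ∈ B.YM, (∀ v ∈ Vb B D, t • v = e • v) ∧ ∀ v ∈ Vn B D, e • v = v := by
  classical
  have hfin : Finite (AddSubgroup U) := Finite.of_injective (fun A : AddSubgroup U => (A : Set U)) SetLike.coe_injective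
  have : Fintype (AddSubgroup U) := Fintype.ofFinite _
  have ht2 := sq_of (V := V) B.dat.two htD hDt
  have hact : ∀ m ∈ M, D ≤ m • F → (∀ v ∈ m • V1 B.dat, t • v ∈ m • V1 B.dat) ∧
      ∃ y ∈ Y, ∀ v ∈ m • V1 B.dat, t • v = (m * y * m⁻¹) • v := fun m hm hD =>
    act_blk B hm ht (fun v hv => hD (htD v hv)) ht2
  have key : ∀ T : Finset (AddSubgroup U), ∃ e ∈ B.YM,
      (∀ m ∈ M, D ≤ m • F → m • V1 B.dat ∈ T → ∀ v ∈ m • V1 B.dat, t • v = e • v) ∧
      (∀ m ∈ M, (m • V1 B.dat ∉ T ∨ ¬ Bad B D m) → ∀ v ∈ m • V1 B.dat, e • v = v) := by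
    intro T
    induction T using Finset.induction with
    | empty =>
      exact ⟨1, one_mem _, fun m _ _ h1 => absurd h1 (Finset.notMem_empty _), fun m _ _ v _ => one_smul _ v⟩
    | insert W T hWT ih =>
      obtain ⟨e, he, h1, h2⟩ := ih
      by_cases hW : ∃ m ∈ M, D ≤ m • F ∧ m • V1 B.dat = W
      · obtain ⟨m, hm, hD, rfl⟩ := hW
        obtain ⟨-, y, hy, h3⟩ := hact m hm hD
        refine ⟨m * y * m⁻¹ * e, mul_mem (B.conj_mem_YM hm hy) he, ?_, ?_⟩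
        · intro m' hm' hD' hmT v hv
          rw [mul_smul]
          rcases Finset.mem_insert.1 hmT with h4 | h4
          · rw [h4] at hv
            rw [h2 m hm (Or.inl hWT) v hv, h3 v hv]
          · rw [← h1 m' hm' hD' h4 v hv]
            have hne : m • V1 B.dat ≠ m' • V1 B.dat := fun h5 => hWT (h5 ▸ h4)
            exact (B.cent hm hm' hne hy ((hact m' hm' hD').1 v hv)).symm
        · intro m' hm' h4 v hv
          have hne : m • V1 B.dat ≠ m' • V1 B.dat := by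
            intro h5
            rcases h4 with h4 | h4
            · exact h4 (h5 ▸ Finset.mem_insert_self _ _)
            · exact h4 ⟨m, hm, h5, hD⟩
          rw [mul_smul, h2 m' hm' (h4.imp_left fun h6 h7 => h6 (Finset.mem_insert_of_mem h7)) v hv]
          exact B.cent hm hm' hne hy hv
      · refine ⟨e, he, ?_, ?_⟩
        · intro m hm hD hmT v hv
          rcases Finset.mem_insert.1 hmT with h4 | h4
          · exact absurd ⟨m, hm, hD, h4⟩ hW
          · exact h1 m hm hD h4 v hv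
        · intro m hm h4 v hv
          exact h2 m hm (h4.imp_left fun h6 h7 => h6 (Finset.mem_insert_of_mem h7)) v hv
  obtain ⟨e, he, h1, h2⟩ := key Finset.univ
  refine ⟨e, he, fun v hv => ?_, fun v hv => ?_⟩
  · induction hv using AddSubgroup.closure_induction with
    | mem v hv =>
      obtain ⟨m, hm, hD, hv⟩ := hv
      exact h1 m hm hD (Finset.mem_univ _) v hv
    | zero => rw [smul_zero, smul_zero]
    | add a b _ _ ha hb => rw [smul_add, smul_add, ha, hb]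
    | neg a _ ha => rw [smul_neg, smul_neg, ha]
  · induction hv using AddSubgroup.closure_induction with
    | mem v hv =>
      obtain ⟨m, hm, hb, hv⟩ := hv
      exact h2 m hm (Or.inr hb) v hv
    | zero => rw [smul_zero]
    | add a b _ _ ha hb => rw [smul_add, ha, hb]
    | neg a _ ha => rw [smul_neg, ha]

omit [Finite H] [Finite U] in
theorem smul_D_eq {D : AddSubgroup U} {t : H} (hDt : ∀ d ∈ D, t • d = d) : t • D = D := by
  ext d
  rw [AddSubgroup.mem_smul_pointwise_iff_exists]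
  constructor
  · rintro ⟨d', hd', rfl⟩
    rw [hDt d' hd']
    exact hd'
  · intro hd
    exact ⟨d, hd, hDt d hd⟩

/-- **`t` centralises `Vb ∩ Z1`** if it centralises `z`. -/
theorem fix_Vb_Z1 (hall : V ≤ B.all) {z : U} (hz : Gd B z) {D : AddSubgroup U} {t : H} (ht : t ∈ M)
    (htD : ∀ v ∈ V, t • v - v ∈ D) (hDt : ∀ d ∈ D, t • d = d) (htz : t • z = z) {w : U} (hw : w ∈ Vb B D)
    (hwZ : w ∈ Z1 B) : t • w = w := by
  obtain ⟨e, he, h1, h2⟩ := exists_prod B ht htD hDt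
  rw [h1 w hw]
  rw [mem_Z1] at hwZ
  have heK := B.YM_le he
  have hwa := hall hwZ.1
  rw [← sub_eq_zero]
  refine B.all_sep' (sub_mem (B.all_M (B.KM heK) hwa) hwa) fun m hm => ?_
  by_cases hb : Bad B D m
  · obtain ⟨a, ha, b, hb', e1⟩ := exists_dec' B D (hall hz.mem)
    -- the bad part of `z` is fixed by `e`
    have h3 := comp_fix' B (fun v hv => smul_Vb B ht (smul_D_eq hDt) hv)
      (fun v hv => smul_Vn B ht (smul_D_eq hDt) hv) ha hb' (by rw [← e1]; exact htz)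
    have h4 : e • a = a := by rw [← h1 a ha]; exact h3.1
    have h5 : e • z = z := by rw [e1, smul_add, h4, h2 b hb']
    obtain ⟨c, hc, c', hc', e2⟩ := B.mem_all (hall hz.mem) m
    obtain ⟨a', ha', b', hb'', e'⟩ := B.mem_all hwa m
    have hc0 : c ≠ 0 := by
      rintro rfl
      rw [zero_add] at e2
      exact hz.comp m hm (e2 ▸ hc')
    have h6 : e • c = c := B.comp_fix hm hc hc' e2 h5 heK
    have h7 : (op U e - 1 : AddMonoid.End U) a' = 0 := by
      refine B.ann_comp hm hc hc0 (fun s hs hsY => B.comp_fix hm hc hc' e2 (hz.fix s hs) (B.YM_le hsY)) ha'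
        (fun s hs hsY => B.comp_fix hm ha' hb'' e' (hwZ.2 s hs hsY) (B.YM_le hsY))
        (sub_mem (op_mem heK) (one_mem' KV)) ?_
      change e • c - c = 0
      rw [h6, sub_self]
    change e • a' - a' = 0 at h7
    have e3 : e • w - w = (e • a' - a') + (e • b' - b') := by
      rw [e', smul_add]; abel
    rw [e3, h7, zero_add]
    exact sub_mem (B.rest_K hm heK hb'') hb''
  · have h3 := Vb_le_rest B hb hw
    exact sub_mem (B.rest_K hm heK h3) h3

end fin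

end Cfsg.Agent.Omega.NO3b.BasePt.Del
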