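import Cfsg.Agent.Omega.NO3b.BasePt.ActTop
import Cfsg.Agent.Omega.NO3b.Exit.BlkTr

/-!
# The base point (#22211 (3), helper16; #22310 LEMMA T2, helper506), part 2: the action on one block

`B : Blk0 Y Q BB V F L C h M KV S` (helper255).

* `img_eq` : `V₁ = A ⊗ E`; `exists_lin` : `KV` acts on `V₁` through `K`-linear maps of `A`;
* `exists_Y` : `k ∈ KV`, `k² = 1` on `V₁`, acts on `V₁` as an element of `Y`;
* `norm_Y` : `m Y m⁻¹` (`m ∈ M`) acts on `V₁` as a subgroup of `Y`;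
* `le_F`, `rest_le_F` : the blocks `≠ V₁` lie in `F`;
* **`act_blk`** : `t ∈ M`, `[V, t] ≤ m F`, `t² = 1` on `V` implies `t (m V₁) = m V₁` and `t = m y m⁻¹` on `m V₁`, `y ∈ Y`.
-/

set_option autoImplicit false

open scoped Pointwise

namespace Cfsg.Agent.Omega.NO3b.BasePt.DelBlk

open Subgroup Cfsg.Agent.Omega.NO3b.Exit Ten Descent
open Cfsg.Agent.Omega.NO3b.Exit.TBlk hiding Blk
open Cfsg.Agent.Omega.NO3b.Exit.BlkZ
open Cfsg.Agent.Omega.NO3b.BasePt.ActTop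

universe u v

variable {H : Type u} {U : Type v} [Group H] [Finite H] [AddCommGroup U] [DistribMulAction H U] [Finite U]
variable {Y Q BB : Subgroup H} {V F L C : AddSubgroup U} {h : H} {M KV S : Subgroup H}
variable (B : Blk0 Y Q BB V F L C h M KV S)
include B

/-- `V₁ = A ⊗ E` -/
theorem img_eq : img Y (AM B.dat) U = V1 B.dat := by
  refine le_antisymm ((AddSubgroup.closure_le _).2 ?_) (V1_le_img B.dat)
  rintro _ ⟨f, a, rfl⟩
  obtain ⟨u, rfl⟩ := B.dat.mdl.psi_surj f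
  rw [Mdl.psi_apply, B.dat.bt_apply]
  exact br_mem_V1 B.dat a.val_mem u

/-- `KV` acts on `V₁ = A ⊗ E` through `K`-linear maps of `A`. -/
theorem exists_lin {k : H} (hk : k ∈ KV) : ∃ g : AM B.dat →ₗ[KK Y (AM B.dat)] AM B.dat,
    ∀ (f : HomY Y (AM B.dat) U) (a : AM B.dat), k • (f : AM B.dat →+ U) a = (f : AM B.dat →+ U) (g a) := by
  let g₀ : AM B.dat →+ AM B.dat :=
    AddMonoidHom.mk' (fun a => AM.mk (k * a.val * k⁻¹) (B.AA_K k hk _ a.val_mem)) fun a b => AM.ext (by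
      change k * (a.val * b.val) * k⁻¹ = k * a.val * k⁻¹ * (k * b.val * k⁻¹)
      group)
  have hg : ∀ (f : HomY Y (AM B.dat) U) (a : AM B.dat),
      k • (f : AM B.dat →+ U) a = (f : AM B.dat →+ U) (g₀ a) := by
    intro f a
    obtain ⟨u, rfl⟩ := B.dat.mdl.psi_surj f
    rw [Mdl.psi_apply, Mdl.psi_apply, B.dat.bt_apply, B.dat.bt_apply]
    exact (B.br_K hk a.val_mem u).symm
  obtain ⟨f₀, hf₀⟩ := B.dat.mdl.exists_ne
  refine ⟨{ toFun := g₀, map_add' := g₀.map_add, map_smul' := fun κ a => ?_ }, hg⟩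
  apply HomY.inj hf₀
  rw [RingHom.id_apply]
  have h1 := hg (κ • f₀) a
  rw [HomY.smul_apply, HomY.smul_apply, hg] at h1
  exact h1

/-- elements of `KV` which are involutions on `V₁` act as elements of `Y` -/
theorem exists_Y {k : H} (hk : k ∈ KV) (h2 : ∀ v ∈ V1 B.dat, k • k • v = v) :
    ∃ y ∈ Y, ∀ v ∈ V1 B.dat, k • v = y • v := by
  obtain ⟨g, hg⟩ := exists_lin B hk
  obtain ⟨f₀, hf₀⟩ := B.dat.mdl.exists_ne
  obtain ⟨y, hy⟩ := exists_of_sq (allTv B.dat) B.dat.AM_two g fun a => by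
    apply HomY.inj hf₀
    rw [← hg, ← hg]
    exact h2 _ (by rw [← img_eq B]; exact mem_img f₀ a)
  refine ⟨y, y.2, fun v hv => ?_⟩
  rw [← img_eq B] at hv
  induction hv using AddSubgroup.closure_induction with
  | mem v hv =>
    obtain ⟨f, a, rfl⟩ := hv
    rw [hg, ← hy]
    exact f.2 y a
  | zero => rw [smul_zero, smul_zero]
  | add a b _ _ ha hb => rw [smul_add, smul_add, ha, hb]
  | neg a _ ha => rw [smul_neg, smul_neg, ha]

/-- `m Y m⁻¹` acts on `V₁` as a subgroup of `Y`. -/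
theorem norm_Y {m : H} (hm : m ∈ M) {y : H} (hy : y ∈ Y) : ∃ y' ∈ Y, ∀ v ∈ V1 B.dat, (m * y * m⁻¹) • v = y' • v := by
  have key : ∀ y ∈ Y, ∀ k ∈ Y, ∃ y' ∈ Y, ∀ v ∈ V1 B.dat, (m * (k * y * k⁻¹) * m⁻¹) • v = y' • v := by
    refine B.dat.gen_sep ?_ ?_ ?_ ?_ ?_
    · intro k _
      exact ⟨1, one_mem _, fun v _ => by congr 1; group⟩
    · intro a ha b hb h1 h2 k hk
      obtain ⟨a', ha', h1⟩ := h1 k hk
      obtain ⟨b', hb', h2⟩ := h2 k hk
      refine ⟨a' * b', mul_mem ha' hb', fun v hv => ?_⟩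
      rw [mul_smul a' b', ← h2 v hv, ← h1 _ (by rw [h2 v hv]; exact V1_Y B.dat hb' hv), smul_smul]
      congr 1
      group
    · intro a ha h1 k hk
      obtain ⟨a', ha', h1⟩ := h1 k hk
      refine ⟨a'⁻¹, inv_mem ha', fun v hv => ?_⟩
      have h2 := h1 _ (V1_Y B.dat (inv_mem ha') hv)
      rw [smul_inv_smul] at h2
      have e : m * (k * a⁻¹ * k⁻¹) * m⁻¹ = (m * (k * a * k⁻¹) * m⁻¹)⁻¹ := by group
      rw [e, inv_smul_eq_iff]
      exact h2.symm
    · intro k₁ hk₁ n _ h1 k hk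
      obtain ⟨y', hy', h2⟩ := h1 (k * k₁) (mul_mem hk hk₁)
      refine ⟨y', hy', fun v hv => ?_⟩
      rw [← h2 v hv]
      congr 1
      group
    · intro d hd k hk
      refine exists_Y B (B.nK m hm _ (B.YK (mul_mem (mul_mem hk (B.dat.QY hd)) (inv_mem hk)))) fun v _ => ?_
      rw [smul_smul]
      have e : m * (k * d * k⁻¹) * m⁻¹ * (m * (k * d * k⁻¹) * m⁻¹) = m * (k * (d * d) * k⁻¹) * m⁻¹ := by group
      rw [e, B.dat.Q_sq hd]
      have e2 : m * (k * 1 * k⁻¹) * m⁻¹ = 1 := by group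
      rw [e2, one_smul]
  obtain ⟨y', hy', h1⟩ := key y hy 1 (one_mem _)
  refine ⟨y', hy', fun v hv => ?_⟩
  rw [← h1 v hv]
  congr 1
  group

/-- `m V₁ ≤ F` for `m V₁ ≠ V₁`. -/
theorem le_F {m : H} (hm : m ∈ M) (hne : m • V1 B.dat ≠ V1 B.dat) : m • V1 B.dat ≤ F := by
  by_contra hnot
  obtain ⟨l, hl, hlC, hlW⟩ := exists_sub B.dat (W := m • V1 B.dat) (B.smul_V1_le hm)
    (fun k hk w hw => B.smul_V1_K hm (B.YK hk) hw) hnot
  obtain ⟨a, ha, ha'⟩ := B.dat.exists_notMem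
  have h1 : V1 B.dat ⊓ m • V1 B.dat = ⊥ := (B.dich hm).resolve_left hne
  have h2 : br a l ∈ V1 B.dat ⊓ m • V1 B.dat := ⟨br_mem_V1 B.dat ha l, hlW a ha⟩
  rw [h1, AddSubgroup.mem_bot] at h2
  exact ha' (eq_one_of_br B.dat hlC ha h2 ▸ one_mem _)

theorem rest_le_F : B.rest 1 ≤ F := by
  refine (AddSubgroup.closure_le _).2 ?_
  rintro v ⟨m, hm, hne, hv⟩
  refine le_F B hm (fun h1 => hne ?_) hv
  rw [one_smul, h1]

omit [Finite H] [Finite U] in
/-- `rest m = m rest 1` -/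
theorem rest_smul {m : H} (hm : m ∈ M) {v : U} (hv : v ∈ B.rest m) : m⁻¹ • v ∈ B.rest 1 := by
  have h1 := B.smul_rest (inv_mem hm) hv
  rwa [inv_mul_cancel] at h1

theorem rest_le_smul_F {m : H} (hm : m ∈ M) : B.rest m ≤ m • F := fun _ hv =>
  AddSubgroup.mem_pointwise_smul_iff_inv_smul_mem.2 (rest_le_F B (rest_smul B hm hv))

/-- `V₁ ≰ F` -/
theorem V1_not_le : ¬ V1 B.dat ≤ F := by
  obtain ⟨v, hv, hv0⟩ : ∃ v ∈ V1 B.dat, v ≠ 0 := by
    by_contra hcon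
    push Not at hcon
    obtain ⟨a, ha, ha'⟩ := B.dat.exists_notMem
    apply ha'
    have h1 : a = 1 := B.dat.ext fun u => by rw [br_one]; exact hcon _ (br_mem_V1 B.dat ha u)
    rw [h1]; exact one_mem _
  refine not_le_F B.dat le_rfl (fun k hk w hw => V1_Y B.dat hk hw) fun h0 => hv0 ?_
  rw [h0] at hv
  exact AddSubgroup.mem_bot.1 hv

/-- `t ∈ M` trivial modulo `F`, `t² = 1` on `V`: `t` normalises `V₁` and acts there as an element of `Y`. -/
theorem act_one {t : H} (ht : t ∈ M) (htF : ∀ v ∈ V, t • v - v ∈ F) (ht2 : ∀ v ∈ V, t • t • v = v) :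
    (∀ v ∈ V1 B.dat, t • v ∈ V1 B.dat) ∧ ∃ y ∈ Y, ∀ v ∈ V1 B.dat, t • v = y • v := by
  have hstab : t • V1 B.dat = V1 B.dat := by
    by_contra hne
    apply V1_not_le B
    intro v hv
    have h1 := htF v (V1_le B.dat hv)
    have h2 : t • v ∈ F := le_F B ht hne (AddSubgroup.smul_mem_pointwise_smul _ _ _ hv)
    have e : v = t • v - (t • v - v) := by abel
    rw [e]
    exact sub_mem h2 h1
  have hV1 : ∀ v ∈ V1 B.dat, t • v ∈ V1 B.dat := fun v hv => by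
    have h1 := AddSubgroup.smul_mem_pointwise_smul v t _ hv
    rwa [hstab] at h1
  refine ⟨hV1, ?_⟩
  obtain ⟨g, -, -, hg⟩ := act_top (Y := Y) (A := AM B.dat) B.dat.mdl (DistribSMul.toAddMonoidHom U t)
    (MulAction.injective t) (fun w hw => by
      rw [img_eq B] at hw ⊢
      exact hV1 w hw)
    (fun k => by
      obtain ⟨k', hk', h1⟩ := norm_Y B ht k.2
      refine ⟨⟨k', hk'⟩, fun w hw => ?_⟩
      rw [img_eq B] at hw
      have h2 := h1 _ (hV1 w hw)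
      rw [smul_smul, mul_assoc, inv_mul_cancel, mul_one, mul_smul] at h2
      exact h2)
    (fun k' => by
      obtain ⟨k, hk, h1⟩ := norm_Y B (inv_mem ht) k'.2
      refine ⟨⟨k, hk⟩, fun w hw => ?_⟩
      rw [img_eq B] at hw
      have h2 := h1 w hw
      change t • (k • w) = (k' : H) • t • w
      rw [← h2, smul_smul, smul_smul]
      congr 1
      group)
    (fun w hw => by
      rw [img_eq B] at hw
      exact htF w (V1_le B.dat hw))
  obtain ⟨f₀, hf₀⟩ := B.dat.mdl.exists_ne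
  obtain ⟨y, hy⟩ := exists_of_sq (allTv B.dat) B.dat.AM_two g fun a => by
    apply HomY.inj hf₀
    rw [← hg, ← hg]
    exact ht2 _ (B.dat.mdl.val_mem f₀ a)
  refine ⟨y, y.2, fun v hv => ?_⟩
  rw [← img_eq B] at hv
  induction hv using AddSubgroup.closure_induction with
  | mem v hv =>
    obtain ⟨f, a, rfl⟩ := hv
    have h1 : t • (f : AM B.dat →+ U) a = (f : AM B.dat →+ U) (g a) := hg f a
    rw [h1, ← hy]
    exact f.2 y a
  | zero => rw [smul_zero, smul_zero]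
  | add a b _ _ ha hb => rw [smul_add, smul_add, ha, hb]
  | neg a _ ha => rw [smul_neg, smul_neg, ha]

/-- **(3)** `t ∈ M`, `[V, t] ≤ m F`, `t² = 1` on `V`: `t` normalises the block `m V₁` and acts there as an element of
`m Y m⁻¹`. -/
theorem act_blk {m : H} (hm : m ∈ M) {t : H} (ht : t ∈ M) (htF : ∀ v ∈ V, t • v - v ∈ m • F)
    (ht2 : ∀ v ∈ V, t • t • v = v) :
    (∀ v ∈ m • V1 B.dat, t • v ∈ m • V1 B.dat) ∧ ∃ y ∈ Y, ∀ v ∈ m • V1 B.dat, t • v = (m * y * m⁻¹) • v := by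
  have hx : m⁻¹ * t * m ∈ M := mul_mem (mul_mem (inv_mem hm) ht) hm
  obtain ⟨h1, y, hy, h2⟩ := act_one B hx (fun v hv => by
      have h3 := AddSubgroup.mem_pointwise_smul_iff_inv_smul_mem.1 (htF _ (B.mV m hm v hv))
      rwa [smul_sub, inv_smul_smul, smul_smul, smul_smul] at h3) (fun v hv => by
      have h3 := ht2 _ (B.mV m hm v hv)
      rw [smul_smul]
      have e : m⁻¹ * t * m * (m⁻¹ * t * m) = m⁻¹ * (t * (t * m)) := by group
      rw [e, mul_smul, mul_smul, mul_smul, h3, inv_smul_smul])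
  have hmem : ∀ v ∈ m • V1 B.dat, m⁻¹ • v ∈ V1 B.dat := fun v hv =>
    AddSubgroup.mem_pointwise_smul_iff_inv_smul_mem.1 hv
  have e1 : ∀ v : U, m • (m⁻¹ * t * m) • m⁻¹ • v = t • v := fun v => by
    rw [smul_smul, smul_smul]
    congr 1
    group
  refine ⟨fun v hv => ?_, y, hy, fun v hv => ?_⟩
  · rw [← e1 v]
    exact AddSubgroup.smul_mem_pointwise_smul _ _ _ (h1 _ (hmem v hv))
  · rw [← e1 v, h2 _ (hmem v hv), smul_smul, smul_smul]

end Cfsg.Agent.Omega.NO3b.BasePt.DelBlk
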