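import Cfsg.Agent.Omega.NO3b.BasePt.Main
import Cfsg.Agent.Omega.NO3b.EndX.Done

/-!
# NotFFG (3L-T), no open hypothesis

**`Done.notFFG : Merge.NotFFG K`** for every class `K` (`BasePt.basePoint`, helper768's `EndX.notFFG`);
`Done.notFFG_rows` : from `MLK` and `RowsX`.
-/

set_option autoImplicit false

namespace Cfsg.Agent.Omega.NO3b.BasePt.Done

open Cfsg.Agent.Omega.Frame
open Cfsg.Agent.Omega.ML.Final (MLK)
open Cfsg.Agent.Omega.ML.Ex (RowsX)
open Cfsg.Agent.Omega.NOThreeL.Merge (NotFFG)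

universe u

variable {K : Cls.{u}}

/-- **`Merge.NotFFG K`** from (ML) for K-groups and the K-list for exact subgroups. -/
theorem notFFG_rows (ml : MLK.{u, u}) (R : RowsX.{u, u}) : NotFFG K := EndX.notFFG_all ml R basePoint

/-- **`Merge.NotFFG K`**. -/
theorem notFFG : NotFFG K := EndX.notFFG basePoint

end Cfsg.Agent.Omega.NO3b.BasePt.Done
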