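import Cfsg.Agent.Omega.NO3b.Closed.Pair
import Cfsg.Agent.Omega.NO3b.Closed.Strong
import Cfsg.Agent.Omega.NO3b.Chain.Glue
import Cfsg.Agent.Omega.NOThreeL.HypGFrame

/-!
# The base point: the plug for `Merge.NotFFG K` (helper506, #21055 (4), #21336; helper16, #22211)

* `BaseFlag S₁ Z₁ V₁ Lam` : `(Lam, V₁)` is a pair for #19499 over `Z₁`, with `FixS` and good sets for all closed points;
* `ExactEndS` : the exact end for flags with `FixS`;
* `BasePoint` : every local exit (`HypG S M`, `LocG S M B`) has a base flag;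
* `locExit_of`, `notFFG_of`, `notFF_of` : the sockets `LocExit K`, `Merge.NotFFG K`, `NO3S.NotFF K`.
-/

set_option autoImplicit false

namespace Cfsg.Agent.Omega.NO3b.BasePt

open Subgroup Cfsg
open Cfsg.Agent.ZN (zc zl)
open Cfsg.Agent.Omega.MinPar Cfsg.Agent.Omega.Frame
open Cfsg.Agent.Omega.NO3b.ClosedPt (Flag Clo Geo GoodAt End Out FixS)
open Cfsg.Agent.Omega.NOThreeL.Merge (HypG NotFFG)
open Cfsg.Agent.Omega.NOThreeL.MergeNF (NFRoot)
open Cfsg.Agent.Omega.NOThreeL.HypGFrame (LocG LocExit)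
open Cfsg.Agent.Omega.ML.Final (MLK)

universe u

/-- **A base flag**: a pair for #19499 over `Z`, `C_W(S)` centralised by `C_G(Z)`, good sets. -/
structure BaseFlag {G : Type u} [Group G] (S Z V Lam : Subgroup G) : Prop where
  geo : Geo S Z V Lam
  fixS : FixS S Z V
  good : ∀ D : Subgroup G, Clo S Z V D → D ≠ V → ∃ lam T₀, GoodAt (S ⊓ centralizer (D : Set G)) V D lam T₀

/-- **The exact end** for flags with `FixS`. -/
def ExactEndS : Prop :=
  ∀ (G : Type u) [Group G] [Finite G], IsKProper G → ∀ (S Z V D B lam T₀ : Subgroup G) (e : End S Z V D B),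
    Z ≠ ⊥ → FixS S Z V → Out e lam T₀ → False

/-- **The base point**: every local exit has a base flag. -/
def BasePoint : Prop :=
  ∀ (G : Type u) [Group G] [Finite G] (S : Sylow 2 G) (M B : Subgroup G), HypG S M → NFRoot (S : Subgroup G) M →
    LocG S M B → ∃ S₁ Z₁ V₁ Lam : Subgroup G, BaseFlag S₁ Z₁ V₁ Lam

/-- One end of a maximal pair for a base flag. -/
theorem BaseFlag.false_of {G : Type u} [Group G] [Finite G] (hG : Ctx G) (ml : MLK.{u, u}) (hE : ExactEndS.{u})
    {S Z V Lam : Subgroup G} (h : BaseFlag S Z V Lam) : False := by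
  obtain ⟨D, B, e, lam, T₀, o⟩ := h.geo.exists_out ml (Chain.kgroup_centralizer hG h.geo.ne) h.good
  exact hE G hG.kproper S Z V D B lam T₀ e h.geo.ne h.fixS o

/-- **`LocExit K`** from (ML), the exact end and the base point. -/
theorem locExit_of {K : Cls.{u}} (ml : MLK.{u, u}) (hE : ExactEndS.{u}) (hB : BasePoint.{u}) : LocExit K := by
  intro G _ _ _ S M hM r B hLoc
  obtain ⟨S₁, Z₁, V₁, Lam, h⟩ := hB G S M B hM r hLoc
  exact (h.false_of hM.ctx ml hE).elim

/-- **`Merge.NotFFG K`** from (ML), the exact end and the base point. -/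
theorem notFFG_of {K : Cls.{u}} (ml : MLK.{u, u}) (hE : ExactEndS.{u}) (hB : BasePoint.{u}) : NotFFG K :=
  NOThreeL.HypGFrame.notFFG_of (locExit_of ml hE hB)

/-- **`NO3S.NotFF K`** from (ML), the exact end and the base point. -/
theorem notFF_of {K : Cls.{u}} (ml : MLK.{u, u}) (hE : ExactEndS.{u}) (hB : BasePoint.{u}) : NO3S.NotFF K :=
  NOThreeL.Merge.notFF_of (notFFG_of ml hE hB)

end Cfsg.Agent.Omega.NO3b.BasePt
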