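import Cfsg.Agent.Omega.NO3b.BasePt.Flag
import Cfsg.Agent.Omega.NO3b.BasePt.Plug
import Cfsg.Agent.Omega.NO3b.Closed.Pow
import Cfsg.Agent.Omega.NOThreeL.EndFive

/-!
# NotFFG (3L-T): the assembly at the base point, group level

`Lines S B V` (`B` weakly closed, `N_G(B) ≤ N_G(V)`), `R` with `B ≤ R`, `N_G(B) ≤ N_G(R)`; `S₁ = S ∩ R`,
`Z₁ = C_V(S₁)` (`Zo S R V`), `V₂ = {v ∈ V : [v, S₁] ≤ Z₁}` (`V2g S R V`); `M` is generated by members of `P*(S)`,
`⟨M, C_G(Z)⟩` is nonlocal.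

* `BaseDat S M V B R` : the inputs: `C_S(Z₁) ≤ R`, `C_G(Z) ≤ N_G(Z₁)`, `P ≤ N_G(V₂)` for `P ∈ P*(S)`, `P ≤ M`,
  `P ≰ C_G(Z)`, good sets;
* `BaseDat.flagDat` : `FlagDat S Z V Z₁ V₂ M C_G(Z)`;
* `BaseDat.geo`, `BaseDat.baseFlag` : **`BaseFlag S₁ Z₁ V₂ N_G(V₂)`**.
-/

set_option autoImplicit false
set_option linter.unusedSectionVars false

namespace Cfsg.Agent.Omega.NO3b.BasePt

open Subgroup Cfsg
open Cfsg.Agent.ZN (o2 zc zl)
open Cfsg.Agent.ZN.ChoiceBase hiding mem_zc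
open Cfsg.Agent.ZN.ChoiceSit (Syl o2_le_syl)
open Cfsg.Agent.MinSimple.EmptyTI (syl_of_le)
open Cfsg.Agent.MinSimple.VModule (le_centralizer_zc le_normalizer_zl zc_le_zl le_normalizer_o2 mem_zc)
open Cfsg.Agent.Omega.MinPar Cfsg.Agent.Omega.Frame Cfsg.Agent.Omega.FrameNOFF
open Cfsg.Agent.Omega.NO3b.EZero (cl cl_le le_cl cj_le_cl cent_symm)
open Cfsg.Agent.Omega.NO3b.ClosedPow (NN mem_NN cm)
open Cfsg.Agent.Omega.NO3b.ClosedPt (Flag Geo FixS Clo GoodAt)
open Cfsg.Agent.Omega.NOThreeL.EndFive (Zo)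

universe u

variable {G : Type u} [Group G] [Finite G]

/-- `V₂ = {v ∈ V : [v, S ∩ R] ≤ C(S ∩ R)}` -/
abbrev V2g (S R V : Subgroup G) : Subgroup G := NN V (S ⊓ R) (centralizer ((S ⊓ R : Subgroup G) : Set G))

/-- **The inputs at the base point.** -/
structure BaseDat (S : Sylow 2 G) (M V B R : Subgroup G) : Prop where
  BR : B ≤ R
  NR : normalizer (B : Set G) ≤ normalizer (R : Set G)
  s1 : (S : Subgroup G) ⊓ centralizer (Zo (S : Subgroup G) R V : Set G) ≤ R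
  bp : CZ (S : Subgroup G) ≤ normalizer (Zo (S : Subgroup G) R V : Set G)
  e2 : ∀ P : Subgroup G, IsParS (S : Subgroup G) P → P ≤ M → ¬ P ≤ CZ (S : Subgroup G) →
    P ≤ normalizer (V2g (S : Subgroup G) R V : Set G)
  good : ∀ D : Subgroup G, D ≤ V2g (S : Subgroup G) R V → D ≠ V2g (S : Subgroup G) R V →
      (∀ w ∈ V2g (S : Subgroup G) R V,
        (∀ t ∈ ((S : Subgroup G) ⊓ R) ⊓ centralizer (D : Set G), t * w = w * t) → w ∈ D) →
        ∃ lam T₀, GoodAt (((S : Subgroup G) ⊓ R) ⊓ centralizer (D : Set G)) (V2g (S : Subgroup G) R V) D lam T₀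

section lines

variable {S : Sylow 2 G} {B V : Subgroup G} (l : NoEmp.Lines S B V) (hc : IsCharacteristicTwoType G)
include l hc

/-- `V ≤ O₂(C_G(D))` for `1 ≠ D ≤ V` -/
theorem Vo_of_lines (D : Subgroup G) (hD : D ≤ V) (hne : D ≠ ⊥) : V ≤ o2 (centralizer (D : Set G)) :=
  l.le_o2 (l.char2 hc) (l.char2 hc D hD hne) (l.JV.trans (centralizer_le hD)) (l.comm.trans (centralizer_le hD))

omit hc in
theorem cl_le_o2 : cl V (centralizer (zc (S : Subgroup G) : Set G)) ≤ o2 (centralizer (zc (S : Subgroup G) : Set G)) :=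
  cl_le fun x hx => by
    have h1 := cj_mono x l.low
    rwa [cj_eq_of_mem_normalizer (le_normalizer_o2 _ hx)] at h1

/-- `C_W(S) = Z` -/
theorem fix_of_lines (hne : zc (S : Subgroup G) ≠ ⊥) {w : G}
    (hw : w ∈ cl V (centralizer (zc (S : Subgroup G) : Set G))) (hS : ∀ s ∈ (S : Subgroup G), s * w = w * s) :
    w ∈ zc (S : Subgroup G) := by
  have hcm := cl_comm (fun a b hab => l.comm_of_inter (l.char2 hc) hab) l.ZV hne
  have hsq := EZero.sq_of_comm hcm (B := fun c : centralizer (zc (S : Subgroup G) : Set G) => cj (c : G) V)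
    (fun c => cj_le_cl c.2) le_rfl (by
      rintro c _ ⟨x, hx, rfl⟩
      rw [← map_pow, l.sq x hx, map_one])
  exact mem_zc.2 ⟨((cl_le_o2 l).trans (o2_le_syl (syl_of_le (le_centralizer_zc _)))) hw, fun s hs => hS s hs,
    hsq w hw⟩

end lines

namespace BaseDat

variable {S : Sylow 2 G} {M V B R : Subgroup G} (h : BaseDat S M V B R) (l : NoEmp.Lines S B V)
include h l

theorem S_le_R : (S : Subgroup G) ≤ normalizer (R : Set G) := l.S_le_NJ.trans h.NR

theorem S_le_S1 : (S : Subgroup G) ≤ normalizer (((S : Subgroup G) ⊓ R : Subgroup G) : Set G) :=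
  ClosedPt.norm_inf Subgroup.le_normalizer (h.S_le_R l)

theorem S_le_Z1 : (S : Subgroup G) ≤ normalizer (Zo (S : Subgroup G) R V : Set G) :=
  ClosedPt.norm_inf (l.S_le_NJ.trans l.NJ) (ClosedPt.norm_cent (h.S_le_S1 l))

omit l in
/-- `C_S(Z₁) = S ∩ R` -/
theorem s1_eq : (S : Subgroup G) ⊓ centralizer (Zo (S : Subgroup G) R V : Set G) = (S : Subgroup G) ⊓ R :=
  le_antisymm (le_inf inf_le_left h.s1) (le_inf inf_le_left (cent_symm inf_le_right))

omit h in
theorem mem_V2 {v : G} : v ∈ V2g (S : Subgroup G) R V ↔ v ∈ V ∧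
    ∀ s ∈ (S : Subgroup G) ⊓ R, s * v * s⁻¹ * v⁻¹ ∈ Zo (S : Subgroup G) R V := by
  have hS1V : (S : Subgroup G) ⊓ R ≤ normalizer (V : Set G) := inf_le_left.trans (l.S_le_NJ.trans l.NJ)
  have h1 := mem_NN (B := (S : Subgroup G) ⊓ R)
    (L := centralizer (((S : Subgroup G) ⊓ R : Subgroup G) : Set G)) (x := v) l.comm hS1V
  rw [h1]
  constructor
  · rintro ⟨hv, h2⟩
    refine ⟨hv, fun s hs => ⟨?_, h2 s hs⟩⟩
    exact V.mul_mem ((mem_normalizer_iff.1 (hS1V hs) v).1 hv) (V.inv_mem hv)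
  · rintro ⟨hv, h2⟩
    exact ⟨hv, fun s hs => (h2 s hs).2⟩

variable (hc : IsCharacteristicTwoType G) (hne : zc (S : Subgroup G) ≠ ⊥)
  (gen : M ≤ sSup {P : Subgroup G | IsParS (S : Subgroup G) P ∧ P ≤ M}) (nonLoc : NonLoc M (CZ (S : Subgroup G)))
include hc hne gen nonLoc

/-- **the flag data** -/
theorem flagDat : FlagDat (S : Subgroup G) (zc (S : Subgroup G)) V (Zo (S : Subgroup G) R V)
    (V2g (S : Subgroup G) R V) M (CZ (S : Subgroup G)) := by
  have syl : Syl (S : Subgroup G) (centralizer (zc (S : Subgroup G) : Set G)) := syl_of_le (le_centralizer_zc _)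
  have ZV : zc (S : Subgroup G) ≤ Zo (S : Subgroup G) R V :=
    le_inf l.ZV fun z hz => mem_centralizer_iff.2 fun s hs => (mem_zc.1 hz).2.1 s hs.1
  refine FlagDat.of_wc (B := B) syl (l.S_le_NJ.trans l.NJ) hne ZV (fun v hv => by rw [← pow_two]; exact l.sq v hv)
    (Vo_of_lines l hc) (fun a b hab => l.comm_of_inter (l.char2 hc) hab)
    (fun w hw hs _ c hcc => (mem_centralizer_iff.1 hcc w (fix_of_lines l hc hne hw hs)).symm)
    (h.S_le_Z1 l) (syl_of_norm syl ZV h.bp) ⟨l.JS, l.wc⟩ l.JV l.NJ ?_ ?_ h.bp ?_ nonLoc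
  · intro v
    rw [h.s1_eq]
    constructor
    · rintro ⟨h1, h2⟩
      exact ⟨h1, fun s hs => mem_centralizer_iff.1 h2 s hs⟩
    · rintro ⟨h1, h2⟩
      exact ⟨h1, mem_centralizer_iff.2 fun s hs => h2 s hs⟩
  · intro v
    rw [h.s1_eq]
    exact mem_V2 l
  · refine gen.trans (sSup_le ?_)
    rintro P ⟨hP, hPM⟩
    by_cases h1 : P ≤ CZ (S : Subgroup G)
    · exact h1.trans le_sup_right
    · exact (h.e2 P hP hPM h1).trans le_sup_left

/-- the pair for #19499 -/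
theorem geo : Geo ((S : Subgroup G) ⊓ R) (Zo (S : Subgroup G) R V) (V2g (S : Subgroup G) R V)
    (normalizer (V2g (S : Subgroup G) R V : Set G)) := by
  have f := h.flagDat l hc hne gen nonLoc
  have e := h.s1_eq
  have syl := f.syl₁
  rw [e] at syl
  refine ⟨⟨syl, f.Z₁V', inf_le_left.trans f.SV', f.Vo₁, f.comm', fun v hv => f.sq v (f.V'V hv), ?_, ?_⟩, f.ne, le_rfl,
    f.hz', fun Q hQ h1 h2 => f.nonloc' Q hQ h1 h2⟩
  · intro w hw hs
    exact f.fixC' w hw (by rw [e]; exact hs)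
  · intro v hv hs
    exact f.fixV v hv (by rw [e]; exact hs)

/-- **The base flag.** -/
theorem baseFlag : BaseFlag ((S : Subgroup G) ⊓ R) (Zo (S : Subgroup G) R V) (V2g (S : Subgroup G) R V)
    (normalizer (V2g (S : Subgroup G) R V : Set G)) where
  geo := h.geo l hc hne gen nonLoc
  fixS := by
    have f := h.flagDat l hc hne gen nonLoc
    intro w hw hs
    exact f.fixS (fun w hw hs c hcc => (mem_centralizer_iff.1 hcc w (fix_of_lines l hc hne hw hs)).symm) w hw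
      (by rw [h.s1_eq]; exact hs)
  good := fun D hD hne => h.good D hD.DV hne hD.clo

end BaseDat

end Cfsg.Agent.Omega.NO3b.BasePt
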