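import Cfsg.Agent.ZN.ChoiceBase

/-!
# The tensor-free line `Fc D = C_V(C_R(D))` (helper255, bb 22738)

`R` is normalised by `N_G(V)` (the elements of `N_G(V)` which act on `V` as elements of `R^`). The free fields of
helper826's `MPt S B V Lb` for `Lb := Fc R V`:

* `le_Fc`, `Fc_le`, `Fc_mono` : `D ≤ Fc D ≤ V`, `D ≤ D' → Fc D ≤ Fc D'`;
* `Fc_cj` : `Fc (D^m) = (Fc D)^m` for `m` in `N_G(V) ∩ N_G(R)`;
* `Fc_stab` : `C_G(D) ∩ N_G(V) ≤ N_G(Fc D)`.
-/

set_option autoImplicit false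

namespace Cfsg.Agent.Omega.NO3b.BasePt

open Subgroup
open Cfsg.Agent.ZN.ChoiceBase (cj mem_cj cj_mono cj_inf cj_centralizer cj_eq_of_mem_normalizer mem_normalizer_iff_cj)

universe u

variable {G : Type u} [Group G]

/-- `Fc R V D = C_V(C_R(D))` -/
def Fc (R V D : Subgroup G) : Subgroup G :=
  V ⊓ centralizer ((R ⊓ centralizer (D : Set G) : Subgroup G) : Set G)

variable {R V D D' : Subgroup G}

theorem mem_Fc {v : G} : v ∈ Fc R V D ↔ v ∈ V ∧ ∀ r ∈ R, r ∈ centralizer (D : Set G) → r * v = v * r := by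
  unfold Fc
  rw [mem_inf, mem_centralizer_iff]
  exact ⟨fun h => ⟨h.1, fun r hr hc => h.2 r ⟨hr, hc⟩⟩, fun h => ⟨h.1, fun r hr => h.2 r hr.1 hr.2⟩⟩

theorem Fc_le : Fc R V D ≤ V := inf_le_left

theorem le_Fc (h : D ≤ V) : D ≤ Fc R V D := fun d hd =>
  mem_Fc.2 ⟨h hd, fun _ _ hc => (mem_centralizer_iff.1 hc d hd).symm⟩

theorem Fc_mono (h : D ≤ D') : Fc R V D ≤ Fc R V D' := fun _ hv =>
  mem_Fc.2 ⟨(mem_Fc.1 hv).1, fun r hr hc => (mem_Fc.1 hv).2 r hr (centralizer_le h hc)⟩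

theorem Fc_anti {R' : Subgroup G} (h : R ≤ R') : Fc R' V D ≤ Fc R V D := fun _ hv =>
  mem_Fc.2 ⟨(mem_Fc.1 hv).1, fun r hr hc => (mem_Fc.1 hv).2 r (h hr) hc⟩

theorem cj_Fc (m : G) : cj m (Fc R V D) = Fc (cj m R) (cj m V) (cj m D) := by
  unfold Fc
  rw [cj_inf, cj_centralizer, cj_inf, cj_centralizer]

/-- **eqv** -/
theorem Fc_cj {m : G} (hV : m ∈ normalizer (V : Set G)) (hR : m ∈ normalizer (R : Set G)) :
    Fc R V (cj m D) = cj m (Fc R V D) := by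
  rw [cj_Fc, cj_eq_of_mem_normalizer hV, cj_eq_of_mem_normalizer hR]

/-- **stab** -/
theorem Fc_stab (hR : normalizer (V : Set G) ≤ normalizer (R : Set G)) :
    centralizer (D : Set G) ⊓ normalizer (V : Set G) ≤ normalizer (Fc R V D : Set G) := fun m hm => by
  rw [mem_normalizer_iff_cj, ← Fc_cj hm.2 (hR hm.2),
    cj_eq_of_mem_normalizer (centralizer_le_normalizer _ hm.1)]

/-- `C_R(Fc D) = C_R(D)` -/
theorem inf_centralizer_Fc (h : D ≤ V) :
    R ⊓ centralizer (Fc R V D : Set G) = R ⊓ centralizer (D : Set G) := by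
  refine le_antisymm (inf_le_inf le_rfl (centralizer_le (le_Fc h))) fun r hr => ⟨hr.1, ?_⟩
  exact mem_centralizer_iff.2 fun v hv => ((mem_Fc.1 hv).2 r hr.1 hr.2).symm

theorem Fc_Fc (h : D ≤ V) : Fc R V (Fc R V D) = Fc R V D := by
  change V ⊓ centralizer ((R ⊓ centralizer (Fc R V D : Set G) : Subgroup G) : Set G) = Fc R V D
  rw [inf_centralizer_Fc h]
  rfl

end Cfsg.Agent.Omega.NO3b.BasePt
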