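import Cfsg.Agent.Omega.NO3b.BasePt.TFix
import Cfsg.Agent.Omega.NO3b.BasePt.Stab
import Cfsg.Agent.Omega.NO3b.BasePt.Count
import Cfsg.Agent.Omega.NO3b.Exit.MU
import Cfsg.Agent.Omega.NO3b.Exit.LocBar
import Cfsg.Agent.Omega.NO3b.Base.MovePt
import Cfsg.Agent.Omega.NO3b.ZP.Base.Move

/-!
# 3L-T (D), the group level: the moving base point `Lb D = C_V(C_R(D))` (helper255)

`N ≤ H ≤ N_G(V)`, `Fa : Fam (MU hc) (im h N) 𝒴` the blocks of `V`, `R = {g ∈ N' ∩ H | g acts on V as an element of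
RR 𝒴}` (`hR`), `N ≤ N'` (`N' = N` or `N' = ⊤`).

* `ad_Fc` : `ad hc (Fc R V D) = fcl 𝒴 (ad hc D)`;
* `Fc_zc` : `Fc R V Z = V ∩ C(S ∩ R)` if `C_V(S) = Z`;
* `nfl` : `A ≤ N`, `[V, A] ≤ D ≤ C_V(A)` ⟹ `A` centralises `Fc R V D` or `|A : C_A(Fc D)| < |Fc D : C_{Fc D}(A)|`;
* `exists_fl_over`, `exists_fl_overZ` : a bad `D ≥ Z` lies in a conjugate of a panel;
* `mpt`, `mptZ` : **`MPt S B V (Fc R V)`**, **`MPtZ S Z B V (Fc R V)`**.
-/

set_option autoImplicit false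

namespace Cfsg.Agent.Omega.NO3b.BasePt.Fld

open Subgroup Cfsg
open Cfsg.Agent.ZN (o2 zc zl jj zj)
open Cfsg.Agent.ZN.ChoiceBase hiding mem_zc
open Cfsg.Agent.ZN.ChoiceSit (Syl exists_syl syl_conj o2_le_syl syl_not_dvd)
open Cfsg.Agent.MinSimple.EmptyTI (syl_of_le)
open Cfsg.Agent.Omega.NO3b.EZero (NotFF Par)
open Cfsg.Agent.Omega.NO3b.NoEmp (Lines)
open Cfsg.Agent.Omega.NO3b.Base (MPt)
open Cfsg.Agent.Omega.NO3b.ZP.Base (MPtZ)
open Cfsg.Agent.Omega.NO3b.ZP (LinesZ CF)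
open Cfsg.Agent.Omega.NO3b.Exit Cfsg.Agent.Omega.NO3b.Exit.Bridge
open Cfsg.Agent.Omega.FF.Basic (fx mem_fx)
open Cfsg.Agent.Omega.FFBr (XX pr im mem_im)
open scoped Pointwise

universe u

variable {G : Type u} [Group G] {H V N N' R : Subgroup G} {h : H ≤ normalizer (V : Set G)}
  {hc : V ≤ centralizer (V : Set G)} {𝒴 : Set (Subgroup (XX h))}

section bridge

variable (hR : ∀ g, g ∈ R ↔ g ∈ N' ∧ ∃ hg : g ∈ H, pr h ⟨g, hg⟩ ∈ RR 𝒴) (hNN : N ≤ N') (hNH : N ≤ H)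

/-- `g` centralises `D` iff its image fixes `ad D` -/
theorem mem_cent_iff {D : Subgroup G} (hD : D ≤ V) {g : G} (hg : g ∈ H) :
    g ∈ centralizer (D : Set G) ↔ ∀ d ∈ ad hc D, pr h ⟨g, hg⟩ • d = d := by
  rw [mem_centralizer_iff]
  constructor
  · intro h1 d hd
    exact (pr_smul_eq_iff' h).2 (h1 _ hd).symm
  · intro h1 d hd
    exact ((pr_smul_eq_iff' h).1 (h1 (mk hc (hD hd)) hd)).symm

include hR

theorem R_le_H : R ≤ H := fun g hg => ((hR g).1 hg).2.1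

theorem R_le : R ≤ normalizer (V : Set G) := (R_le_H hR).trans h

variable (Fa : Fam (MU hc) (im h N) 𝒴)
include hNN Fa

theorem exists_R {r : XX h} (hr : r ∈ RR 𝒴) : ∃ g : H, (g : G) ∈ R ∧ pr h g = r := by
  obtain ⟨g, hg, rfl⟩ := Fa.RR_le hr
  exact ⟨g, (hR g).2 ⟨hNN hg, g.2, hr⟩, rfl⟩

/-- **the bridge** -/
theorem ad_Fc {D : Subgroup G} (hD : D ≤ V) : ad hc (Fc R V D) = fcl 𝒴 (ad hc D) := by
  ext w
  rw [mem_ad, mem_Fc, mem_fcl]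
  constructor
  · rintro ⟨-, h1⟩ r hr hrD
    obtain ⟨g, hg, rfl⟩ := exists_R hR hNN Fa hr
    exact (pr_smul_eq_iff' h).2 (h1 g hg ((mem_cent_iff hD g.2).2 hrD))
  · intro h1
    refine ⟨val_mem w, fun g hg hgD => ?_⟩
    obtain ⟨-, hgH, hgR⟩ := (hR g).1 hg
    exact (pr_smul_eq_iff' h).1 (h1 _ hgR ((mem_cent_iff hD hgH).1 hgD))

include hNH

/-- `N ≤ N_G(R)` -/
theorem N_le : N ≤ normalizer (R : Set G) := by
  have key : ∀ n ∈ N, ∀ g ∈ R, n * g * n⁻¹ ∈ R := by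
    intro n hn g hg
    obtain ⟨hgN, hgH, hgR⟩ := (hR g).1 hg
    refine (hR _).2 ⟨mul_mem (mul_mem (hNN hn) hgN) (inv_mem (hNN hn)),
      mul_mem (mul_mem (hNH hn) hgH) (inv_mem (hNH hn)), ?_⟩
    have e : pr h ⟨n * g * n⁻¹, mul_mem (mul_mem (hNH hn) hgH) (inv_mem (hNH hn))⟩ =
        pr h ⟨n, hNH hn⟩ * pr h ⟨g, hgH⟩ * (pr h ⟨n, hNH hn⟩)⁻¹ := by
      rw [← map_inv, ← map_mul, ← map_mul]
      rfl
    rw [e]
    exact Fa.RR_conj ⟨⟨n, hNH hn⟩, hn, rfl⟩ hgR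
  intro n hn
  rw [mem_normalizer_iff]
  intro g
  refine ⟨fun hg => key n hn g hg, fun hg => ?_⟩
  have h1 := key n⁻¹ (inv_mem hn) _ hg
  have e : n⁻¹ * (n * g * n⁻¹) * n⁻¹⁻¹ = g := by group
  rwa [e] at h1

/-- **eqv** -/
theorem eqv {D : Subgroup G} {m : G} (hm : m ∈ N) : Fc R V (cj m D) = cj m (Fc R V D) :=
  Fc_cj (h (hNH hm)) (N_le hR hNN hNH Fa hm)

end bridge

section fin

variable [Finite G]

variable (hR : ∀ g, g ∈ R ↔ g ∈ N' ∧ ∃ hg : g ∈ H, pr h ⟨g, hg⟩ ∈ RR 𝒴) (hNN : N ≤ N') (hNH : N ≤ H)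
variable (Fa : Fam (MU hc) (im h N) 𝒴)
variable (gas : ∀ w : MU hc, ∃ a ∈ sm (MU hc) 𝒴, ∃ c : MU hc, (∀ r ∈ RR 𝒴, r • c = c) ∧ w = a + c)

instance : Finite (XX h) := inferInstance

omit [Finite G] in
include hR hNN Fa in
/-- a flat is closed -/
theorem Fc_flat {Y Q : Subgroup (XX h)} (hY : Y ∈ 𝒴) (hQ : Q ≤ Y) {F : Subgroup G} (hF : F ≤ V)
    (e : fx (MU hc) Q = ad hc F) : Fc R V F = F := by
  rw [← ad_inj (hc := hc) Fc_le hF, ad_Fc hR hNN Fa hF, ← e, fcl_flat hY hQ]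

include hR hNN hNH Fa gas in
/-- **nfl** -/
theorem nfl (nff : NotFF V) (sq : ∀ v ∈ V, v ^ 2 = 1) {A D : Subgroup G} (hD : D ≤ V) (hA : A ≤ N)
    (hAD : A ≤ centralizer (D : Set G)) (hVD : ∀ a ∈ A, ∀ v ∈ V, a * v * a⁻¹ * v⁻¹ ∈ D)
    (hne : ¬ A ≤ centralizer (Fc R V D : Set G)) :
    (centralizer (Fc R V D : Set G)).relIndex A < (centralizer (A : Set G)).relIndex (Fc R V D) := by
  have hAV : A ≤ normalizer (V : Set G) := hA.trans (hNH.trans h)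
  refine Count.count (V := V) (W := un (bd 𝒴 (ad hc D))) (D := D) (fun v hv w hw => mem_centralizer_iff.1 (hc hw) v hv)
    (fun v hv => by rw [← pow_two]; exact sq v hv) (un_le _) Fc_le ?_ hAV ?_ ?_ hVD
    (fun a ha d hd => (mem_centralizer_iff.1 (hAD ha) d hd).symm) nff hne
  · intro v hv
    have h1 := Fam.le_bd_sup gas (ad hc D) (mk hc hv)
    obtain ⟨w, hw, f, hf, e⟩ := AddSubgroup.mem_sup.1 h1
    rw [← ad_Fc hR hNN Fa hD] at hf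
    have e2 : val w * val f = v := by rw [← val_add, e, val_mk]
    rw [← e2]
    exact mul_mem_sup ⟨w, hw, rfl⟩ hf
  · intro a ha
    have h1 := eqv hR hNN hNH Fa (D := D) (hA ha)
    rw [cj_eq_of_mem_normalizer (centralizer_le_normalizer _ (hAD ha))] at h1
    exact mem_normalizer_iff_cj.2 h1.symm
  · intro a ha
    have haH : a ∈ H := hNH (hA ha)
    obtain ⟨-, m, ⟨n, hn, rfl⟩, h3, h4⟩ := Fa.tt' gas (t := pr h ⟨a, haH⟩) ⟨⟨a, haH⟩, hA ha, rfl⟩ (D := ad hc D)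
      (fun w => by
        rw [mem_ad, val_sub, val_smul]
        exact hVD a ha _ (val_mem w)) ((mem_cent_iff hD haH).1 (hAD ha))
    refine ⟨n, h n.2, ?_, fun v hv => ?_⟩
    · rintro _ ⟨w, hw, rfl⟩
      exact (pr_smul_eq_iff' h).1 (h3 w hw)
    · have hvV : v ∈ V := Fc_le hv
      have h5 : mk hc hvV ∈ fcl 𝒴 (ad hc D) := by
        rw [← ad_Fc hR hNN Fa hD]
        exact hv
      have h6 := congrArg val (h4 _ h5)
      rwa [val_smul, val_smul, val_mk] at h6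

include hR hNN hNH Fa gas in
/-- **`Fc Z = C_V(S ∩ R)`** if `C_V(S) = Z` -/
theorem Fc_eq {S Z : Subgroup G} (S2 : IsPGroup 2 S) (SN : S ≤ N) (syl : ¬ 2 ∣ (im h S).relIndex (im h N))
    (hZ : ∀ v, v ∈ Z ↔ v ∈ V ∧ ∀ s ∈ S, s * v = v * s) :
    Fc R V Z = V ⊓ centralizer ((S ⊓ R : Subgroup G) : Set G) := by
  have hZV : Z ≤ V := fun v hv => ((hZ v).1 hv).1
  have e : ad hc Z = fx (MU hc) (im h S) := by
    ext w
    rw [mem_ad, mem_fx_im h (SN.trans hNH), hZ, mem_centralizer_iff]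
    exact ⟨fun h1 s hs => h1.2 s hs, fun h1 => ⟨val_mem w, h1⟩⟩
  have hS2 : IsPGroup 2 (im h S) := by
    refine IsPGroup.map ?_ _
    exact S2.comap_of_injective _ (subtype_injective H)
  rw [← ad_inj (hc := hc) Fc_le inf_le_left, ad_Fc hR hNN Fa hZV, e, ad_inf_U]
  ext w
  have hSM : im h S ≤ im h N := Subgroup.map_mono (fun g hg => SN hg)
  rw [Fa.fcl_fx gas hSM hS2 syl, mem_ad, mem_centralizer_iff]
  constructor
  · rintro h1 s ⟨hs, hsR⟩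
    obtain ⟨-, hsH, hsR'⟩ := (hR s).1 hsR
    exact (pr_smul_eq_iff' h).1 (h1 _ ⟨⟨s, hsH⟩, hs, rfl⟩ hsR')
  · rintro h1 _ ⟨s, hs, rfl⟩ hsR
    exact (pr_smul_eq_iff' h).2 (h1 s ⟨hs, (hR s).2 ⟨hNN (SN hs), s.2, hsR⟩⟩)

end fin

section zc

variable [Finite G] {S : Sylow 2 G} {B : Subgroup G}

/-- `im S` is Sylow in `im N` -/
theorem syl_bar (SN : (S : Subgroup G) ≤ N) (hNH : N ≤ H) :
    ¬ 2 ∣ (im h (S : Subgroup G)).relIndex (im h N) :=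
  syl_not_dvd (LocBar.syl_im h (syl_of_le SN) hNH)

/-- `C_V(S) = Z` -/
theorem mem_zc_iff (l : Lines S B V) (v : G) :
    v ∈ zc (S : Subgroup G) ↔ v ∈ V ∧ ∀ s ∈ (S : Subgroup G), s * v = v * s := by
  constructor
  · intro hv
    exact ⟨l.ZV hv, (ZN.ChoiceBase.mem_zc.1 hv).2.2⟩
  · rintro ⟨h1, h2⟩
    refine ZN.ChoiceBase.mem_zc.2 ⟨Alpha.V_le_S l h1, l.sq v h1, h2⟩

variable (hR : ∀ g, g ∈ R ↔ g ∈ N' ∧ ∃ hg : g ∈ H, pr h ⟨g, hg⟩ ∈ RR 𝒴) (hNN : N ≤ N') (hNH : N ≤ H)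
variable (Fa : Fam (MU hc) (im h N) 𝒴)
variable (gas : ∀ w : MU hc, ∃ a ∈ sm (MU hc) 𝒴, ∃ c : MU hc, (∀ r ∈ RR 𝒴, r • c = c) ∧ w = a + c)
include hR hNN hNH Fa gas

/-- **`Fc Z = C_V(S ∩ R)`** -/
theorem Fc_zc (l : Lines S B V) (SN : (S : Subgroup G) ≤ N) :
    Fc R V (zc (S : Subgroup G)) = V ⊓ centralizer (((S : Subgroup G) ⊓ R : Subgroup G) : Set G) :=
  Fc_eq hR hNN hNH Fa gas S.isPGroup' SN (syl_bar SN hNH) (mem_zc_iff l)

end zc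

/-! ### bad subgroups lie in conjugates of panels -/

section panel

variable [Finite G] {S : Sylow 2 G} {Z B D : Subgroup G}

/-- a bad `D ≥ Z` lies in a conjugate of a panel. -/
theorem exists_fl_over (l : Lines S B V) (hZ₁ : zc (S : Subgroup G) ≤ D) (hV₁ : D ≤ V)
    (hn : ¬ centralizer (D : Set G) ≤ normalizer (V : Set G)) :
    ∃ (F T : Subgroup G) (c : G), Alpha.Fl S V F T ∧ zc (S : Subgroup G) ≤ F ∧
      c ∈ centralizer (zc (S : Subgroup G) : Set G) ∧ c ∈ normalizer (B : Set G) ∧ cj c D ≤ F := by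
  obtain ⟨F, hF, hmax⟩ := Set.exists_max_image
    {F : Subgroup G | D ≤ F ∧ F ≤ V ∧ ¬ centralizer (F : Set G) ≤ normalizer (V : Set G)}
    (fun F => Nat.card F) (Set.toFinite _) ⟨D, le_rfl, hV₁, hn⟩
  have hJ : B ≤ centralizer (F : Set G) := l.JV.trans (centralizer_le hF.2.1)
  obtain ⟨T, hT, hJT⟩ := exists_syl (S.isPGroup'.to_le l.JS) hJ
  have hTB : T ≤ normalizer (B : Set G) := Subgroup.le_normalizer.trans (Base.norm_le_normB l hT.2.1 hJT)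
  have hTZ : T ≤ centralizer (zc (S : Subgroup G) : Set G) := hT.1.trans (centralizer_le (hZ₁.trans hF.1))
  obtain ⟨T₁, hT₁, hTT₁⟩ := exists_syl hT.2.1 (le_inf hTZ hTB)
  obtain ⟨c, hc, hcT⟩ := syl_conj hT₁ (syl_of_le (le_inf (Alpha.zc_cent (S := S)) l.S_le_NJ))
  have hcn : c ∈ normalizer (V : Set G) := l.NJ hc.2
  have hcV : cj c V = V := mem_normalizer_iff_cj.1 hcn
  have hciV : cj c⁻¹ V = V := mem_normalizer_iff_cj.1 (inv_mem hcn)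
  have hcZ : cj c (zc (S : Subgroup G)) = zc (S : Subgroup G) :=
    cj_eq_of_mem_normalizer (centralizer_le_normalizer _ hc.1)
  have hN : cj c (normalizer (V : Set G)) = normalizer (V : Set G) :=
    cj_eq_of_mem_normalizer (Subgroup.le_normalizer hcn)
  have hZ : zc (S : Subgroup G) ≤ cj c F := by
    have h1 := cj_mono c (hZ₁.trans hF.1)
    rwa [hcZ] at h1
  have hnz : ¬ centralizer (zc (S : Subgroup G) : Set G) ≤ normalizer (V : Set G) := fun h0 =>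
    hn ((centralizer_le hZ₁).trans h0)
  refine ⟨cj c F, cj c T, c, ⟨?_, ?_, ?_, ?_, ?_, ?_⟩, hZ, hc.1, hc.2, cj_mono c hF.1⟩
  · intro h0
    exact MinSimple.Basic.zc_ne_bot S.isPGroup' (Alpha.S_ne l hnz) (le_bot_iff.1 (hZ.trans h0.le))
  · have h1 := cj_mono c hF.2.1
    rwa [hcV] at h1
  · intro h0
    apply hF.2.2
    rw [← cj_centralizer, ← hN] at h0
    have h1 := cj_mono c⁻¹ h0
    rwa [cj_inv_cj, cj_inv_cj] at h1
  · intro E hFE hE hn'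
    have h1 : F ≤ cj c⁻¹ E := by
      have h2 := cj_mono c⁻¹ hFE
      rwa [cj_inv_cj] at h2
    have h2 : cj c⁻¹ E ≤ V := by
      have h3 := cj_mono c⁻¹ hE
      rwa [hciV] at h3
    have h3 : ¬ centralizer ((cj c⁻¹ E : Subgroup G) : Set G) ≤ normalizer (V : Set G) := by
      intro h0
      apply hn'
      have h4 := cj_mono c h0
      rwa [cj_centralizer, cj_cj_inv, hN] at h4
    have h4 := eq_of_le_of_card_ge h1 (hmax (cj c⁻¹ E) ⟨hF.1.trans h1, h2, h3⟩)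
    rw [h4, cj_cj_inv]
  · exact (cj_mono c hTT₁).trans hcT.le
  · have hC : centralizer ((cj c F : Subgroup G) : Set G) = cj c (centralizer (F : Set G)) :=
      (cj_centralizer _ _).symm
    rw [hC]
    refine ⟨cj_mono _ hT.1, isPGroup_cj _ hT.2.1, fun Q hQ hp hle => ?_⟩
    have h2 := hT.2.2 (cj c⁻¹ Q) (by
      rw [cj_le_iff, inv_inv]; exact hQ) (isPGroup_cj _ hp) (by
      have h3 := cj_mono c⁻¹ hle
      rwa [cj_inv_cj] at h3)
    rw [← h2, cj_cj_inv]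

/-- a bad `D ≥ Z` lies in a conjugate of a panel (seed `Z ≤ Ω₁(Z(S))`). -/
theorem exists_fl_overZ (l : LinesZ S Z B V) (hZ₁ : Z ≤ D) (hV₁ : D ≤ V)
    (hn : ¬ CF S D ≤ normalizer (V : Set G)) :
    ∃ (F T : Subgroup G) (c : G), ZP.Fl S V F T ∧ Z ≤ F ∧
      c ∈ centralizer (zc (S : Subgroup G) : Set G) ∧ c ∈ normalizer (B : Set G) ∧ cj c D ≤ F := by
  obtain ⟨F, hF, hmax⟩ := Set.exists_max_image
    {F : Subgroup G | D ≤ F ∧ F ≤ V ∧ ¬ CF S F ≤ normalizer (V : Set G)}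
    (fun F => Nat.card F) (Set.toFinite _) ⟨D, le_rfl, hV₁, hn⟩
  have hJ : B ≤ CF S F := le_inf (l.JV.trans (centralizer_le hF.2.1)) (l.JS.trans ZP.zc_cent)
  obtain ⟨T, hT, hJT⟩ := exists_syl (S.isPGroup'.to_le l.JS) hJ
  have hTB : T ≤ normalizer (B : Set G) := Subgroup.le_normalizer.trans (ZP.Base.norm_le_normB l hT.2.1 hJT)
  have hTZ : T ≤ centralizer (zc (S : Subgroup G) : Set G) := hT.1.trans inf_le_right
  obtain ⟨T₁, hT₁, hTT₁⟩ := exists_syl hT.2.1 (le_inf hTZ hTB)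
  obtain ⟨c, hc, hcT⟩ := syl_conj hT₁ (syl_of_le (le_inf ZP.zc_cent l.S_le_NJ))
  have hcn : c ∈ normalizer (V : Set G) := l.NJ hc.2
  have hcV : cj c V = V := mem_normalizer_iff_cj.1 hcn
  have hciV : cj c⁻¹ V = V := mem_normalizer_iff_cj.1 (inv_mem hcn)
  have hcZ : cj c Z = Z :=
    cj_eq_of_mem_normalizer (centralizer_le_normalizer _ (centralizer_le l.Zc hc.1))
  have hN : cj c (normalizer (V : Set G)) = normalizer (V : Set G) :=
    cj_eq_of_mem_normalizer (Subgroup.le_normalizer hcn)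
  have hCF : ∀ E : Subgroup G, CF S (cj c E) = cj c (CF S E) := by
    intro E
    rw [CF, CF, cj_inf, cj_centralizer, cj_eq_of_mem_normalizer (Subgroup.le_normalizer hc.1)]
  have hZ : Z ≤ cj c F := by
    have h1 := cj_mono c (hZ₁.trans hF.1)
    rwa [hcZ] at h1
  refine ⟨cj c F, cj c T, c, ⟨?_, ?_, ?_, ?_, ?_, ?_⟩, hZ, hc.1, hc.2, cj_mono c hF.1⟩
  · intro h0
    exact l.Zne (le_bot_iff.1 (hZ.trans h0.le))
  · have h1 := cj_mono c hF.2.1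
    rwa [hcV] at h1
  · intro h0
    apply hF.2.2
    rw [hCF, ← hN] at h0
    have h1 := cj_mono c⁻¹ h0
    rwa [cj_inv_cj, cj_inv_cj] at h1
  · intro E hFE hE hn'
    have h1 : F ≤ cj c⁻¹ E := by
      have h2 := cj_mono c⁻¹ hFE
      rwa [cj_inv_cj] at h2
    have h2 : cj c⁻¹ E ≤ V := by
      have h3 := cj_mono c⁻¹ hE
      rwa [hciV] at h3
    have h3 : ¬ CF S (cj c⁻¹ E) ≤ normalizer (V : Set G) := by
      intro h0
      apply hn'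
      have h4 := cj_mono c h0
      rwa [← hCF, cj_cj_inv, hN] at h4
    have h4 := eq_of_le_of_card_ge h1 (hmax (cj c⁻¹ E) ⟨hF.1.trans h1, h2, h3⟩)
    rw [h4, cj_cj_inv]
  · exact (cj_mono c hTT₁).trans hcT.le
  · rw [hCF]
    refine ⟨cj_mono _ hT.1, isPGroup_cj _ hT.2.1, fun Q hQ hp hle => ?_⟩
    have h2 := hT.2.2 (cj c⁻¹ Q) (by
      rw [cj_le_iff, inv_inv]; exact hQ) (isPGroup_cj _ hp) (by
      have h3 := cj_mono c⁻¹ hle
      rwa [cj_inv_cj] at h3)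
    rw [← h2, cj_cj_inv]

end panel

/-! ### the base point -/

section main

variable [Finite G] {S : Sylow 2 G} {Z B : Subgroup G}
variable (hR : ∀ g, g ∈ R ↔ g ∈ N' ∧ ∃ hg : g ∈ H, pr h ⟨g, hg⟩ ∈ RR 𝒴) (hNN : N ≤ N') (hNH : N ≤ H)
variable (hBN : normalizer (B : Set G) ≤ N)
variable (Fa : Fam (MU hc) (im h N) 𝒴)
variable (gas : ∀ w : MU hc, ∃ a ∈ sm (MU hc) 𝒴, ∃ c : MU hc, (∀ r ∈ RR 𝒴, r • c = c) ∧ w = a + c)
include hR hNN hNH hBN Fa gas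

/-- **the moving base point** -/
theorem mpt (l : Lines S B V)
    (fl : ∀ F T X : Subgroup G, Alpha.Fl S V F T → zc (S : Subgroup G) ≤ F → Par V F T X →
      ∃ Y ∈ 𝒴, ∃ Q ≤ Y, fx (MU hc) Q = ad hc F) : MPt S B V (Fc R V) where
  le := fun D _ hD => le_Fc hD
  leV := fun _ _ _ => Fc_le
  mono := fun _ _ _ hD _ => Fc_mono hD
  eqv := fun _ _ _ _ _ hm => eqv hR hNN hNH Fa (hBN hm)
  prop := by
    intro D hZ hD hn h0
    obtain ⟨F, T, c, f, hZF, -, hcB, hcF⟩ := exists_fl_over l hZ hD hn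
    obtain ⟨X, p⟩ := f.exists_par
    obtain ⟨Y, hY, Q, hQ, e⟩ := fl F T X f hZF p
    have h1 := Fc_flat hR hNN Fa hY hQ f.le e
    have h2 : Fc R V (cj c D) ≤ Fc R V F := Fc_mono hcF
    rw [eqv hR hNN hNH Fa (hBN hcB), h0, h1, mem_normalizer_iff_cj.1 (l.NJ hcB)] at h2
    exact f.ne_V (le_antisymm f.le h2)
  nfl := by
    intro D _ hD _ A hA hAD hVD hne
    exact nfl hR hNN hNH Fa gas l.nff l.sq hD ((hA.trans l.S_le_NJ).trans hBN) hAD hVD hne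

/-- **the moving base point**, seed `Z` -/
theorem mptZ (l : LinesZ S Z B V)
    (fl : ∀ F T X : Subgroup G, ZP.Fl S V F T → Z ≤ F → ZP.Par S V F T X →
      ∃ Y ∈ 𝒴, ∃ Q ≤ Y, fx (MU hc) Q = ad hc F) : MPtZ S Z B V (Fc R V) where
  le := fun D _ hD => le_Fc hD
  leV := fun _ _ _ => Fc_le
  mono := fun _ _ _ hD _ => Fc_mono hD
  eqv := fun _ _ _ _ _ hm => eqv hR hNN hNH Fa (hBN hm)
  prop := by
    intro D hZ hD hn h0
    obtain ⟨F, T, c, f, hZF, -, hcB, hcF⟩ := exists_fl_overZ l hZ hD hn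
    obtain ⟨X, p⟩ := f.exists_par
    obtain ⟨Y, hY, Q, hQ, e⟩ := fl F T X f hZF p
    have h1 := Fc_flat hR hNN Fa hY hQ f.le e
    have h2 : Fc R V (cj c D) ≤ Fc R V F := Fc_mono hcF
    rw [eqv hR hNN hNH Fa (hBN hcB), h0, h1, mem_normalizer_iff_cj.1 (l.NJ hcB)] at h2
    exact f.ne_V (le_antisymm f.le h2)
  nfl := by
    intro D _ hD _ A hA hAD hVD hne
    exact nfl hR hNN hNH Fa gas l.nff l.sq hD ((hA.trans l.S_le_NJ).trans hBN) hAD hVD hne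

end main

end Cfsg.Agent.Omega.NO3b.BasePt.Fld
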