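import Cfsg.Agent.Omega.NO3b.BasePt.NodeFam

/-!
# NotFFG (NO-3L), the base point, (E2): the node-1 lemma (bb 22687, 23192)

`F : FamS W M 𝒴 S`. **`node_one`** : `S ≤ P ≤ M`, `P` is not generated by two proper subgroups over `S`, `P` does not
centralise `C_W(S)`. Then `P` normalises `V₍₂₎ = {v | [v, S ∩ RR] ≤ Z₁}`, `Z₁ = C_W(S ∩ RR)`.

Proof: `P` normalises `S ∩ RR` or `P = (P ∩ RR) S`. If `P` normalises `Z₁` too, `C_{P ∩ RR}(Z₁)` is normal in `P`, so `P`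
normalises `S ∩ RR` or `P = C_{P ∩ RR}(Z₁) S` centralises `C_W(S)`. Otherwise `N` = the group generated by all the full
transvection groups `AT W Y T ≤ P` is normal in `P`, `P = N S` (if `P` normalises `S ∩ N`, it permutes the points of
`S`), and `N ≤ ⟨N_P(Z₁), N_P(V₍₂₎)⟩` by `AT_le_of`.
-/

set_option autoImplicit false
set_option linter.unusedSectionVars false

namespace Cfsg.Agent.Omega.NO3b.BasePt

open Subgroup
open Cfsg.Agent.Omega.NO3b.Exit Cfsg.Agent.Omega.NO3b.Exit.Ten Cfsg.Agent.Omega.NO3b.Exit.Descent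
open Cfsg.Agent.Omega.FF.Basic (fx mem_fx cj mem_cj mem_cj_of)
open Cfsg.Agent.Omega.NO3b.BasePt.Node

universe u v w

variable {Γ : Type u} [Group Γ] {W : Type v} [AddCommGroup W] [DistribMulAction Γ W]
variable {M S P : Subgroup Γ} {𝒴 : Set (Subgroup Γ)}

/-- the elements of `P` which map `X` into itself -/
def stb [Finite Γ] (P : Subgroup Γ) (X : AddSubgroup W) : Subgroup Γ where
  carrier := {p | p ∈ P ∧ ∀ v ∈ X, p • v ∈ X}
  one_mem' := ⟨one_mem _, fun v hv => by rwa [one_smul]⟩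
  mul_mem' := fun {a b} ha hb => ⟨mul_mem ha.1 hb.1, fun v hv => by rw [mul_smul]; exact ha.2 _ (hb.2 v hv)⟩
  inv_mem' := fun {a} ha => ⟨inv_mem ha.1, fun v hv => by
    have h1 : ∀ j : ℕ, ∀ v ∈ X, a ^ j • v ∈ X := by
      intro j
      induction j with
      | zero => intro v hv; rwa [pow_zero, one_smul]
      | succ j ih => intro v hv; rw [pow_succ', mul_smul]; exact ha.2 _ (ih v hv)
    obtain ⟨k, hk⟩ := mem_powers_iff_mem_zpowers.2 (inv_mem (mem_zpowers a))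
    have hk' : a ^ k = a⁻¹ := hk
    rw [← hk']
    exact h1 k v hv⟩

theorem mem_stb [Finite Γ] {X : AddSubgroup W} {p : Γ} : p ∈ stb P X ↔ p ∈ P ∧ ∀ v ∈ X, p • v ∈ X := Iff.rfl

namespace FamS

variable (F : FamS W M 𝒴 S)
include F

theorem smul_Z1 {p : Γ} (hp : cj p (S ⊓ RR 𝒴) = S ⊓ RR 𝒴) {v : W} (hv : v ∈ Z1 W S 𝒴) : p • v ∈ Z1 W S 𝒴 := by
  have h1 := FF.Basic.smul_mem_fx_cj (g := p) hv
  rwa [hp] at h1

theorem smul_V2 {p : Γ} (hp : cj p (S ⊓ RR 𝒴) = S ⊓ RR 𝒴) {v : W} (hv : v ∈ V2 W S 𝒴) : p • v ∈ V2 W S 𝒴 := by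
  intro d hd
  rw [← hp, mem_cj] at hd
  have h1 := F.smul_Z1 hp (hv _ hd)
  rwa [smul_sub, mul_smul, mul_smul, smul_inv_smul] at h1

theorem cj_S {s : Γ} (hs : s ∈ S) : cj s (S ⊓ RR 𝒴) = S ⊓ RR 𝒴 := by
  ext x
  have h1 : cj s (RR 𝒴) = RR 𝒴 := F.fam.cj_RR (F.SM hs)
  constructor
  · intro h
    have h2 := mem_cj.1 h
    refine ⟨?_, ?_⟩
    · have h3 := S.mul_mem (S.mul_mem hs h2.1) (S.inv_mem hs)
      have e : s * (s⁻¹ * x * s) * s⁻¹ = x := by group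
      rwa [e] at h3
    · rw [← h1]
      exact mem_cj.2 h2.2
  · intro h
    refine mem_cj.2 ⟨S.mul_mem (S.mul_mem (S.inv_mem hs) h.1) hs, ?_⟩
    have h2 := h.2
    rw [← h1] at h2
    exact mem_cj.1 h2

/-- **(E2).** -/
theorem node_one [Finite Γ] [Finite W] (SP : S ≤ P) (PM : P ≤ M)
    (hP : ∀ Q₁ Q₂ : Subgroup Γ, S ≤ Q₁ → S ≤ Q₂ → Q₁ ⊔ Q₂ = P → Q₁ = P ∨ Q₂ = P)
    (hZ : ¬ ∀ p ∈ P, ∀ w : W, (∀ s ∈ S, s • w = w) → p • w = w) : ∀ p ∈ P, ∀ v ∈ V2 W S 𝒴, p • v ∈ V2 W S 𝒴 := by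
  have hodd : ¬ 2 ∣ S.relIndex P := fun h => F.odd (by
    rw [← relIndex_mul_relIndex S P M SP PM]
    exact h.mul_right _)
  have hSZ : ∀ w : W, (∀ s ∈ S, s • w = w) → w ∈ Z1 W S 𝒴 := fun w hw d hd => hw d hd.1
  by_cases hD : ∀ p ∈ P, cj p (S ⊓ RR 𝒴) = S ⊓ RR 𝒴
  · exact fun p hp v hv => F.smul_V2 (hD p hp) hv
  by_cases hZ1 : ∀ p ∈ P, ∀ v ∈ Z1 W S 𝒴, p • v ∈ Z1 W S 𝒴
  · -- `P` normalises `Z₁`
    exfalso
    let C : Subgroup Γ :=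
      { carrier := {g | g ∈ P ⊓ RR 𝒴 ∧ ∀ v ∈ Z1 W S 𝒴, g • v = v}
        one_mem' := ⟨one_mem _, fun v _ => one_smul _ v⟩
        mul_mem' := fun {a b} ha hb => ⟨mul_mem ha.1 hb.1, fun v hv => by rw [mul_smul, hb.2 v hv, ha.2 v hv]⟩
        inv_mem' := fun {a} ha => ⟨inv_mem ha.1, fun v hv => by rw [inv_smul_eq_iff, ha.2 v hv]⟩ }
    have hCP : C ≤ P := fun g hg => hg.1.1
    have hn : ∀ p ∈ P, cj p C = C := by
      intro p hp
      refine FF.Basic.cj_eq_of_le (FF.Basic.cj_le_iff.2 fun g hg => ?_)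
      refine ⟨⟨P.mul_mem (P.mul_mem hp hg.1.1) (P.inv_mem hp), ?_⟩, fun v hv => ?_⟩
      · have h1 := mem_cj_of (g := p) hg.1.2
        rwa [F.fam.cj_RR (PM hp)] at h1
      · rw [mul_smul, mul_smul, hg.2 _ (hZ1 p⁻¹ (inv_mem hp) v hv), smul_inv_smul]
    have hSC : S ⊓ C = S ⊓ RR 𝒴 := by
      ext x
      exact ⟨fun h => ⟨h.1, h.2.1.2⟩, fun h => ⟨h.1, ⟨SP h.1, h.2⟩, fun v hv => hv x h⟩⟩
    rcases sup_or hCP hn SP F.S2 hodd hP with h | h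
    · refine hZ fun p hp w hw => ?_
      rw [← h] at hp
      have h1 : C ⊔ S ≤ MulAction.stabilizer Γ w := sup_le (fun g hg => hg.2 w (hSZ w hw)) fun s hs => hw s hs
      exact h1 hp
    · rw [hSC] at h
      exact hD h
  -- `P` does not normalise `Z₁`
  by_contra hV
  let J : Subgroup Γ := stb P (Z1 W S 𝒴) ⊔ stb P (V2 W S 𝒴)
  have hS1 : S ≤ stb P (Z1 W S 𝒴) := fun s hs => ⟨SP hs, fun v hv => F.smul_Z1 (F.cj_S hs) hv⟩
  have hS2 : S ≤ stb P (V2 W S 𝒴) := fun s hs => ⟨SP hs, fun v hv => F.smul_V2 (F.cj_S hs) hv⟩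
  have hJ : ¬ P ≤ J := by
    intro hJ
    rcases hP _ _ hS1 hS2 (le_antisymm (sup_le (fun p hp => hp.1) fun p hp => hp.1) hJ) with h | h
    · exact hZ1 fun p hp => (h.ge hp).2
    · exact hV fun p hp => (h.ge hp).2
  let N : Subgroup Γ := closure {x | ∃ Y ∈ 𝒴, ∃ T, Syl Y T ∧ AT W Y T ≤ P ∧ x ∈ AT W Y T}
  have hNP : N ≤ P := (closure_le _).2 (by
    rintro x ⟨Y, -, T, -, h1, h2⟩
    exact h1 h2)
  have hSylcj : ∀ {Y T : Subgroup Γ} (g : Γ), Syl Y T → Syl (cj g Y) (cj g T) := by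
    intro Y T g h
    refine ⟨FF.Basic.cj_mono g h.le, FF.Basic.isPGroup_cj g h.two, ?_⟩
    rw [cj_eq_map, cj_eq_map, relIndex_map_map_of_injective _ _ (MulAut.conj g).injective]
    exact h.odd
  have hn : ∀ p ∈ P, cj p N = N := by
    intro p hp
    refine FF.Basic.cj_eq_of_le ?_
    have h1 : N ≤ cj p⁻¹ N := (closure_le _).2 (by
      rintro x ⟨Y, hY, T, hT, h1, h2⟩
      refine mem_cj.2 (subset_closure ⟨cj p Y, F.fam.mem_cj hY (PM hp), cj p T, hSylcj p hT, ?_, ?_⟩)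
      · rw [AT_cj]
        have h3 := FF.Basic.cj_mono p h1
        rwa [FF.Basic.cj_eq_self_of_mem hp] at h3
      · rw [AT_cj, mem_cj]
        have e : p⁻¹ * (p⁻¹⁻¹ * x * p⁻¹) * p = x := by group
        rwa [e])
    have h2 := FF.Basic.cj_mono p h1
    rwa [FF.Basic.cj_cj_inv] at h2
  have hNJ : N ≤ J := (closure_le _).2 (by
    rintro x ⟨Y, hY, T, hT, h1, h2⟩
    refine (F.one hY).AT_le_of (P := P) (J := J) (F.syl hY) hT (inf_le_left.trans SP)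
      ((inf_le_left.trans hS1).trans le_sup_left) h1 (fun y hy hyP h => ?_) (fun y hy hyP h => ?_) h2
    · have h3 : y ∈ stb P (Z1 W S 𝒴) := ⟨hyP, fun v hv => by
        rw [F.fix_Z1 hY hy h (F.mem_Z1_iff.1 hv Y hY)]
        exact hv⟩
      exact mem_sup_left h3
    · have h3 : y ∈ stb P (V2 W S 𝒴) := ⟨hyP, fun v hv => by
        have e : y • v = (y • v - v) + v := by abel
        rw [e]
        exact add_mem (F.V2_of hY hy h v) hv⟩
      exact mem_sup_right h3)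
  rcases sup_or hNP hn SP F.S2 hodd hP with h | h
  · refine hJ ?_
    rw [← h]
    exact sup_le hNJ (hS1.trans le_sup_left)
  · apply hZ1
    intro p hp w hw
    refine F.mem_Z1_iff.2 fun Y' hY' s hs => ?_
    set Y := cj p⁻¹ Y' with hYdef
    have hY : Y ∈ 𝒴 := F.fam.mem_cj hY' (PM (inv_mem hp))
    have hYY' : cj p Y = Y' := FF.Basic.cj_cj_inv p Y'
    have hg : p⁻¹ * s * p ∈ Y := by
      have h1 : s ∈ cj p Y := by rw [hYY']; exact hs.2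
      exact mem_cj.1 h1
    -- the point of `S ∩ Y`
    have h1 : AT W Y (S ⊓ Y) ≤ S ⊓ N := by
      have h2 : AT W Y (S ⊓ Y) ≤ S := ((F.one hY).AT_le (F.syl hY)).trans inf_le_left
      exact fun x hx => ⟨h2 hx, subset_closure ⟨Y, hY, S ⊓ Y, F.syl hY, h2.trans SP, hx⟩⟩
    have h2 : AT W Y' (cj p (S ⊓ Y)) ≤ S ⊓ Y' := by
      refine le_inf ?_ AT_Y
      rw [← hYY', AT_cj]
      have h3 := FF.Basic.cj_mono p h1
      rw [h p hp] at h3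
      exact h3.trans inf_le_left
    have h3 : Syl Y' (cj p (S ⊓ Y)) := by
      have h4 := hSylcj p (F.syl hY)
      rwa [hYY'] at h4
    have h4 := (F.one hY').lT_le (F.syl hY') h3 h2
    have h5 : (p⁻¹ * s * p) • w = w := by
      refine F.fix_Z1 hY hg (fun v hv => ?_) (F.mem_Z1_iff.1 hw Y hY)
      have h6 : p • v ∈ lT W Y' (cj p (S ⊓ Y)) := by
        rw [← hYY', mem_lT_cj, inv_smul_smul]
        exact hv
      have h7 := (h4 h6).2 s hs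
      rw [mul_smul, mul_smul, h7, inv_smul_smul]
    rw [mul_smul, mul_smul, inv_smul_eq_iff] at h5
    exact h5

end FamS

/-- **(E2)**, the announced form. -/
theorem node_one [Finite Γ] [Finite W] (F : Fam W M 𝒴) (hsp : (⨆ Y ∈ 𝒴, cm W Y) ⊔ fx W (RR 𝒴) = ⊤)
    (hS2 : IsPGroup 2 S) (syl : ¬ 2 ∣ S.relIndex M) (SP : S ≤ P) (PM : P ≤ M)
    (hP : ∀ Q₁ Q₂ : Subgroup Γ, S ≤ Q₁ → S ≤ Q₂ → Q₁ ⊔ Q₂ = P → Q₁ = P ∨ Q₂ = P)
    (hZ : ¬ ∀ p ∈ P, ∀ w : W, (∀ s ∈ S, s • w = w) → p • w = w) : ∀ p ∈ P, ∀ v ∈ V2 W S 𝒴, p • v ∈ V2 W S 𝒴 :=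
  FamS.node_one ⟨F, hsp, hS2, SP.trans PM, syl⟩ SP PM hP hZ

end Cfsg.Agent.Omega.NO3b.BasePt
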