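import Cfsg.Agent.Omega.NO3b.BasePt.PThree
import Cfsg.Agent.Omega.NO3b.Exit.MU
import Cfsg.Agent.Omega.NOThreeL.EndFive
import Cfsg.Agent.Omega.NO3b.Closed.Pow

/-!
# The base point: from the module `MU V` to the group

`V` abelian, `h : H ≤ N_G(V)`, `Γ = XX h` the group induced by `H` on `V`, `W = MU hc = V`, `Y ≤ Γ`.

* `preR h Y = {g ∈ H : pr h g ∈ Y}`; `mem_preR`, `im_inf_preR : im h (A ⊓ preR h Y) = im h A ⊓ Y`;
* `mem_fx_pre` : `w ∈ fx W (im h A ⊓ Y) ↔ val w ∈ C(A ⊓ preR h Y)`;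
* `odd_im` : `¬ 2 ∣ (im h A).relIndex (im h X)` if `¬ 2 ∣ A.relIndex X`;
* `minPar_im` : `im h P` is not generated by two proper subgroups over `im h S` (`IsMinPar S P`);
* `norm_preR` : `m ∈ N_G(preR h Y)` if `m ∈ H` and `pr h m` normalises `Y`;
* `s1_of_fam` : `C_S(Z₁) ≤ R` from `PThree.two_mem`.
-/

set_option autoImplicit false
set_option linter.unusedSectionVars false

namespace Cfsg.Agent.Omega.NO3b.BasePt

open Subgroup Cfsg
open Cfsg.Agent.ZN (o2 zc zl)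
open Cfsg.Agent.Omega.NO3b.Exit.Bridge
open Cfsg.Agent.Omega.FFBr (XX pr im mem_im card_im coe_pr_smul pr_eq_one pr_surjective)
open Cfsg.Agent.Omega.FF.Basic (fx)
open Cfsg.Agent.Omega.NO3b.ClosedPow (NN mem_NN cm)
open Cfsg.Agent.Omega.NOThreeL.EndFive (Zo)
open Cfsg.Agent.MinSimple.MinParabolic (IsMinPar)
open scoped Pointwise

universe u

variable {G : Type u} [Group G]

section pre

variable {V H : Subgroup G} (h : H ≤ normalizer (V : Set G))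

/-- `{g ∈ H : pr h g ∈ Y}` -/
def preR (Y : Subgroup (XX h)) : Subgroup G := (Y.comap (pr h)).map H.subtype

variable {h} {Y : Subgroup (XX h)}

theorem mem_preR {g : G} : g ∈ preR h Y ↔ ∃ hg : g ∈ H, pr h ⟨g, hg⟩ ∈ Y := by
  constructor
  · rintro ⟨x, hx, rfl⟩
    exact ⟨x.2, hx⟩
  · rintro ⟨hg, hx⟩
    exact ⟨⟨g, hg⟩, hx, rfl⟩

theorem preR_le : preR h Y ≤ H := fun _ hg => (mem_preR.1 hg).1

theorem preR_mono {Y' : Subgroup (XX h)} (hY : Y ≤ Y') : preR h Y ≤ preR h Y' := fun _ hg => by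
  obtain ⟨h1, h2⟩ := mem_preR.1 hg
  exact mem_preR.2 ⟨h1, hY h2⟩

theorem mem_preR' {g : H} : (g : G) ∈ preR h Y ↔ pr h g ∈ Y :=
  mem_preR.trans ⟨fun ⟨_, h1⟩ => h1, fun h1 => ⟨g.2, h1⟩⟩

theorem cent_le_preR (hH : centralizer (V : Set G) ≤ H) : centralizer (V : Set G) ≤ preR h Y := fun c hc =>
  mem_preR.2 ⟨hH hc, by rw [(pr_eq_one h).2 hc]; exact one_mem _⟩

theorem inf_cent_le_preR : H ⊓ centralizer (V : Set G) ≤ preR h Y := fun c hc =>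
  mem_preR.2 ⟨hc.1, by rw [(pr_eq_one h).2 hc.2]; exact one_mem _⟩

theorem im_preR : im h (preR h Y) = Y := by
  ext x
  rw [mem_im]
  constructor
  · rintro ⟨g, hg, rfl⟩
    exact mem_preR'.1 hg
  · intro hx
    obtain ⟨g, rfl⟩ := pr_surjective h x
    exact ⟨g, mem_preR'.2 hx, rfl⟩

theorem im_inf_preR {A : Subgroup G} : im h (A ⊓ preR h Y) = im h A ⊓ Y := by
  ext x
  rw [mem_im, mem_inf, mem_im]
  constructor
  · rintro ⟨g, hg, rfl⟩
    exact ⟨⟨g, hg.1, rfl⟩, mem_preR'.1 hg.2⟩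
  · rintro ⟨⟨g, hg, rfl⟩, hx⟩
    exact ⟨g, ⟨hg, mem_preR'.2 hx⟩, rfl⟩

theorem mem_im_of {A : Subgroup G} {g : G} (hg : g ∈ H) (hA : g ∈ A) : pr h ⟨g, hg⟩ ∈ im h A :=
  mem_im.2 ⟨⟨g, hg⟩, hA, rfl⟩

theorem im_mono {A A' : Subgroup G} (hA : A ≤ A') : im h A ≤ im h A' := by
  intro x hx
  obtain ⟨g, hg, rfl⟩ := mem_im.1 hx
  exact mem_im.2 ⟨g, hA hg, rfl⟩

theorem isPGroup_im {A : Subgroup G} (hA : IsPGroup 2 A) : IsPGroup 2 (im h A) :=
  (hA.comap_of_injective _ (subtype_injective H)).map _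

theorem mem_fx_pre {hc : V ≤ centralizer (V : Set G)} {A : Subgroup G} {w : MU hc} :
    w ∈ fx (MU hc) (im h A ⊓ Y) ↔ val w ∈ centralizer ((A ⊓ preR h Y : Subgroup G) : Set G) := by
  rw [← im_inf_preR, mem_fx_im h (inf_le_right.trans preR_le)]

/-- `m` normalises `preR h Y` -/
theorem norm_preR {m : G} (hm : m ∈ H) (h1 : ∀ y ∈ Y, pr h ⟨m, hm⟩ * y * (pr h ⟨m, hm⟩)⁻¹ ∈ Y)
    (h2 : ∀ y ∈ Y, (pr h ⟨m, hm⟩)⁻¹ * y * pr h ⟨m, hm⟩ ∈ Y) : m ∈ normalizer (preR h Y : Set G) := by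
  rw [mem_normalizer_iff]
  intro g
  constructor
  · intro hg
    obtain ⟨hgH, hg⟩ := mem_preR.1 hg
    have h3 := h1 _ hg
    rw [← map_mul, ← map_inv, ← map_mul] at h3
    exact mem_preR.2 ⟨H.mul_mem (H.mul_mem hm hgH) (H.inv_mem hm), h3⟩
  · intro hg
    obtain ⟨hgH, hg⟩ := mem_preR.1 hg
    have h3 := h2 _ hg
    rw [← map_inv, ← map_mul, ← map_mul] at h3
    have hgH' : g ∈ H := by
      have h4 := H.mul_mem (H.mul_mem (H.inv_mem hm) hgH) hm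
      have e : m⁻¹ * (m * g * m⁻¹) * m = g := by group
      rwa [e] at h4
    refine mem_preR.2 ⟨hgH', ?_⟩
    have e : (⟨m, hm⟩ : H)⁻¹ * ⟨m * g * m⁻¹, hgH⟩ * ⟨m, hm⟩ = ⟨g, hgH'⟩ := Subtype.ext (by
      show m⁻¹ * (m * g * m⁻¹) * m = g
      group)
    rwa [e] at h3

variable [Finite G]

/-- odd index goes to the image -/
theorem odd_im {A X : Subgroup G} (hA : A ≤ X) (hX : X ≤ H) (ho : ¬ 2 ∣ A.relIndex X) :
    ¬ 2 ∣ (im h A).relIndex (im h X) := by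
  intro h1
  apply ho
  have h2 : (A.subgroupOf H).relIndex (X.subgroupOf H) = A.relIndex X := relIndex_subgroupOf hX
  rw [← h2]
  refine h1.trans ?_
  have h3 := index_map_dvd (H := (A.subgroupOf H).subgroupOf (X.subgroupOf H))
    ((pr h).subgroupMap_surjective (X.subgroupOf H))
  have h4 : ((A.subgroupOf H).subgroupOf (X.subgroupOf H)).map ((pr h).subgroupMap (X.subgroupOf H)) =
      ((A.subgroupOf H).map (pr h)).subgroupOf ((X.subgroupOf H).map (pr h)) := by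
    ext y
    rw [mem_subgroupOf]
    constructor
    · rintro ⟨x, hx, rfl⟩
      exact ⟨(x : H), hx, rfl⟩
    · rintro ⟨a, ha, hay⟩
      exact ⟨⟨a, hA ha⟩, ha, Subtype.ext hay⟩
  rw [h4] at h3
  exact h3

/-- `im h P` is not generated by two proper subgroups over `im h S` -/
theorem minPar_im {S P : Subgroup G} (hP : IsMinPar S P) (hPH : P ≤ H) (Q₁ Q₂ : Subgroup (XX h))
    (h1 : im h S ≤ Q₁) (h2 : im h S ≤ Q₂) (h12 : Q₁ ⊔ Q₂ = im h P) : Q₁ = im h P ∨ Q₂ = im h P := by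
  obtain ⟨K, hK, hmax⟩ := hP.exists_max
  by_contra hcon
  push Not at hcon
  have key : ∀ Q : Subgroup (XX h), im h S ≤ Q → Q ≤ im h P → Q ≠ im h P → P ⊓ preR h Q ≤ K := by
    intro Q hS hQ hne
    refine hmax _ (le_inf hP.le fun s hs => mem_preR.2 ⟨hPH (hP.le hs), hS (mem_im_of _ hs)⟩) ?_
    refine lt_of_le_of_ne inf_le_left fun e => hne ?_
    have h3 := congrArg (im h) e
    rw [im_inf_preR] at h3
    rw [← h3, inf_eq_right.2 hQ]
  have k1 := key Q₁ h1 (h12 ▸ le_sup_left) hcon.1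
  have k2 := key Q₂ h2 (h12 ▸ le_sup_right) hcon.2
  have h3 : im h P ≤ im h K := by
    rw [← h12]
    refine sup_le ?_ ?_
    · have h4 := im_mono (h := h) k1
      rwa [im_inf_preR, inf_eq_right.2 (h12 ▸ le_sup_left)] at h4
    · have h4 := im_mono (h := h) k2
      rwa [im_inf_preR, inf_eq_right.2 (h12 ▸ le_sup_right)] at h4
  apply hK.not_ge
  intro p hp
  obtain ⟨k, hk, hkp⟩ := mem_im.1 (h3 (mem_im_of (hPH hp) hp))
  have h5 : p * (k : G)⁻¹ ∈ H ⊓ centralizer (V : Set G) := by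
    refine ⟨H.mul_mem (hPH hp) (H.inv_mem k.2), ?_⟩
    have h6 : pr h (⟨p, hPH hp⟩ * k⁻¹) = 1 := by rw [map_mul, map_inv, hkp, mul_inv_cancel]
    exact (pr_eq_one h).1 h6
  have h7 : p * (k : G)⁻¹ ∈ K := k1 ⟨P.mul_mem hp (P.inv_mem (hK.le hk)), inf_cent_le_preR h5⟩
  have h8 := K.mul_mem h7 hk
  rwa [inv_mul_cancel_right] at h8

end pre

section base

variable {V H S : Subgroup G} {h : H ≤ normalizer (V : Set G)} {hc : V ≤ centralizer (V : Set G)}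
  {Y : Subgroup (XX h)}

/-- `Z₁ = C_V(S ∩ R)`, in the module -/
theorem mem_Zo_pre {v : G} : v ∈ Zo S (preR h Y) V ↔ ∃ hv : v ∈ V, mk hc hv ∈ fx (MU hc) (im h S ⊓ Y) := by
  constructor
  · rintro ⟨hv, h1⟩
    exact ⟨hv, mem_fx_pre.2 h1⟩
  · rintro ⟨hv, h1⟩
    exact ⟨hv, mem_fx_pre.1 h1⟩

theorem val_mem_Zo {w : MU hc} : val w ∈ Zo S (preR h Y) V ↔ w ∈ fx (MU hc) (im h S ⊓ Y) :=
  mem_Zo_pre.trans ⟨fun ⟨_, h1⟩ => h1, fun h1 => ⟨val_mem w, h1⟩⟩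

/-- `V₂ = {v ∈ V : [v, S ∩ R] ≤ Z₁}`, in the module -/
theorem val_mem_V2 (hSV : S ≤ normalizer (V : Set G)) {w : MU hc} :
    val w ∈ NN V (S ⊓ preR h Y) (centralizer ((S ⊓ preR h Y : Subgroup G) : Set G)) ↔
      ∀ d ∈ im h S ⊓ Y, d • w - w ∈ fx (MU hc) (im h S ⊓ Y) := by
  rw [mem_NN hc (inf_le_left.trans hSV)]
  constructor
  · rintro ⟨-, h1⟩ d hd
    rw [← im_inf_preR] at hd
    obtain ⟨g, hg, rfl⟩ := mem_im.1 hd
    rw [mem_fx_pre, val_sub, val_smul]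
    exact h1 g hg
  · intro h1
    refine ⟨val_mem w, fun b hb => ?_⟩
    have hbH := preR_le hb.2
    have h2 := h1 (pr h ⟨b, hbH⟩) (by rw [← im_inf_preR]; exact mem_im_of hbH hb)
    rw [mem_fx_pre, val_sub, val_smul] at h2
    exact h2

theorem not_cent_im {P Z : Subgroup G} (hPH : P ≤ H) (hZV : Z ≤ V) (hZS : Z ≤ centralizer (S : Set G))
    (hP : ¬ P ≤ centralizer (Z : Set G)) :
    ¬ ∀ p ∈ im h P, ∀ w : MU hc, (∀ s ∈ im h S, s • w = w) → p • w = w := by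
  intro h1
  apply hP
  intro p hp
  refine mem_centralizer_iff.2 fun z hz => ?_
  have h2 := h1 _ (mem_im_of (hPH hp) hp) (mk hc (hZV hz)) fun s hs => by
    obtain ⟨g, hg, rfl⟩ := mem_im.1 hs
    exact (pr_smul_eq_iff' h).2 (mem_centralizer_iff.1 (hZS hz) g hg)
  exact ((pr_smul_eq_iff' h).1 h2).symm

/-- from the module to the group: a set of `W` stable under `im h P` -/
theorem le_norm_of_mod {P K : Subgroup G} (hPH : P ≤ H) (hKV : K ≤ V)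
    (h1 : ∀ p ∈ im h P, ∀ w : MU hc, val w ∈ K → val (p • w) ∈ K) : P ≤ normalizer (K : Set G) := by
  refine ClosedPow.le_norm_of fun p hp k hk => ?_
  have h2 := h1 _ (mem_im_of (hPH hp) hp) (mk hc (hKV hk)) hk
  rwa [val_smul] at h2

variable [Finite G]

variable (hc) in
/-- **`C_S(Z₁) ≤ R`** -/
theorem s1_of_fam {M : Subgroup (XX h)} {𝒴 : Set (Subgroup (XX h))} (f : Fam (MU hc) M 𝒴) (d : PThree.Dec (MU hc) 𝒴)
    (hS : IsPGroup 2 S) (hSH : S ≤ H) (SM : im h S ≤ M) (syl : ¬ 2 ∣ (im h S).relIndex M) :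
    S ⊓ centralizer (Zo S (preR h (RR 𝒴)) V : Set G) ≤ preR h (RR 𝒴) := by
  rintro s ⟨hs, hsZ⟩
  have h1 := (PThree.inf_RR f d SM (isPGroup_im hS) syl (s := pr h ⟨s, hSH hs⟩)).2
    ⟨mem_im_of _ hs, fun v hv => (pr_smul_eq_iff' h).2 (mem_centralizer_iff.1 hsZ _ (val_mem_Zo.2 hv)).symm⟩
  exact mem_preR.2 ⟨hSH hs, h1.2⟩

/-- `N_G(B) ≤ N_G(R)` if `im h N_G(B)` normalises `RR` -/
theorem norm_preR_of_fam {N : Subgroup G} (hN : N ≤ H) {𝒴 : Set (Subgroup (XX h))}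
    (f : Fam (MU hc) (im h N) 𝒴) : N ≤ normalizer (preR h (RR 𝒴) : Set G) := fun n hn =>
  norm_preR (hN hn) (fun y hy => PThree.RR_conj f (mem_im_of _ hn) hy) fun y hy => by
    have h1 := PThree.RR_conj f ((im h N).inv_mem (mem_im_of (hN hn) hn)) hy
    rwa [inv_inv] at h1

end base

end Cfsg.Agent.Omega.NO3b.BasePt
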