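import Cfsg.Agent.Omega.NO3b.Exit.DescBlk
import Cfsg.Agent.Omega.FF.Basic

/-!
# The second term of one block `A ⊗ E` (#22497 (d), (e))

`Y` irreducible on `A`, `K = End_Y(A)`, `Y` induces all transvections of `A`, `T` Sylow in `Y`, `dim A ≥ 2`.

* `exists_two` : `n, a ∈ A`, `C_A(T) = K n`, `{b : [b, T] ≤ K n} = K n + K a`;
* `blk_elt` : `{w ∈ A ⊗ E : [w, T] ≤ C(T)} = n ⊗ E + a ⊗ E`;
* `blk_free` : `t ∈ T` moves a vector of it: then `t` fixes in it only the vectors which are fixed by `T`;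
* `blk_card` : `|T : C_T(a)|² ≤ |E|` if `dim E ≥ 2`.
-/

set_option autoImplicit false

namespace Cfsg.Agent.Omega.NO3b.BasePt.VTwo

open Subgroup Cfsg.Agent.Omega.NO3b.Exit.Ten
open Cfsg.Agent.Omega.NO3b.Exit.Descent (AllTv img mem_img fix_line exists_coord exists_of_fix)
open Cfsg.Agent.Omega.FF.Basic (fx mem_fx)

universe u v w

section one

variable {Y : Type u} {A : Type v} [Group Y] [AddCommGroup A] [DistribMulAction Y A] [Finite A] [hI : IsIrr Y A]

/-- **`n` and `a`.** -/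
theorem exists_two (htv : AllTv Y A) (two : ∀ a : A, a + a = 0) {T : Subgroup Y} (hT2 : IsPGroup 2 T)
    (hT : ¬ 2 ∣ T.index) (hd : 2 ≤ Module.finrank (KK Y A) A) :
    ∃ n a : A, n ≠ 0 ∧ (∀ t ∈ T, t • n = n) ∧ (∀ κ : KK Y A, a ≠ κ • n) ∧
      (∀ t ∈ T, ∃ κ : KK Y A, t • a = a + κ • n) ∧
      ∀ b : A, (∀ t ∈ T, ∃ κ : KK Y A, t • b = b + κ • n) → ∃ κ κ' : KK Y A, b = κ • n + κ' • a := by
  classical
  obtain ⟨a₀, ha₀⟩ := hI.ne
  obtain ⟨n, -, hn0, hn⟩ := Cfsg.Agent.Omega.FF.Basic.exists_fixed (V := A) hT2 (H := ⊤) (K := ⊥) two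
    (fun t _ v hv => by rw [AddSubgroup.mem_bot] at hv ⊢; rw [hv, smul_zero]) (fun _ _ _ _ => trivial) bot_le
    (fun h => ha₀ (h (AddSubgroup.mem_top a₀)))
  rw [AddSubgroup.mem_bot] at hn0
  have hn' : ∀ t ∈ T, t • n = n := fun t ht => sub_eq_zero.1 (AddSubgroup.mem_bot.1 (hn t ht))
  -- `N₁ = K n`
  let N₁ : AddSubgroup A := (Submodule.span (KK Y A) ({n} : Set A)).toAddSubgroup
  have hN₁ : ∀ x : A, x ∈ N₁ ↔ ∃ κ : KK Y A, κ • n = x := fun x => Submodule.mem_span_singleton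
  have hK₁ : ∀ (κ : KK Y A) (x : A), x ∈ N₁ → κ • x ∈ N₁ := fun κ x hx => Submodule.smul_mem _ κ hx
  have hT₁ : ∀ t ∈ T, ∀ x ∈ N₁, t • x ∈ N₁ := by
    intro t ht x hx
    obtain ⟨κ, rfl⟩ := (hN₁ x).1 hx
    rw [← KK.smul_smul_comm, hn' t ht]
    exact hx
  have hne : ¬ (⊤ : AddSubgroup A) ≤ N₁ := by
    intro h
    have h1 : Submodule.span (KK Y A) ({n} : Set A) = ⊤ := by
      rw [eq_top_iff]
      intro x _
      exact h (AddSubgroup.mem_top x)
    have h2 := finrank_span_singleton (K := KK Y A) hn0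
    rw [h1, finrank_top] at h2
    omega
  obtain ⟨a, -, haN, ha⟩ := Cfsg.Agent.Omega.FF.Basic.exists_fixed (V := A) hT2 (H := ⊤) (K := N₁) two hT₁
    (fun _ _ _ _ => trivial) le_top hne
  refine ⟨n, a, hn0, hn', fun κ h => haN ((hN₁ a).2 ⟨κ, h.symm⟩), ?_, ?_⟩
  · intro t ht
    obtain ⟨κ, hκ⟩ := (hN₁ _).1 (ha t ht)
    exact ⟨κ, by rw [hκ]; abel⟩
  · intro b hb
    by_contra hcon
    push Not at hcon
    -- `N₂`
    let N₂ : AddSubgroup A :=
      { carrier := {x | ∀ t ∈ T, t • x - x ∈ N₁}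
        zero_mem' := fun t _ => by rw [smul_zero, sub_zero]; exact N₁.zero_mem
        add_mem' := fun {x y} hx hy t ht => by
          have e : t • (x + y) - (x + y) = (t • x - x) + (t • y - y) := by rw [smul_add]; abel
          rw [e]; exact N₁.add_mem (hx t ht) (hy t ht)
        neg_mem' := fun {x} hx t ht => by
          have e : t • -x - -x = -(t • x - x) := by rw [smul_neg]; abel
          rw [e]; exact N₁.neg_mem (hx t ht) }
    have hbN : b ∈ N₂ := by
      intro t ht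
      obtain ⟨κ, hκ⟩ := hb t ht
      rw [hκ, add_sub_cancel_left]
      exact (hN₁ _).2 ⟨κ, rfl⟩
    have haN₂ : ∀ κ : KK Y A, κ • a ∈ N₂ := by
      intro κ t ht
      have e : t • κ • a - κ • a = κ • (t • a - a) := by rw [← KK.smul_smul_comm, smul_sub]
      rw [e]
      exact hK₁ κ _ (ha t ht)
    -- the parabolic subgroup
    let Q : Subgroup Y :=
      { carrier := {y | (∀ x, x ∈ N₁ ↔ y • x ∈ N₁) ∧ ∀ x, x ∈ N₂ ↔ y • x ∈ N₂}
        one_mem' := ⟨fun x => by rw [one_smul], fun x => by rw [one_smul]⟩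
        mul_mem' := fun {y z} hy hz => ⟨fun x => by rw [mul_smul, hz.1, hy.1], fun x => by
          rw [mul_smul, hz.2, hy.2]⟩
        inv_mem' := fun {y} hy => ⟨fun x => by rw [hy.1 (y⁻¹ • x), smul_inv_smul], fun x => by
          rw [hy.2 (y⁻¹ • x), smul_inv_smul]⟩ }
    let R : Subgroup Y :=
      { carrier := {y | y ∈ Q ∧ ∀ x ∈ N₂, y • x - x ∈ N₁}
        one_mem' := ⟨Q.one_mem, fun x _ => by rw [one_smul, sub_self]; exact N₁.zero_mem⟩
        mul_mem' := fun {y z} hy hz => ⟨Q.mul_mem hy.1 hz.1, fun x hx => by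
          have e : (y * z) • x - x = y • (z • x - x) + (y • x - x) := by rw [mul_smul, smul_sub]; abel
          rw [e]; exact N₁.add_mem ((hy.1.1 _).1 (hz.2 x hx)) (hy.2 x hx)⟩
        inv_mem' := fun {y} hy => ⟨Q.inv_mem hy.1, fun x hx => by
          have e : y⁻¹ • x - x = -(y • (y⁻¹ • x) - y⁻¹ • x) := by rw [smul_inv_smul]; abel
          rw [e]
          exact N₁.neg_mem (hy.2 _ ((hy.1.2 _).2 (by rw [smul_inv_smul]; exact hx)))⟩ }
    have hRQ : R ≤ Q := fun y hy => hy.1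
    have hTR : T ≤ R := by
      intro t ht
      have h1 : ∀ x, x ∈ N₁ ↔ t • x ∈ N₁ := fun x => ⟨fun hx => hT₁ t ht x hx, fun hx => by
        have := hT₁ t⁻¹ (T.inv_mem ht) _ hx
        rwa [inv_smul_smul] at this⟩
      have h2 : ∀ s ∈ T, ∀ x ∈ N₂, s • x ∈ N₂ := by
        intro s hs x hx
        have e : s • x = (s • x - x) + x := by abel
        rw [e]
        refine N₂.add_mem (fun r hr => ?_) hx
        have h3 := hx s hs
        exact N₁.sub_mem (hT₁ r hr _ h3) h3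
      refine ⟨⟨h1, fun x => ⟨fun hx => h2 t ht x hx, fun hx => ?_⟩⟩, fun x hx => hx t ht⟩
      have := h2 t⁻¹ (T.inv_mem ht) _ hx
      rwa [inv_smul_smul] at this
    have hodd : ¬ 2 ∣ R.relIndex Q := by
      intro h2
      apply hT
      have h3 := relIndex_mul_relIndex T R Q hTR hRQ
      have h4 := relIndex_mul_index (hTR.trans hRQ)
      exact (h2.trans (Dvd.intro_left _ h3)).trans (Dvd.intro _ h4)
    have hnorm : ∀ q ∈ Q, ∀ k ∈ R, q * k * q⁻¹ ∈ R := by
      intro q hq k hk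
      refine ⟨Q.mul_mem (Q.mul_mem hq hk.1) (Q.inv_mem hq), fun x hx => ?_⟩
      have e : (q * k * q⁻¹) • x - x = q • (k • (q⁻¹ • x) - q⁻¹ • x) := by
        rw [smul_sub, smul_inv_smul, mul_smul, mul_smul]
      rw [e]
      exact (hq.1 _).1 (hk.2 _ ((hq.2 _).2 (by rw [smul_inv_smul]; exact hx)))
    -- the transvection
    have hbs : b ∉ Submodule.span (KK Y A) ({n, a} : Set A) := by
      intro h
      obtain ⟨κ, κ', h1⟩ := Submodule.mem_span_pair.1 h
      exact hcon κ κ' h1.symm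
    obtain ⟨φ, hφ1, hφ2⟩ := Submodule.exists_dual_map_eq_bot_of_notMem hbs inferInstance
    have hφ0 : ∀ x ∈ Submodule.span (KK Y A) ({n, a} : Set A), φ x = 0 := by
      intro x hx
      have h : φ x ∈ (Submodule.span (KK Y A) ({n, a} : Set A)).map φ := ⟨x, hx, rfl⟩
      rw [hφ2, Submodule.mem_bot] at h
      exact h
    have hφn : φ n = 0 := hφ0 n (Submodule.subset_span (by simp))
    have hφa : φ a = 0 := hφ0 a (Submodule.subset_span (by simp))
    obtain ⟨k, hk⟩ := htv φ a hφa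
    have hkk : ∀ x : A, k • k • x = x := by
      intro x
      rw [hk, hk, map_add, map_smul, hφa, smul_zero, add_zero, add_assoc, two, add_zero]
    have hkQ : k ∈ Q := by
      have h1 : ∀ x ∈ N₁, k • x = x := by
        intro x hx
        obtain ⟨κ, rfl⟩ := (hN₁ x).1 hx
        rw [hk, map_smul, hφn, smul_zero, zero_smul, add_zero]
      have h2 : ∀ x ∈ N₂, k • x ∈ N₂ := by
        intro x hx
        rw [hk]
        exact N₂.add_mem hx (haN₂ _)
      refine ⟨fun x => ⟨fun hx => by rw [h1 x hx]; exact hx, fun hx => ?_⟩, fun x => ⟨h2 x, fun hx => ?_⟩⟩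
      · have := h1 _ hx
        rw [hkk] at this
        rw [this]
        exact hx
      · have := h2 _ hx
        rwa [hkk] at this
    -- `k` acts as an involution: `k * k` acts trivially, so it lies in `R`
    have hk2R : k * k ∈ R := by
      refine ⟨Q.mul_mem hkQ hkQ, fun x _ => ?_⟩
      rw [mul_smul, hkk, sub_self]
      exact N₁.zero_mem
    have hkR : k ∈ R := by
      have hN : (R.subgroupOf Q).Normal := ⟨fun a ha b => hnorm b b.2 a ha⟩
      by_contra hc
      apply hodd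
      have h3 : orderOf (QuotientGroup.mk ⟨k, hkQ⟩ : Q ⧸ R.subgroupOf Q) = 2 := by
        refine orderOf_eq_prime ?_ fun h0 => hc ((QuotientGroup.eq_one_iff (⟨k, hkQ⟩ : Q)).1 h0)
        rw [← QuotientGroup.mk_pow, QuotientGroup.eq_one_iff, pow_two]
        exact hk2R
      rw [← h3, relIndex, index_eq_card]
      exact orderOf_dvd_natCard _
    have h5 := hkR.2 b hbN
    rw [hk, add_sub_cancel_left] at h5
    apply haN
    have h6 := hK₁ (φ b)⁻¹ _ h5
    rwa [smul_smul, inv_mul_cancel₀ hφ1, one_smul] at h6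

/-! ### `A ⊗ E` -/

section img

variable {U : Type w} [AddCommGroup U] [DistribMulAction Y U] [Finite U] {n a : A}

/-- **`{w ∈ A ⊗ E : [w, T] ≤ C(T)} = n ⊗ E + a ⊗ E`** -/
theorem blk_elt (htv : AllTv Y A) (two : ∀ a : A, a + a = 0) {T : Subgroup Y} (hT : ¬ 2 ∣ T.index) (hn0 : n ≠ 0)
    (hn : ∀ t ∈ T, t • n = n)
    (hN : ∀ b : A, (∀ t ∈ T, ∃ κ : KK Y A, t • b = b + κ • n) → ∃ κ κ' : KK Y A, b = κ • n + κ' • a)
    {w : U} (hw : w ∈ img Y A U) (hwT : ∀ t ∈ T, ∀ s ∈ T, s • (t • w - w) = t • w - w) :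
    ∃ f g : HomY Y A U, w = (f : A →+ U) n + (g : A →+ U) a := by
  obtain ⟨d, f, hf, hco⟩ := exists_coord (Y := Y) (A := A) (U := U)
  obtain ⟨c, rfl⟩ := hco w hw
  have h1 : ∀ t ∈ T, ∀ i, ∃ κ : KK Y A, t • c i = c i + κ • n := by
    intro t ht i
    have h2 : ∀ s ∈ T, s • (t • c i - c i) = t • c i - c i := by
      intro s hs
      have h2 := hwT t ht s hs
      have e : t • ∑ i, (f i : A →+ U) (c i) - ∑ i, (f i : A →+ U) (c i) =
          ∑ i, (f i : A →+ U) (t • c i - c i) := by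
        rw [Finset.smul_sum, ← Finset.sum_sub_distrib]
        exact Finset.sum_congr rfl fun i _ => by rw [map_sub, (f i).2]
      rw [e, Finset.smul_sum] at h2
      have h3 := HomY.ind hf Finset.univ (fun i => s • (t • c i - c i) - (t • c i - c i)) (by
        rw [← sub_eq_zero.2 h2, ← Finset.sum_sub_distrib]
        exact Finset.sum_congr rfl fun i _ => by rw [map_sub, (f i).2]) i (Finset.mem_univ _)
      exact sub_eq_zero.1 h3
    obtain ⟨κ, hκ⟩ := fix_line htv two hT hn0 hn h2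
    exact ⟨κ, by rw [← hκ]; abel⟩
  choose κ κ' hκ using fun i => hN (c i) fun t ht => h1 t ht i
  refine ⟨∑ i, κ i • f i, ∑ i, κ' i • f i, ?_⟩
  rw [AddSubgroup.val_finsetSum, AddSubgroup.val_finsetSum, AddMonoidHom.finsetSum_apply,
    AddMonoidHom.finsetSum_apply, ← Finset.sum_add_distrib]
  exact Finset.sum_congr rfl fun i _ => by
    rw [HomY.smul_apply, HomY.smul_apply, ← map_add, ← hκ]

omit [Finite U] in
/-- `t` moves `a`: only `n ⊗ E` is fixed by `t` -/
theorem blk_free {t : Y} (htn : t • n = n) {κ : KK Y A} (hta : t • a = a + κ • n) {f g : HomY Y A U}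
    (h : t • ((f : A →+ U) n + (g : A →+ U) a) = (f : A →+ U) n + (g : A →+ U) a) : g = 0 ∨ t • a = a := by
  rw [smul_add, ← f.2, ← g.2, htn, hta, map_add, ← add_assoc] at h
  have h1 : (g : A →+ U) (κ • n) = 0 := add_eq_left.1 h
  by_cases h2 : κ • n = 0
  · right; rw [hta, h2, add_zero]
  · left; exact HomY.eq_zero h1 h2

/-- `|T : C_T(a)|² ≤ |E|` -/
theorem blk_card [Finite Y] {T : Subgroup Y} (hT : ∀ t ∈ T, ∃ κ : KK Y A, t • a = a + κ • n)
    (hd : 2 ≤ Module.finrank (KK Y A) (HomY Y A U)) :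
    (MulAction.stabilizer Y a).relIndex T ^ 2 ≤ Nat.card (HomY Y A U) := by
  classical
  have hfin : Finite (KK Y A) := Finite.of_injective (fun κ : KK Y A => ((κ.1 : AddMonoid.End A) : A → A))
    fun κ κ' h => Subtype.ext (DFunLike.coe_injective h)
  have h1 : (MulAction.stabilizer Y a).relIndex T ≤ Nat.card (KK Y A) := by
    choose! κ hκ using hT
    rw [relIndex, index_eq_card]
    refine Nat.card_le_card_of_injective (fun q : T ⧸ (MulAction.stabilizer Y a).subgroupOf T =>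
      κ ((q.out : T) : Y)) ?_
    intro q q' h
    have h2 : κ ((q.out : T) : Y) = κ ((q'.out : T) : Y) := h
    have h3 : ((q.out : T) : Y) • a = ((q'.out : T) : Y) • a := by
      rw [hκ _ q.out.2, hκ _ q'.out.2, h2]
    have h4 : ((q.out : T) : Y)⁻¹ * ((q'.out : T) : Y) ∈ MulAction.stabilizer Y a := by
      rw [MulAction.mem_stabilizer_iff, mul_smul, ← h3, inv_smul_smul]
    have h5 : (QuotientGroup.mk q.out : T ⧸ (MulAction.stabilizer Y a).subgroupOf T) = QuotientGroup.mk q'.out :=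
      QuotientGroup.eq.2 h4
    rwa [QuotientGroup.out_eq', QuotientGroup.out_eq'] at h5
  have hfin3 : Module.Finite (KK Y A) (HomY Y A U) := Module.Finite.of_finite
  have h2 : Nat.card (HomY Y A U) = Nat.card (KK Y A) ^ Module.finrank (KK Y A) (HomY Y A U) :=
    Module.natCard_eq_pow_finrank
  rw [h2]
  calc (MulAction.stabilizer Y a).relIndex T ^ 2 ≤ Nat.card (KK Y A) ^ 2 := Nat.pow_le_pow_left h1 2
    _ ≤ _ := Nat.pow_le_pow_right Nat.card_pos hd

end img

end one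

end Cfsg.Agent.Omega.NO3b.BasePt.VTwo
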