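import Cfsg.Agent.Omega.NO3b.BasePt.PThree
import Cfsg.Agent.Omega.NO3b.BasePt.VTwoBlk
import Cfsg.Agent.Omega.NO3b.BasePt.VTwoGood
import Cfsg.Agent.Omega.NO3b.Exit.MU

/-!
# The flag `(S₁, Z₁, V₍₂₎)`: the good sets (#22497 (c), (d), (e); #22687 (E1)), over helper957's `Fam`

`D = S ∩ RR`, `tw W D = V₍₂₎ = {v : [v, D] ≤ C_W(D)}`.

* `act_T` : `D` acts on `[W, Y]` as `S ∩ Y`;
* `exists_blk` : the block `V₍₂₎ ∩ [W, Y]`;
* `tw_le`, `eq_zero_of_fix` : `V₍₂₎ = ⨁ (V₍₂₎ ∩ [W, Y]) ⊕ C_W(RR)`;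
* **`exists_blkAct`** : `BlkAct (S ∩ C(Z₁)) V₍₂₎ U` in the group; **`exists_goodAt`** : the field `good` of `BaseFlag`.
-/

set_option autoImplicit false

namespace Cfsg.Agent.Omega.NO3b.BasePt.VTwo

open Subgroup
open Cfsg.Agent.Omega.NO3b.Exit Cfsg.Agent.Omega.NO3b.Exit.Ten Cfsg.Agent.Omega.NO3b.Exit.Descent
open Cfsg.Agent.Omega.FF.Basic (fx)
open Cfsg.Agent.Omega.NO3b.BasePt.PThree (mem_cm smul_cm le_RR RR_act Dec eq_one odd_Y fix_of inf_RR exists_irr)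
open scoped Pointwise

universe u v

/-- an index is bounded by a map into cosets of another group -/
theorem relIndex_le_of_map {G : Type*} {H : Type*} [Group G] [Group H] [Finite H] {A X : Subgroup G}
    {B S : Subgroup H} (f : G → H) (hf : ∀ x ∈ X, f x ∈ S)
    (hinj : ∀ x ∈ X, ∀ y ∈ X, (f x)⁻¹ * f y ∈ B → x⁻¹ * y ∈ A) : A.relIndex X ≤ B.relIndex S := by
  rw [relIndex, relIndex, index_eq_card, index_eq_card]
  let g : X ⧸ A.subgroupOf X → S ⧸ B.subgroupOf S := fun c => QuotientGroup.mk ⟨f (c.out : X), hf _ c.out.2⟩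
  refine Nat.card_le_card_of_injective g ?_
  intro c c' hc
  have h1 := QuotientGroup.eq.1 hc
  have h2 : (f (c.out : X))⁻¹ * f (c'.out : X) ∈ B := h1
  have h3 : (c.out : X)⁻¹ * c'.out ∈ A.subgroupOf X := hinj _ c.out.2 _ c'.out.2 h2
  have h4 := QuotientGroup.eq.2 h3
  rwa [QuotientGroup.out_eq', QuotientGroup.out_eq'] at h4

variable {Γ : Type u} [Group Γ] {W : Type v} [AddCommGroup W] [DistribMulAction Γ W] {M : Subgroup Γ}
  {𝒴 : Set (Subgroup Γ)}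

variable (W) in
/-- `{v : [v, D] ≤ C_W(D)}` -/
def tw (D : Subgroup Γ) : AddSubgroup W where
  carrier := {v | ∀ d ∈ D, d • v - v ∈ fx W D}
  zero_mem' := fun d _ => by rw [smul_zero, sub_zero]; exact zero_mem _
  add_mem' := fun {x y} hx hy d hd => by
    have e : d • (x + y) - (x + y) = (d • x - x) + (d • y - y) := by rw [smul_add]; abel
    rw [e]; exact add_mem (hx d hd) (hy d hd)
  neg_mem' := fun {x} hx d hd => by
    have e : d • -x - -x = -(d • x - x) := by rw [smul_neg]; abel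
    rw [e]; exact neg_mem (hx d hd)

theorem mem_tw {D : Subgroup Γ} {v : W} : v ∈ tw W D ↔ ∀ d ∈ D, d • v - v ∈ fx W D := Iff.rfl

theorem fx_le_tw {D : Subgroup Γ} : fx W D ≤ tw W D := fun v hv d hd => by
  rw [hv d hd, sub_self]; exact zero_mem _

/-- the blocks of `V₍₂₎` -/
def UU (W : Type v) [AddCommGroup W] [DistribMulAction Γ W] (𝒴 : Set (Subgroup Γ)) (D : Subgroup Γ) :
    Option 𝒴 → AddSubgroup W
  | none => fx W (RR 𝒴)
  | some Y => tw W D ⊓ cm W (Y : Subgroup Γ)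

section fam

variable (f : Fam W M 𝒴)
include f

/-- `C_{[W, Y]}(Y) = 0` -/
theorem cm_inf_fx [Finite W] {Y : Subgroup Γ} (hY : Y ∈ 𝒴) {v : W} (hv : v ∈ cm W Y) (h : ∀ y ∈ Y, y • v = v) :
    v = 0 := by
  obtain ⟨A, _, _, _, hI, htv, two, hcm, hdA, hdE⟩ := (f.blk Y hY).ex
  rw [hcm] at hv
  obtain ⟨m, g, hg, hco⟩ := exists_coord (Y := Y) (A := A) (U := W)
  obtain ⟨a, rfl⟩ := hco v hv
  have h1 : ∀ i, a i = 0 := by
    intro i
    by_contra hne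
    obtain ⟨y, hy⟩ := exists_irr hdA htv (a i) hne
    apply hy
    have h2 := h y y.2
    have h3 := HomY.ind hg Finset.univ (fun i => y • a i - a i) (by
      have e : ∑ i, (g i : A →+ W) (y • a i - a i) = (y : Γ) • ∑ i, (g i : A →+ W) (a i) -
          ∑ i, (g i : A →+ W) (a i) := by
        rw [Finset.smul_sum, ← Finset.sum_sub_distrib]
        exact Finset.sum_congr rfl fun i _ => by rw [map_sub, (g i).2]; rfl
      rw [e, h2, sub_self]) i (Finset.mem_univ _)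
    exact sub_eq_zero.1 h3
  exact Finset.sum_eq_zero fun i _ => by rw [h1, map_zero]

variable [Finite Γ] {S : Subgroup Γ}

/-- `S ∩ RR` acts on `[W, Y]` as `S ∩ Y` -/
theorem act_T (d : Dec W 𝒴) (hS : IsPGroup 2 S) (syl : ¬ 2 ∣ S.relIndex M) {Y : Subgroup Γ} (hY : Y ∈ 𝒴) {x : Γ}
    (hx : x ∈ S ⊓ RR 𝒴) : ∃ y ∈ S ⊓ Y, ∀ v ∈ cm W Y, x • v = y • v := by
  have hfact : Fact (Nat.Prime 2) := ⟨Nat.prime_two⟩
  let T : Subgroup Γ :=
    { carrier := {y | y ∈ Y ∧ ∃ x ∈ S ⊓ RR 𝒴, ∀ v ∈ cm W Y, x • v = y • v}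
      one_mem' := ⟨one_mem _, 1, one_mem _, fun _ _ => rfl⟩
      mul_mem' := by
        rintro a b ⟨ha, x, hx, h1⟩ ⟨hb, z, hz, h2⟩
        exact ⟨mul_mem ha hb, x * z, mul_mem hx hz, fun v hv => by
          rw [mul_smul, mul_smul, h2 v hv, h1 _ (smul_cm hb hv)]⟩
      inv_mem' := by
        rintro a ⟨ha, x, hx, h1⟩
        refine ⟨inv_mem ha, x⁻¹, inv_mem hx, fun v hv => ?_⟩
        rw [inv_smul_eq_iff, h1 _ (smul_cm (inv_mem ha) hv), smul_inv_smul] }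
  have hT2 : IsPGroup 2 T := by
    rintro ⟨y, hy, x, hx, h1⟩
    obtain ⟨k, hk⟩ := hS ⟨x, hx.1⟩
    have hk' : x ^ 2 ^ k = 1 := congrArg Subtype.val hk
    refine ⟨k, Subtype.ext ?_⟩
    change y ^ 2 ^ k = 1
    refine eq_one f d hY (pow_mem hy _) fun v hv => ?_
    have h3 : ∀ n : ℕ, ∀ v ∈ cm W Y, x ^ n • v = y ^ n • v := by
      intro n
      induction n with
      | zero => intro v _; rw [pow_zero, pow_zero]
      | succ n ih =>
        intro v hv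
        rw [pow_succ, pow_succ, mul_smul, mul_smul, h1 v hv, ih _ (smul_cm hy hv)]
    rw [← h3 _ v hv, hk', one_smul]
  have hST : S ⊓ Y ≤ T := fun t ht => ⟨ht.2, t, ⟨ht.1, le_RR hY ht.2⟩, fun _ _ => rfl⟩
  have hTY : T ≤ Y := fun t ht => ht.1
  have h4 : (S ⊓ Y).relIndex T = 1 := by
    have h5 : ¬ 2 ∣ (S ⊓ Y).relIndex T := by
      intro h6
      apply odd_Y f syl hY
      rw [← inf_relIndex_right]
      exact h6.trans ⟨_, (relIndex_mul_relIndex (S ⊓ Y) T Y hST hTY).symm⟩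
    obtain ⟨k, hk⟩ := IsPGroup.iff_card.1 hT2
    have h6 : (S ⊓ Y).relIndex T ∣ 2 ^ k := by rw [← hk]; exact relIndex_dvd_card _ _
    obtain ⟨l, -, hl⟩ := (Nat.dvd_prime_pow Nat.prime_two).1 h6
    rcases Nat.eq_zero_or_pos l with h0 | h0
    · rw [hl, h0, pow_zero]
    · exact absurd (hl ▸ dvd_pow_self 2 h0.ne') h5
  obtain ⟨y, hy, h1⟩ := RR_act f hY hx.2
  exact ⟨y, relIndex_eq_one.1 h4 ⟨hy, x, hx, h1⟩, h1⟩

variable [Finite W]

/-- **One block.** -/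
theorem exists_blk (d : Dec W 𝒴) (hS : IsPGroup 2 S) (syl : ¬ 2 ∣ S.relIndex M) {Y : Subgroup Γ} (hY : Y ∈ 𝒴) :
    (∀ t ∈ S ⊓ RR 𝒴, (∃ x ∈ tw W (S ⊓ RR 𝒴) ⊓ cm W Y, t • x ≠ x) →
      ∀ x ∈ tw W (S ⊓ RR 𝒴) ⊓ cm W Y, t • x = x → x ∈ fx W (S ⊓ RR 𝒴)) ∧
    ∃ C : Subgroup Γ, (∀ c ∈ C, ∀ x ∈ tw W (S ⊓ RR 𝒴) ⊓ cm W Y, c • x = x) ∧
      C.relIndex (S ⊓ RR 𝒴) ^ 2 * Nat.card ↥(tw W (S ⊓ RR 𝒴) ⊓ cm W Y ⊓ fx W (S ⊓ RR 𝒴)) ≤
        Nat.card ↥(tw W (S ⊓ RR 𝒴) ⊓ cm W Y) := by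
  classical
  set D := S ⊓ RR 𝒴 with hD
  obtain ⟨A, _, _, _, hI, htv, two, hcm, hdA, hdE⟩ := (f.blk Y hY).ex
  have hodd : ¬ 2 ∣ (S.subgroupOf Y).index := odd_Y f syl hY
  have hp : IsPGroup 2 (S.subgroupOf Y) := hS.comap_of_injective _ (subtype_injective Y)
  obtain ⟨n, a, hn0, hn, han, ha, hN⟩ := exists_two htv two hp hodd hdA
  have hTD : ∀ t : Y, t ∈ S.subgroupOf Y → (t : Γ) ∈ D := fun t ht => ⟨mem_subgroupOf.1 ht, le_RR hY t.2⟩
  -- coordinates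
  have hX : ∀ x ∈ tw W D ⊓ cm W Y, ∃ g h : HomY Y A W, x = (g : A →+ W) n + (h : A →+ W) a := by
    rintro x ⟨hx, hxY⟩
    rw [hcm] at hxY
    exact blk_elt htv two hodd hn0 hn hN hxY fun t ht s hs => hx t (hTD t ht) s (hTD s hs)
  have hfixn : ∀ g : HomY Y A W, (g : A →+ W) n ∈ fx W D := by
    intro g
    refine fix_of f d hS syl hY (by rw [hcm]; exact mem_img g n) fun t ht htY => ?_
    have h1 := hn ⟨t, htY⟩ (mem_subgroupOf.2 ht)
    have h2 := g.2 (⟨t, htY⟩ : Y) n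
    rw [h1] at h2
    exact h2.symm
  have hact : ∀ t ∈ D, ∃ y : Y, y ∈ S.subgroupOf Y ∧ ∀ v ∈ cm W Y, t • v = (y : Γ) • v := by
    intro t ht
    obtain ⟨y, hy, h1⟩ := act_T f d hS syl hY ht
    exact ⟨⟨y, hy.2⟩, mem_subgroupOf.2 hy.1, h1⟩
  have hga : ∀ (g : HomY Y A W) (y : Y), (y : Γ) • (g : A →+ W) a = (g : A →+ W) (y • a) := fun g y => (g.2 y a).symm
  have hXa : ∀ g : HomY Y A W, (g : A →+ W) a ∈ tw W D ⊓ cm W Y := by
    intro g
    have hgY : (g : A →+ W) a ∈ cm W Y := by rw [hcm]; exact mem_img g a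
    refine ⟨fun t ht => ?_, hgY⟩
    obtain ⟨y, hy, h1⟩ := hact t ht
    obtain ⟨κ, hκ⟩ := ha y hy
    rw [h1 _ hgY, hga, hκ, map_add, add_sub_cancel_left, ← HomY.smul_apply]
    exact hfixn _
  constructor
  · rintro t ht ⟨x', hx', hne⟩ x hx htx
    obtain ⟨y, hy, h1⟩ := hact t ht
    obtain ⟨g', h', rfl⟩ := hX x' hx'
    obtain ⟨g, h, rfl⟩ := hX x hx
    rw [h1 _ hx'.2] at hne
    rw [h1 _ hx.2] at htx
    obtain ⟨κ, hκ⟩ := ha y hy
    rcases VTwo.blk_free (U := W) (hn y hy) hκ htx with h0 | h0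
    · rw [h0]
      have e : ((0 : HomY Y A W) : A →+ W) a = 0 := rfl
      rw [e, add_zero]
      exact hfixn g
    · exfalso
      apply hne
      rw [smul_add, hga, h0]
      have h2 := g'.2 y n
      rw [hn y hy] at h2
      rw [← show (g' : A →+ W) n = (y : Γ) • (g' : A →+ W) n from h2]
  · refine ⟨{ carrier := {c | ∀ x ∈ tw W D ⊓ cm W Y, c • x = x}
              one_mem' := fun x _ => one_smul _ x
              mul_mem' := fun {b c} hb hc x hx => by rw [mul_smul, hc x hx, hb x hx]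
              inv_mem' := fun {c} hc x hx => by rw [inv_smul_eq_iff, hc x hx] }, fun c hc => hc, ?_⟩
    set C : Subgroup Γ := { carrier := {c | ∀ x ∈ tw W D ⊓ cm W Y, c • x = x}
                            one_mem' := fun x _ => one_smul _ x
                            mul_mem' := fun {b c} hb hc x hx => by rw [mul_smul, hc x hx, hb x hx]
                            inv_mem' := fun {c} hc x hx => by rw [inv_smul_eq_iff, hc x hx] } with hC
    have h1 : C.relIndex D ≤ (MulAction.stabilizer Y a).relIndex (S.subgroupOf Y) := by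
      choose! F hF hF1 using hact
      refine relIndex_le_of_map F hF ?_
      intro s hs t ht hst x hx
      obtain ⟨g, h, rfl⟩ := hX x hx
      have h2 : F s • a = F t • a := by
        have h3 : ((F s)⁻¹ * F t) • a = a := hst
        rw [mul_smul, inv_smul_eq_iff] at h3
        exact h3.symm
      have h3 : ∀ r ∈ D, r • ((g : A →+ W) n + (h : A →+ W) a) = (g : A →+ W) n + (h : A →+ W) (F r • a) := by
        intro r hr
        rw [smul_add, hfixn g r hr, hF1 r hr _ (hXa h).2, hga]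
      rw [mul_smul, inv_smul_eq_iff, h3 s hs, h3 t ht, h2]
    have h2 := blk_card (U := W) (T := S.subgroupOf Y) ha hdE
    have h3 : Nat.card (HomY Y A W) * Nat.card ↥(tw W D ⊓ cm W Y ⊓ fx W D) ≤ Nat.card ↥(tw W D ⊓ cm W Y) := by
      rw [← Nat.card_prod]
      refine Nat.card_le_card_of_injective (fun p : HomY Y A W × ↥(tw W D ⊓ cm W Y ⊓ fx W D) =>
        (⟨(p.1 : A →+ W) a + p.2, add_mem (hXa p.1) p.2.2.1⟩ : ↥(tw W D ⊓ cm W Y))) ?_
      rintro ⟨g, x⟩ ⟨g', x'⟩ hgx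
      have e : (g : A →+ W) a + x = (g' : A →+ W) a + x' := congrArg Subtype.val hgx
      have e1 : ((g - g' : HomY Y A W) : A →+ W) a = x' - x := by
        have : ((g - g' : HomY Y A W) : A →+ W) a = (g : A →+ W) a - (g' : A →+ W) a := rfl
        rw [this, sub_eq_sub_iff_add_eq_add, e]; abel
      have e2 : g - g' = 0 := by
        by_contra hne
        have h4 : ∀ t ∈ S.subgroupOf Y, t • a = a := by
          intro t ht
          apply HomY.inj hne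
          rw [(g - g').2, e1]
          exact (fx W D).sub_mem x'.2.2 x.2.2 t (hTD t ht)
        obtain ⟨κ, hκ⟩ := fix_line htv two hodd hn0 hn h4
        exact han κ hκ
      have e3 : g = g' := sub_eq_zero.1 e2
      subst e3
      have e4 : x = x' := Subtype.ext (add_left_cancel e)
      rw [e4]
    calc C.relIndex D ^ 2 * Nat.card ↥(tw W D ⊓ cm W Y ⊓ fx W D)
        ≤ (MulAction.stabilizer Y a).relIndex (S.subgroupOf Y) ^ 2 * _ :=
          Nat.mul_le_mul_right _ (Nat.pow_le_pow_left h1 2)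
      _ ≤ _ := Nat.mul_le_mul_right _ h2
      _ ≤ _ := h3

omit [Finite Γ] [Finite W] in
/-- `Y` fixes the other blocks and `C_W(RR)` -/
theorem other_le {Y : Subgroup Γ} (hY : Y ∈ 𝒴) {T : Finset (Subgroup Γ)} (hT : ∀ Y' ∈ T, Y' ∈ 𝒴) (hn : Y ∉ T) :
    (⨆ Y' ∈ T, cm W Y') ⊔ fx W (RR 𝒴) ≤ fx W Y := by
  refine sup_le (iSup₂_le fun Y' hY' v hv y hy => ?_) fun v hv y hy => hv y (le_RR hY hy)
  exact f.triv Y hY Y' (hT Y' hY') (fun e => hn (e ▸ hY')) y hy v hv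

omit [Finite Γ] in
/-- the sum of the blocks and `C_W(RR)` is direct -/
theorem eq_zero_of_fix {T : Finset (Subgroup Γ)} (hT : ∀ Y' ∈ T, Y' ∈ 𝒴) {w : W}
    (hw : w ∈ (⨆ Y' ∈ T, cm W Y' : AddSubgroup W)) (h : ∀ Y ∈ T, ∀ y ∈ Y, y • w = w) : w = 0 := by
  classical
  induction T using Finset.induction generalizing w with
  | empty => simpa using hw
  | insert Y T hYT ih =>
    rw [Finset.iSup_insert] at hw
    obtain ⟨a, ha, b, hb, rfl⟩ := AddSubgroup.mem_sup.1 hw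
    have hT' : ∀ Y' ∈ T, Y' ∈ 𝒴 := fun Y' hY' => hT Y' (Finset.mem_insert_of_mem hY')
    have hY : Y ∈ 𝒴 := hT Y (Finset.mem_insert_self _ _)
    have hbY : ∀ y ∈ Y, y • b = b := other_le f hY hT' hYT ((le_sup_left : _ ≤ _ ⊔ fx W (RR 𝒴)) hb)
    have ha0 : a = 0 := cm_inf_fx f hY ha fun y hy => by
      have h1 := h Y (Finset.mem_insert_self _ _) y hy
      rw [smul_add, hbY y hy] at h1
      exact add_right_cancel h1
    subst ha0
    rw [zero_add] at h ⊢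
    exact ih hT' hb fun Y' hY' => h Y' (Finset.mem_insert_of_mem hY')

omit [Finite W] in
/-- **`V₍₂₎ = Σ (V₍₂₎ ∩ [W, Y]) + C_W(RR)`** -/
theorem tw_le (d : Dec W 𝒴) (hS : IsPGroup 2 S) (syl : ¬ 2 ∣ S.relIndex M) {T : Finset (Subgroup Γ)}
    (hT : ∀ Y' ∈ T, Y' ∈ 𝒴) {w : W} (hw : w ∈ (⨆ Y' ∈ T, cm W Y') ⊔ fx W (RR 𝒴))
    (h : w ∈ tw W (S ⊓ RR 𝒴)) :
    w ∈ (⨆ Y' ∈ T, tw W (S ⊓ RR 𝒴) ⊓ cm W Y') ⊔ fx W (RR 𝒴) := by
  classical
  induction T using Finset.induction generalizing w with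
  | empty => simpa using hw
  | insert Y T hYT ih =>
    rw [Finset.iSup_insert, sup_assoc] at hw
    obtain ⟨a, ha, b, hb, rfl⟩ := AddSubgroup.mem_sup.1 hw
    have hT' : ∀ Y' ∈ T, Y' ∈ 𝒴 := fun Y' hY' => hT Y' (Finset.mem_insert_of_mem hY')
    have hY : Y ∈ 𝒴 := hT Y (Finset.mem_insert_self _ _)
    have hbY : ∀ y ∈ Y, y • b = b := other_le f hY hT' hYT hb
    have hat : a ∈ tw W (S ⊓ RR 𝒴) := by
      intro t ht
      obtain ⟨y, hy, h1⟩ := act_T f d hS syl hY ht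
      have h2 := h y ⟨hy.1, le_RR hY hy.2⟩
      have e : y • (a + b) - (a + b) = y • a - a := by rw [smul_add, hbY y hy.2]; abel
      rw [e] at h2
      rw [h1 a ha]
      exact h2
    have hbt : b ∈ tw W (S ⊓ RR 𝒴) := by
      have e : b = (a + b) - a := by abel
      rw [e]; exact sub_mem h hat
    rw [Finset.iSup_insert, sup_assoc]
    exact AddSubgroup.add_mem_sup ⟨hat, ha⟩ (ih hT' hb hbt)

end fam

/-! ### in the group -/

section group

open Cfsg.Agent.Omega.NO3b.Exit.Bridge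
open Cfsg.Agent.Omega.FFBr (XX pr im mem_im card_im coe_pr_smul pr_eq_one pr_surjective)
open Cfsg.Agent.Omega.NO3b.ClosedPow (cm_eq_one)

variable {G : Type u} [Group G] [Finite G] {V H S Z₁ V' : Subgroup G} {hc : V ≤ centralizer (V : Set G)}
  {h : H ≤ normalizer (V : Set G)} {N : Subgroup (XX h)} {𝒴 : Set (Subgroup (XX h))}

/-- **The free blocks of `V₍₂₎`.** -/
theorem exists_blkAct (f : Fam (MU hc) N 𝒴) (d : Dec (MU hc) 𝒴) (hS : IsPGroup 2 S) (SH : S ≤ H)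
    (SN : im h S ≤ N) (syl : ¬ 2 ∣ (im h S).relIndex N)
    (hZ₁ : ∀ v : G, v ∈ Z₁ ↔ v ∈ V ∧ ∀ s : H, (s : G) ∈ S → pr h s ∈ RR 𝒴 → (s : G) * v = v * s)
    (hV' : ∀ v : G, v ∈ V' ↔ v ∈ V ∧ ∀ s ∈ S ⊓ centralizer (Z₁ : Set G), s * v * s⁻¹ * v⁻¹ ∈ Z₁) :
    ∃ U : Option 𝒴 → Subgroup G, BlkAct (S ⊓ centralizer (Z₁ : Set G)) V' U := by
  classical
  have hfin : Finite (MU hc) := inferInstance
  have hfinA : Finite (MulAut V) := Finite.of_injective (fun x : MulAut V => (x : V → V)) DFunLike.coe_injective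
  have hfinX : Finite (XX h) := inferInstance
  have hfin2 : Finite (Subgroup (XX h)) :=
    Finite.of_injective (fun A : Subgroup (XX h) => (A : Set (XX h))) SetLike.coe_injective
  have h𝒴 : 𝒴.Finite := Set.toFinite 𝒴
  set D := im h S ⊓ RR 𝒴 with hD
  set S₁ := S ⊓ centralizer (Z₁ : Set G) with hS₁
  have hS2 : IsPGroup 2 (im h S) := (hS.comap_of_injective _ (subtype_injective H)).map _
  have hZV : Z₁ ≤ V := fun v hv => ((hZ₁ v).1 hv).1
  have hV'V : V' ≤ V := fun v hv => ((hV' v).1 hv).1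
  -- `Z₁`
  have hfx : ∀ w : MU hc, val w ∈ Z₁ ↔ w ∈ fx (MU hc) D := by
    intro w
    rw [hZ₁]
    constructor
    · rintro ⟨-, h1⟩ _ ⟨⟨s, hs, rfl⟩, hR⟩
      exact (pr_smul_eq_iff' h).2 (h1 s hs hR)
    · intro h1
      refine ⟨val_mem w, fun s hs hR => ?_⟩
      exact (pr_smul_eq_iff' h).1 (h1 _ ⟨⟨s, hs, rfl⟩, hR⟩)
  -- `S₁`
  have hS₁D : ∀ s : H, (s : G) ∈ S₁ ↔ (s : G) ∈ S ∧ pr h s ∈ D := by
    intro s
    constructor
    · rintro ⟨h1, h2⟩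
      refine ⟨h1, ?_⟩
      rw [hD, inf_RR f d SN hS2 syl]
      refine ⟨⟨s, h1, rfl⟩, fun v hv => (pr_smul_eq_iff' h).2 ?_⟩
      exact (mem_centralizer_iff.1 h2 _ ((hfx v).2 hv)).symm
    · rintro ⟨h1, h2⟩
      refine ⟨h1, mem_centralizer_iff.2 fun v hv => ?_⟩
      exact (((hZ₁ v).1 hv).2 s h1 h2.2).symm
  have hS₁H : S₁ ≤ H := inf_le_left.trans SH
  have hDS₁ : ∀ t ∈ D, ∃ s : H, (s : G) ∈ S₁ ∧ pr h s = t := by
    rintro t ht
    obtain ⟨s, hs, rfl⟩ := ht.1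
    exact ⟨s, (hS₁D s).2 ⟨hs, ht⟩, rfl⟩
  -- `V'`
  have htw : ∀ w : MU hc, val w ∈ V' ↔ w ∈ tw (MU hc) D := by
    intro w
    rw [hV']
    constructor
    · rintro ⟨-, h1⟩ t ht
      obtain ⟨s, hs, rfl⟩ := hDS₁ t ht
      rw [← hfx, val_sub, val_smul]
      exact h1 s hs
    · intro h1
      refine ⟨val_mem w, fun s hs => ?_⟩
      have h2 := h1 (pr h ⟨s, hS₁H hs⟩) ((hS₁D ⟨s, hS₁H hs⟩).1 hs).2
      rw [← hfx, val_sub, val_smul] at h2
      exact h2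
  -- the blocks
  let U : Option 𝒴 → Subgroup G := fun i => un (UU (MU hc) 𝒴 D i)
  have hmem : ∀ (i : Option 𝒴) (v : G), v ∈ U i ↔ ∃ w ∈ UU (MU hc) 𝒴 D i, val w = v := fun i v => Iff.rfl
  have hUtw : ∀ i, UU (MU hc) 𝒴 D i ≤ tw (MU hc) D := by
    rintro (_ | Y)
    · intro v hv
      exact fx_le_tw (fun t (ht : t ∈ D) => hv t ht.2)
    · exact inf_le_left
  have hUV : ∀ i, U i ≤ V' := by
    rintro i _ ⟨w, hw, rfl⟩
    exact (htw w).2 (hUtw i hw)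
  have hUact : ∀ i, ∀ t ∈ D, ∀ w ∈ UU (MU hc) 𝒴 D i, t • w ∈ UU (MU hc) 𝒴 D i := by
    rintro (_ | Y) t ht w hw
    · rw [hw t ht.2]
      exact hw
    · refine ⟨?_, ?_⟩
      · have e : t • w = (t • w - w) + w := by abel
        rw [e]
        exact (tw (MU hc) D).add_mem (fx_le_tw (hw.1 t ht)) hw.1
      · obtain ⟨y, hy, h1⟩ := RR_act f Y.2 ht.2
        rw [h1 w hw.2]
        exact smul_cm hy hw.2
  have hcent : ∀ (i : Option 𝒴) (s : H), (s : G) ∈ centralizer (U i : Set G) ↔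
      ∀ w ∈ UU (MU hc) 𝒴 D i, pr h s • w = w := by
    intro i s
    rw [mem_centralizer_iff]
    constructor
    · intro h1 w hw
      exact (pr_smul_eq_iff' h).2 (h1 (val w) ⟨w, hw, rfl⟩).symm
    · rintro h1 _ ⟨w, hw, rfl⟩
      exact ((pr_smul_eq_iff' h).1 (h1 w hw)).symm
  have hfxc : ∀ w : MU hc, w ∈ fx (MU hc) D → val w ∈ centralizer (S₁ : Set G) := by
    intro w hw
    rw [mem_centralizer_iff]
    intro s hs
    exact (mem_centralizer_iff.1 hs.2 _ ((hfx w).2 hw)).symm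
  have hcfx : ∀ w : MU hc, val w ∈ centralizer (S₁ : Set G) → w ∈ fx (MU hc) D := by
    intro w hw t ht
    obtain ⟨s, hs, rfl⟩ := hDS₁ t ht
    exact (pr_smul_eq_iff' h).2 (mem_centralizer_iff.1 hw s hs)
  refine ⟨U, ?_, ?_, ?_, ?_, ?_, ?_, ?_⟩
  · -- nU
    intro i
    refine ClosedPow.le_norm_of ?_
    rintro x hx _ ⟨w, hw, rfl⟩
    refine ⟨pr h ⟨x, hS₁H hx⟩ • w, hUact i _ ((hS₁D ⟨x, hS₁H hx⟩).1 hx).2 w hw, ?_⟩
    rw [val_smul]
  · -- cV
    exact hV'V.trans (hc.trans (centralizer_le hV'V))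
  · -- ind
    rintro (_ | Y)
    · rw [disjoint_iff_inf_le]
      rintro v ⟨⟨w, hw, rfl⟩, hv⟩
      have h1 : (⨆ j, ⨆ (_ : j ≠ none), U j) ≤ un (⨆ Y' ∈ h𝒴.toFinset, cm (MU hc) Y') := by
        refine iSup_le fun j => iSup_le fun hj => ?_
        rcases j with _ | Y
        · exact absurd rfl hj
        · rintro _ ⟨w, hw, rfl⟩
          refine ⟨w, ?_, rfl⟩
          exact (le_iSup₂_of_le (Y : Subgroup (XX h)) (h𝒴.mem_toFinset.2 Y.2) le_rfl :
            cm (MU hc) (Y : Subgroup (XX h)) ≤ _) hw.2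
      obtain ⟨w', hw', e⟩ := h1 hv
      have e' : w' = w := val_inj e
      subst e'
      have h2 := eq_zero_of_fix f (T := h𝒴.toFinset) (fun Y hY => h𝒴.mem_toFinset.1 hY) hw' fun Y hY y hy =>
        hw y (le_RR (h𝒴.mem_toFinset.1 hY) hy)
      rw [h2, val_zero]
      exact mem_bot.2 rfl
    · rw [disjoint_iff_inf_le]
      rintro v ⟨⟨w, hw, rfl⟩, hv⟩
      have h1 : (⨆ j, ⨆ (_ : j ≠ some Y), U j) ≤ un (fx (MU hc) (Y : Subgroup (XX h))) := by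
        refine iSup_le fun j => iSup_le fun hj => ?_
        rcases j with _ | Y'
        · rintro _ ⟨w, hw, rfl⟩
          exact ⟨w, fun y hy => hw y (le_RR Y.2 hy), rfl⟩
        · rintro _ ⟨w, hw, rfl⟩
          refine ⟨w, fun y hy => f.triv Y Y.2 Y' Y'.2 (fun e => hj ?_) y hy w hw.2, rfl⟩
          rw [Subtype.ext e]
      obtain ⟨w', hw', e⟩ := h1 hv
      have e' : w' = w := val_inj e
      subst e'
      rw [cm_inf_fx f Y.2 hw.2 hw', val_zero]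
      exact mem_bot.2 rfl
  · -- sup
    refine le_antisymm (iSup_le hUV) ?_
    intro v hv
    obtain ⟨a, ha, c, hcc, e⟩ := d (mk hc (hV'V hv))
    have h1 : mk hc (hV'V hv) ∈ tw (MU hc) D := (htw _).1 hv
    have h2 : mk hc (hV'V hv) ∈ (⨆ Y' ∈ h𝒴.toFinset, cm (MU hc) Y') ⊔ fx (MU hc) (RR 𝒴) := by
      rw [e]
      refine AddSubgroup.add_mem_sup ?_ hcc
      have h3 : (⨆ Y ∈ 𝒴, cm (MU hc) Y) ≤ ⨆ Y' ∈ h𝒴.toFinset, cm (MU hc) Y' :=
        iSup₂_le fun Y hY => le_iSup₂_of_le Y (h𝒴.mem_toFinset.2 hY) le_rfl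
      exact h3 ha
    have h3 := tw_le f d hS2 syl (fun Y hY => h𝒴.mem_toFinset.1 hY) h2 h1
    have h4 : (⨆ Y' ∈ h𝒴.toFinset, tw (MU hc) D ⊓ cm (MU hc) Y') ⊔ fx (MU hc) (RR 𝒴) ≤ ad hc (⨆ i, U i) := by
      refine sup_le (iSup₂_le fun Y hY w hw => ?_) fun w hw => ?_
      · exact le_iSup U (some ⟨Y, h𝒴.mem_toFinset.1 hY⟩) ⟨w, hw, rfl⟩
      · exact le_iSup U none ⟨w, hw, rfl⟩
    exact h4 h3
  · -- comm
    intro s hs v hv
    rw [mem_centralizer_iff]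
    intro t ht
    exact (mem_centralizer_iff.1 ht.2 _ (((hV' v).1 hv).2 s hs)).symm
  · -- free
    rintro (_ | Y) s hs hsU _ ⟨w, hw, rfl⟩ hsv
    · exact hfxc w fun t ht => hw t ht.2
    · have hsD := ((hS₁D ⟨s, hS₁H hs⟩).1 hs).2
      refine hfxc w ((exists_blk f d hS2 syl Y.2).1 _ hsD ?_ w hw ((pr_smul_eq_iff' h).2 hsv))
      by_contra hcon
      push Not at hcon
      exact hsU ((hcent (some Y) ⟨s, hS₁H hs⟩).2 hcon)
  · -- big
    rintro (_ | Y)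
    · have h1 : (centralizer (U none : Set G)).relIndex S₁ = 1 := by
        refine relIndex_eq_one.2 fun s hs => ?_
        refine (hcent none ⟨s, hS₁H hs⟩).2 fun w hw => ?_
        exact hw _ ((hS₁D ⟨s, hS₁H hs⟩).1 hs).2.2
      rw [h1, one_pow]
      exact rel_pos _ _
    · obtain ⟨C, hC, hcard⟩ := (exists_blk f d hS2 syl Y.2).2
      have h1 : (centralizer (U (some Y) : Set G)).relIndex S₁ ≤ C.relIndex D := by
        refine relIndex_le_of_map (fun s => if hs : s ∈ H then pr h ⟨s, hs⟩ else 1) (fun s hs => ?_) ?_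
        · rw [dif_pos (hS₁H hs)]
          exact ((hS₁D ⟨s, hS₁H hs⟩).1 hs).2
        · intro s hs t ht hst
          rw [dif_pos (hS₁H hs), dif_pos (hS₁H ht), ← map_inv, ← map_mul] at hst
          exact (hcent (some Y) _).2 fun w hw => hC _ hst w hw
      have h2 : Nat.card (U (some Y)) = Nat.card ↥(tw (MU hc) D ⊓ cm (MU hc) (Y : Subgroup (XX h))) := by
        refine Nat.card_congr (Equiv.ofBijective (fun w : ↥(tw (MU hc) D ⊓ cm (MU hc) (Y : Subgroup (XX h))) =>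
          (⟨val w.1, w.1, w.2, rfl⟩ : U (some Y))) ⟨?_, ?_⟩).symm
        · intro w w' e
          have e' : val w.1 = val w'.1 := congrArg (fun x : U (some Y) => (x : G)) e
          exact Subtype.ext (val_inj e')
        · rintro ⟨_, w, hw, rfl⟩
          exact ⟨⟨w, hw⟩, rfl⟩
      have h3 : Nat.card ↥(centralizer (S₁ : Set G) ⊓ U (some Y)) =
          Nat.card ↥(tw (MU hc) D ⊓ cm (MU hc) (Y : Subgroup (XX h)) ⊓ fx (MU hc) D) := by
        refine Nat.card_congr (Equiv.ofBijective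
          (fun w : ↥(tw (MU hc) D ⊓ cm (MU hc) (Y : Subgroup (XX h)) ⊓ fx (MU hc) D) =>
          (⟨val w.1, hfxc _ w.2.2, w.1, w.2.1, rfl⟩ : ↥(centralizer (S₁ : Set G) ⊓ U (some Y)))) ⟨?_, ?_⟩).symm
        · intro w w' e
          have e' : val w.1 = val w'.1 :=
            congrArg (fun x : ↥(centralizer (S₁ : Set G) ⊓ U (some Y)) => (x : G)) e
          exact Subtype.ext (val_inj e')
        · rintro ⟨_, hw', w, hw, rfl⟩
          exact ⟨⟨w, hw, hcfx w hw'⟩, rfl⟩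
      have h4 := relIndex_mul_relIndex ⊥ (centralizer (S₁ : Set G) ⊓ U (some Y)) (U (some Y)) bot_le inf_le_right
      rw [relIndex_bot_left, relIndex_bot_left, inf_relIndex_right, h2, h3] at h4
      have h5 : 0 < Nat.card ↥(tw (MU hc) D ⊓ cm (MU hc) (Y : Subgroup (XX h)) ⊓ fx (MU hc) D) := Nat.card_pos
      refine Nat.le_of_mul_le_mul_left ?_ h5
      rw [h4]
      refine le_trans ?_ hcard
      rw [mul_comm]
      exact Nat.mul_le_mul_right _ (Nat.pow_le_pow_left h1 2)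

/-- **The good sets for the flag `(S₁, Z₁, V₍₂₎)`.** -/
theorem exists_goodAt (f : Fam (MU hc) N 𝒴) (d : Dec (MU hc) 𝒴) (hS : IsPGroup 2 S) (SH : S ≤ H)
    (SN : im h S ≤ N) (syl : ¬ 2 ∣ (im h S).relIndex N)
    (hZ₁ : ∀ v : G, v ∈ Z₁ ↔ v ∈ V ∧ ∀ s : H, (s : G) ∈ S → pr h s ∈ RR 𝒴 → (s : G) * v = v * s)
    (hV' : ∀ v : G, v ∈ V' ↔ v ∈ V ∧ ∀ s ∈ S ⊓ centralizer (Z₁ : Set G), s * v * s⁻¹ * v⁻¹ ∈ Z₁)
    (E : Subgroup G) (hE : ClosedPt.Clo (S ⊓ centralizer (Z₁ : Set G)) Z₁ V' E) (hne : E ≠ V') :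
    ∃ lam T₀, ClosedPt.GoodAt (S ⊓ centralizer (Z₁ : Set G) ⊓ centralizer (E : Set G)) V' E lam T₀ := by
  obtain ⟨U, hU⟩ := exists_blkAct f d hS SH SN syl hZ₁ hV'
  exact hU.exists_good hE.DV hne hE.clo

end group

end Cfsg.Agent.Omega.NO3b.BasePt.VTwo
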