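import Cfsg.Agent.Omega.NO3b.Exit.DescBlk

/-!
# END5 (#23013), the block lemma: the stabilisers of two different points generate

`Y` acts irreducibly on the finite additive group `A` of exponent 2, `K = End_Y(A)`, and `Y` induces all
`K`-transvections of `A`.  If `X ≤ Y` contains `C_Y(n)` and `C_Y(n')`, `n'` not a multiple of `n ≠ 0`, then `X = Y`.
-/

set_option autoImplicit false

namespace Cfsg.Agent.Omega.NO3b.BasePt.TwoPts

open Subgroup Cfsg.Agent.Omega.NO3b.Exit.Ten
open Cfsg.Agent.Omega.NO3b.Exit.Descent (AllTv)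

universe u v

variable {Y : Type u} {A : Type v} [Group Y] [AddCommGroup A] [DistribMulAction Y A] [Finite A] [hI : IsIrr Y A]

/-- a functional with given values on two independent vectors -/
theorem exists_dual {n m : A} (hn : n ≠ 0) (hm : ∀ κ : KK Y A, m ≠ κ • n) (c d : KK Y A) :
    ∃ φ : Module.Dual (KK Y A) A, φ n = c ∧ φ m = d := by
  have h1 : m ∉ Submodule.span (KK Y A) ({n} : Set A) := by
    intro h
    obtain ⟨κ, hκ⟩ := Submodule.mem_span_singleton.1 h
    exact hm κ hκ.symm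
  have h2 : n ∉ Submodule.span (KK Y A) ({m} : Set A) := by
    intro h
    obtain ⟨κ, hκ⟩ := Submodule.mem_span_singleton.1 h
    have h0 : κ ≠ 0 := by
      rintro rfl
      rw [zero_smul] at hκ
      exact hn hκ.symm
    apply hm κ⁻¹
    rw [← hκ, smul_smul, inv_mul_cancel₀ h0, one_smul]
  obtain ⟨α, hα1, hα2⟩ := Submodule.exists_dual_map_eq_bot_of_notMem h1 inferInstance
  obtain ⟨β, hβ1, hβ2⟩ := Submodule.exists_dual_map_eq_bot_of_notMem h2 inferInstance
  have hαn : α n = 0 := by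
    have h : α n ∈ (Submodule.span (KK Y A) ({n} : Set A)).map α := ⟨n, Submodule.mem_span_singleton_self n, rfl⟩
    rw [hα2, Submodule.mem_bot] at h
    exact h
  have hβm : β m = 0 := by
    have h : β m ∈ (Submodule.span (KK Y A) ({m} : Set A)).map β := ⟨m, Submodule.mem_span_singleton_self m, rfl⟩
    rw [hβ2, Submodule.mem_bot] at h
    exact h
  refine ⟨(c * (β n)⁻¹) • β + (d * (α m)⁻¹) • α, ?_, ?_⟩
  · rw [LinearMap.add_apply, LinearMap.smul_apply, LinearMap.smul_apply, hαn, smul_zero, add_zero, smul_eq_mul,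
      mul_assoc, inv_mul_cancel₀ hβ1, mul_one]
  · rw [LinearMap.add_apply, LinearMap.smul_apply, LinearMap.smul_apply, hβm, smul_zero, zero_add, smul_eq_mul,
      mul_assoc, inv_mul_cancel₀ hα1, mul_one]

/-- `Y` is transitive on pairs `u, v` of independent vectors by transvections -/
theorem trans_indep {X : Subgroup Y} (hX : ∀ (t : Y) (φ : Module.Dual (KK Y A) A) (a : A), φ a = 0 →
    (∀ x : A, t • x = x + φ x • a) → t ∈ X) (htv : AllTv Y A) {u v : A} (hu : u ≠ 0)
    (hv : ∀ κ : KK Y A, v ≠ κ • u) : ∃ t ∈ X, t • u = v := by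
  obtain ⟨φ, h1, h2⟩ := exists_dual hu hv 1 1
  have h3 : φ (v - u) = 0 := by rw [map_sub, h1, h2, sub_self]
  obtain ⟨t, ht⟩ := htv φ (v - u) h3
  refine ⟨t, hX t φ _ h3 ht, ?_⟩
  rw [ht, h1, one_smul]
  abel

/-- a subgroup containing all transvections is transitive on the nonzero vectors, if `dim A ≥ 2` -/
theorem trans_ne {X : Subgroup Y} (hX : ∀ (t : Y) (φ : Module.Dual (KK Y A) A) (a : A), φ a = 0 →
    (∀ x : A, t • x = x + φ x • a) → t ∈ X) (htv : AllTv Y A) {n n' : A} (hn : n ≠ 0)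
    (hn' : ∀ κ : KK Y A, n' ≠ κ • n) {u v : A} (hu : u ≠ 0) (hv : v ≠ 0) : ∃ t ∈ X, t • u = v := by
  by_cases h1 : ∀ κ : KK Y A, v ≠ κ • u
  · exact trans_indep hX htv hu h1
  · push Not at h1
    obtain ⟨κ, rfl⟩ := h1
    have hκ : κ ≠ 0 := by
      rintro rfl
      exact hv (zero_smul _ _)
    -- a vector independent of `u`
    have h2 : ∃ w : A, ∀ κ : KK Y A, w ≠ κ • u := by
      by_contra hcon
      push Not at hcon
      obtain ⟨a, ha⟩ := hcon n
      obtain ⟨b, hb⟩ := hcon n'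
      have ha0 : a ≠ 0 := by
        rintro rfl
        exact hn (by rw [ha, zero_smul])
      apply hn' (b * a⁻¹)
      rw [ha, smul_smul, mul_assoc, inv_mul_cancel₀ ha0, mul_one, ← hb]
    obtain ⟨w, hw⟩ := h2
    have hw0 : w ≠ 0 := by
      rintro rfl
      exact hw 0 (by rw [zero_smul])
    obtain ⟨t, ht, htu⟩ := trans_indep hX htv hu hw
    obtain ⟨s, hs, hsw⟩ := trans_indep (v := κ • u) hX htv hw0 (fun c hc => by
      have hc0 : c ≠ 0 := by
        rintro rfl
        rw [zero_smul] at hc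
        exact hv hc
      apply hw (c⁻¹ * κ)
      rw [mul_smul, hc, smul_smul, inv_mul_cancel₀ hc0, one_smul])
    exact ⟨s * t, X.mul_mem hs ht, by rw [mul_smul, htu, hsw]⟩

/-- **The stabilisers of two different points generate `Y`.** -/
theorem eq_top (htv : AllTv Y A) {X : Subgroup Y} {n n' : A} (hn : n ≠ 0) (hn' : ∀ κ : KK Y A, n' ≠ κ • n)
    (h1 : ∀ y : Y, y • n = n → y ∈ X) (h2 : ∀ y : Y, y • n' = n' → y ∈ X) : X = ⊤ := by
  -- all transvections are in `X`
  have hX : ∀ (t : Y) (φ : Module.Dual (KK Y A) A) (a : A), φ a = 0 →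
      (∀ x : A, t • x = x + φ x • a) → t ∈ X := by
    intro t φ a ha ht
    by_cases hφn : φ n = 0
    · apply h1
      rw [ht, hφn, zero_smul, add_zero]
    · obtain ⟨ψ, hψ1, hψ2⟩ := exists_dual hn hn' 0 (-(φ n' * (φ n)⁻¹))
      obtain ⟨g, hg⟩ := htv ψ n hψ1
      have hgn : g • n = n := by rw [hg, hψ1, zero_smul, add_zero]
      have hgX := h1 g hgn
      have hφg : φ (g • n') = 0 := by
        rw [hg, hψ2, map_add, map_smul, smul_eq_mul, neg_mul, mul_assoc, inv_mul_cancel₀ hφn, mul_one, add_neg_cancel]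
      have h3 : g⁻¹ * t * g ∈ X := by
        apply h2
        rw [mul_smul, mul_smul, ht, hφg, zero_smul, add_zero, inv_smul_smul]
      have h4 := X.mul_mem (X.mul_mem hgX h3) (X.inv_mem hgX)
      have e : g * (g⁻¹ * t * g) * g⁻¹ = t := by group
      rwa [e] at h4
  rw [eq_top_iff]
  intro y _
  have hy0 : y • n ≠ 0 := fun h => hn (by rwa [smul_eq_zero_iff_eq] at h)
  obtain ⟨t, ht, htn⟩ := trans_ne hX htv hn hn' hn hy0
  have h3 : t⁻¹ * y ∈ X := by
    apply h1
    rw [mul_smul, ← htn, inv_smul_smul]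
  have h4 := X.mul_mem ht h3
  rwa [mul_inv_cancel_left] at h4

end Cfsg.Agent.Omega.NO3b.BasePt.TwoPts
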