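import Cfsg.Agent.Omega.NO3b.BasePt.Def
import Cfsg.Agent.Omega.NO3b.BasePt.TwoPts

/-!
# END5 (#23013) (2): a group moving `Z₁ = C_W(T ∩ RR)` and containing `C_RR(Z₁)` contains `RR`

`Fam W M 𝒴` (helper957), `W = ⟨[W, Y]⟩ + C_W(RR)`, `T` a 2-group of odd index in every `Y ∈ 𝒴` (mod nothing:
`T ∩ Y` is a Sylow 2-subgroup of `Y`), transitive on `𝒴`, `T ≤ X`, `C_RR(Z₁) ≤ X`, some `x ∈ X ∩ RR` moves `Z₁`:
then `RR ≤ X` (`le_of_move`).
-/

set_option autoImplicit false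

namespace Cfsg.Agent.Omega.NO3b.BasePt.MoveTop

open Subgroup
open Cfsg.Agent.Omega.NO3b.Exit Cfsg.Agent.Omega.NO3b.Exit.Ten Cfsg.Agent.Omega.NO3b.Exit.Descent
open Cfsg.Agent.Omega.FF.Basic (fx)

universe u v

variable {Γ : Type u} [Group Γ] {W : Type v} [AddCommGroup W] [DistribMulAction Γ W] {M : Subgroup Γ}
  {𝒴 : Set (Subgroup Γ)}

theorem mem_fx' {A : Subgroup Γ} {w : W} : w ∈ fx W A ↔ ∀ a ∈ A, a • w = w := Iff.rfl

theorem br_mem {Y : Subgroup Γ} {y : Γ} (hy : y ∈ Y) (w : W) : y • w - w ∈ cm W Y :=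
  AddSubgroup.subset_closure ⟨y, hy, w, rfl⟩

theorem smul_cm {Y : Subgroup Γ} {y : Γ} (hy : y ∈ Y) {w : W} (hw : w ∈ cm W Y) : y • w ∈ cm W Y := by
  have h := (cm W Y).add_mem (br_mem hy w) hw
  rwa [sub_add_cancel] at h

/-- the sum of the `[W, Y]` -/
def sm' (W : Type v) [AddCommGroup W] [DistribMulAction Γ W] (𝒴 : Set (Subgroup Γ)) : AddSubgroup W :=
  AddSubgroup.closure {v | ∃ Y ∈ 𝒴, v ∈ cm W Y}

variable (Fa : Fam W M 𝒴)
include Fa

/-- `RR` acts on `[W, Y]` as `Y` does -/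
theorem act_RR {Y : Subgroup Γ} (hY : Y ∈ 𝒴) {r : Γ} (hr : r ∈ RR 𝒴) : ∃ y ∈ Y, ∀ v ∈ cm W Y, r • v = y • v := by
  let N : Subgroup Γ :=
    { carrier := {r | ∃ y ∈ Y, ∀ v ∈ cm W Y, r • v = y • v}
      one_mem' := ⟨1, Y.one_mem, fun _ _ => rfl⟩
      mul_mem' := by
        rintro a b ⟨y, hy, h1⟩ ⟨y', hy', h2⟩
        refine ⟨y * y', Y.mul_mem hy hy', fun v hv => ?_⟩
        rw [mul_smul, mul_smul, h2 v hv, h1 _ (smul_cm hy' hv)]
      inv_mem' := by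
        rintro a ⟨y, hy, h1⟩
        refine ⟨y⁻¹, Y.inv_mem hy, fun v hv => ?_⟩
        rw [inv_smul_eq_iff, h1 _ (smul_cm (Y.inv_mem hy) hv), smul_inv_smul] }
  have h : RR 𝒴 ≤ N := by
    refine sSup_le fun Y' hY' y' hy' => ?_
    by_cases e : Y' = Y
    · subst e
      exact ⟨y', hy', fun _ _ => rfl⟩
    · exact ⟨1, Y.one_mem, fun v hv => by rw [one_smul]; exact Fa.triv Y' hY' Y hY e y' hy' v hv⟩
  exact h hr

/-- `RR` normalises `C_W(Y)` -/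
theorem smul_fx {Y : Subgroup Γ} (hY : Y ∈ 𝒴) {r : Γ} (hr : r ∈ RR 𝒴) {c : W} (hc : c ∈ fx W Y) :
    r • c ∈ fx W Y := by
  let N : Subgroup Γ :=
    { carrier := {r | ∀ c ∈ fx W Y, r • c ∈ fx W Y ∧ r⁻¹ • c ∈ fx W Y}
      one_mem' := fun c hc => by rw [inv_one, one_smul]; exact ⟨hc, hc⟩
      mul_mem' := by
        intro a b ha hb c hc
        rw [mul_smul, mul_inv_rev, mul_smul]
        exact ⟨(ha _ (hb c hc).1).1, (hb _ (ha c hc).2).2⟩
      inv_mem' := by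
        intro a ha c hc
        rw [inv_inv]
        exact ⟨(ha c hc).2, (ha c hc).1⟩ }
  have key : ∀ Y' ∈ 𝒴, ∀ y' ∈ Y', ∀ c ∈ fx W Y, y' • c ∈ fx W Y := by
    intro Y' hY' y' hy' c hc
    by_cases e : Y' = Y
    · subst e
      rw [hc y' hy']
      exact hc
    · have e1 : y' • c = (y' • c - c) + c := by abel
      rw [e1]
      refine (fx W Y).add_mem (fun y hy => ?_) hc
      exact Fa.triv Y hY Y' hY' (fun h => e h.symm) y hy _ (br_mem hy' c)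
  have h : RR 𝒴 ≤ N := sSup_le fun Y' hY' y' hy' c hc => ⟨key Y' hY' y' hy' c hc, key Y' hY' _ (Y'.inv_mem hy') c hc⟩
  exact (h hr c hc).1

omit Fa in
theorem br_sm {r : Γ} (hr : r ∈ RR 𝒴) (w : W) : r • w - w ∈ sm' W 𝒴 := by
  let N : Subgroup Γ :=
    { carrier := {r | ∀ w : W, r • w - w ∈ sm' W 𝒴}
      one_mem' := fun w => by rw [one_smul, sub_self]; exact zero_mem _
      mul_mem' := by
        intro a b ha hb w
        have e : (a * b) • w - w = (a • b • w - b • w) + (b • w - w) := by rw [mul_smul]; abel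
        rw [e]
        exact add_mem (ha _) (hb _)
      inv_mem' := by
        intro a ha w
        have h1 := ha (a⁻¹ • w)
        rw [smul_inv_smul] at h1
        have h2 := neg_mem h1
        rwa [neg_sub] at h2 }
  have h : RR 𝒴 ≤ N := by
    refine sSup_le fun Y' hY' y' hy' w => ?_
    exact AddSubgroup.subset_closure ⟨Y', hY', br_mem hy' w⟩
  exact h hr w

theorem sm_le {Y : Subgroup Γ} (hY : Y ∈ 𝒴) : sm' W 𝒴 ≤ cm W Y ⊔ fx W Y := by
  refine (AddSubgroup.closure_le _).2 ?_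
  rintro v ⟨Y', hY', hv⟩
  by_cases e : Y' = Y
  · subst e
    exact AddSubgroup.mem_sup_left hv
  · exact AddSubgroup.mem_sup_right fun y hy => Fa.triv Y hY Y' hY' (fun h => e h.symm) y hy v hv

variable (gas : ∀ w : W, ∃ a ∈ sm' W 𝒴, ∃ c : W, (∀ r ∈ RR 𝒴, r • c = c) ∧ w = a + c)
include gas

theorem dec {Y : Subgroup Γ} (hY : Y ∈ 𝒴) (w : W) : ∃ a ∈ cm W Y, ∃ c ∈ fx W Y, w = a + c := by
  obtain ⟨a, ha, c, hc, rfl⟩ := gas w
  obtain ⟨a', ha', c', hc', rfl⟩ := AddSubgroup.mem_sup.1 (sm_le Fa hY ha)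
  refine ⟨a', ha', c' + c, (fx W Y).add_mem hc' fun y hy => hc y (le_sSup hY hy), ?_⟩
  rw [add_assoc]

omit gas in
/-- `[W, Y] ∩ C_W(Y) = 0` -/
theorem eq_zero [Finite W] {Y : Subgroup Γ} (hY : Y ∈ 𝒴) {v : W} (hv : v ∈ cm W Y) (hv' : v ∈ fx W Y) : v = 0 := by
  obtain ⟨A, _, _, _, hI, htv, two, himg, hA2, -⟩ := (Fa.blk Y hY).ex
  rw [himg] at hv
  obtain ⟨d, f, hf, hco⟩ := exists_coord (Y := Y) (A := A) (U := W)
  obtain ⟨a, rfl⟩ := hco v hv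
  have h1 : ∀ (y : Y) (i : Fin d), y • a i = a i := by
    intro y i
    have h2 := hv' y y.2
    rw [Finset.smul_sum] at h2
    have h3 := HomY.ind hf Finset.univ (fun i => y • a i - a i) (by
      rw [← sub_eq_zero.2 h2, ← Finset.sum_sub_distrib]
      exact Finset.sum_congr rfl fun i _ => by rw [map_sub, (f i).2]; rfl) i (Finset.mem_univ _)
    exact sub_eq_zero.1 h3
  have h4 : ∀ i, a i = 0 := by
    intro i
    by_contra hne
    -- a vector independent of `a i`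
    have h5 : ∃ w : A, ∀ κ : KK Y A, w ≠ κ • a i := by
      by_contra hcon
      push Not at hcon
      have h6 : Module.finrank (KK Y A) A ≤ 1 := by
        refine finrank_le_one (a i) fun w => ?_
        obtain ⟨κ, hκ⟩ := hcon w
        exact ⟨κ, hκ.symm⟩
      omega
    obtain ⟨w, hw⟩ := h5
    obtain ⟨φ, h6, h7⟩ := TwoPts.exists_dual hne hw 1 1
    obtain ⟨y, hy⟩ := htv φ (w - a i) (by rw [map_sub, h6, h7, sub_self])
    have h8 := h1 y i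
    rw [hy, h6, one_smul] at h8
    apply hw 1
    rw [one_smul]
    have h9 : w - a i = 0 := by
      have h10 : a i + (w - a i) = a i + 0 := by rw [h8, add_zero]
      exact add_left_cancel h10
    exact sub_eq_zero.1 h9
  exact Finset.sum_eq_zero fun i _ => by rw [h4, map_zero]

omit gas in
/-- `⟨[W, Y]⟩ ∩ ⋂ C_W(Y) = 0` -/
theorem sm_eq_zero [Finite W] {a : W} (ha : a ∈ sm' W 𝒴) (h : ∀ Y ∈ 𝒴, a ∈ fx W Y) : a = 0 := by
  classical
  have hrep : ∀ a ∈ sm' W 𝒴, ∃ (s : Finset (Subgroup Γ)) (g : Subgroup Γ → W),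
      (∀ Y ∈ s, Y ∈ 𝒴 ∧ g Y ∈ cm W Y) ∧ a = ∑ Y ∈ s, g Y := by
    intro a ha
    induction ha using AddSubgroup.closure_induction with
    | mem x hx =>
      obtain ⟨Y, hY, hx⟩ := hx
      exact ⟨{Y}, fun _ => x, fun Z hZ => by rw [Finset.mem_singleton.1 hZ]; exact ⟨hY, hx⟩, by simp⟩
    | zero => exact ⟨∅, fun _ => 0, fun Z hZ => by simp at hZ, by simp⟩
    | add x y _ _ hx hy =>
      obtain ⟨s, g, h1, rfl⟩ := hx
      obtain ⟨s', g', h2, rfl⟩ := hy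
      refine ⟨s ∪ s', fun Y => (if Y ∈ s then g Y else 0) + (if Y ∈ s' then g' Y else 0), fun Y hY => ?_, ?_⟩
      · have hY' : Y ∈ 𝒴 := by
          rcases Finset.mem_union.1 hY with h3 | h3
          · exact (h1 Y h3).1
          · exact (h2 Y h3).1
        refine ⟨hY', add_mem ?_ ?_⟩
        · split_ifs with h3
          · exact (h1 Y h3).2
          · exact zero_mem _
        · split_ifs with h3
          · exact (h2 Y h3).2
          · exact zero_mem _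
      · rw [Finset.sum_add_distrib]
        congr 1
        · rw [Finset.sum_ite_mem, Finset.inter_eq_right.2 Finset.subset_union_left]
        · rw [Finset.sum_ite_mem, Finset.inter_eq_right.2 Finset.subset_union_right]
    | neg x _ hx =>
      obtain ⟨s, g, h1, rfl⟩ := hx
      exact ⟨s, fun Y => - g Y, fun Y hY => ⟨(h1 Y hY).1, neg_mem (h1 Y hY).2⟩, by rw [Finset.sum_neg_distrib]⟩
  obtain ⟨s, g, h1, rfl⟩ := hrep a ha
  refine Finset.sum_eq_zero fun Y hY => ?_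
  refine eq_zero Fa (h1 Y hY).1 (h1 Y hY).2 ?_
  have h2 : ∑ Z ∈ s.erase Y, g Z ∈ fx W Y := by
    refine AddSubgroup.sum_mem _ fun Z hZ => ?_
    obtain ⟨hZ1, hZ2⟩ := Finset.mem_erase.1 hZ
    exact fun y hy => Fa.triv Y (h1 Y hY).1 Z (h1 Z hZ2).1 (fun e => hZ1 e.symm) y hy _ (h1 Z hZ2).2
  have h3 := (fx W Y).sub_mem (h Y (h1 Y hY).1) h2
  rwa [← Finset.add_sum_erase s g hY, add_sub_cancel_right] at h3

/-- **One block.** -/
theorem dich [Finite W] {T X : Subgroup Γ} (hT2 : IsPGroup 2 T) {Y : Subgroup Γ} (hY : Y ∈ 𝒴)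
    (odd : ¬ 2 ∣ T.relIndex Y) (hCX : ∀ r ∈ RR 𝒴, (∀ z ∈ fx W (T ⊓ RR 𝒴), r • z = z) → r ∈ X)
    {x : Γ} (hxX : x ∈ X) (hxR : x ∈ RR 𝒴) :
    Y ≤ X ∨ ∀ z ∈ fx W (T ⊓ RR 𝒴), ∀ d ∈ T ⊓ RR 𝒴, d • x • z - x • z ∈ fx W Y := by
  obtain ⟨A, _, _, _, hI, htv, two, himg, hA2, hE2⟩ := (Fa.blk Y hY).ex
  have hYR : Y ≤ RR 𝒴 := le_sSup hY
  -- a nonzero homomorphism
  have hf0 : ∃ f : HomY Y A W, f ≠ 0 := by
    by_contra hcon
    push Not at hcon
    have : Subsingleton (HomY Y A W) := ⟨fun f g => by rw [hcon f, hcon g]⟩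
    rw [Module.finrank_zero_of_subsingleton] at hE2
    omega
  obtain ⟨f₀, hf₀⟩ := hf0
  have hinj := HomY.inj hf₀
  have hfc : ∀ (f : HomY Y A W) (a : A), (f : A →+ W) a ∈ cm W Y := fun f a => by
    rw [himg]; exact mem_img f a
  -- the point
  obtain ⟨z₀, ⟨n, rfl⟩, hz0, hz⟩ := exists_fix (S := T ⊓ RR 𝒴) (A := (f₀ : A →+ W).range) (hT2.to_le inf_le_left)
    Fa.two (by
      rintro s hs _ ⟨a, rfl⟩
      obtain ⟨y, hy, h1⟩ := act_RR Fa hY hs.2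
      rw [h1 _ (hfc f₀ a)]
      exact ⟨(⟨y, hy⟩ : Y) • a, f₀.2 _ _⟩) (by
      intro e
      apply hf₀
      apply Subtype.ext
      ext a
      have h1 : (f₀ : A →+ W) a ∈ (f₀ : A →+ W).range := ⟨a, rfl⟩
      rw [e] at h1
      exact h1)
  have hn0 : n ≠ 0 := by
    rintro rfl
    exact hz0 (map_zero _)
  have hfn : ∀ d ∈ T ⊓ RR 𝒴, ∀ y : Y, (∀ v ∈ cm W Y, d • v = (y : Γ) • v) → y • n = n := by
    intro d hd y hy
    apply hinj
    rw [f₀.2]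
    change (y : Γ) • (f₀ : A →+ W) n = _
    rw [← hy _ (hfc f₀ n), hz d hd]
  have hTn : ∀ t ∈ T.subgroupOf Y, t • n = n := fun t ht => hfn t ⟨ht, hYR t.2⟩ t fun _ _ => rfl
  -- the elements of `Z₁`
  have hZ : ∀ z ∈ fx W (T ⊓ RR 𝒴), ∃ (f : HomY Y A W) (c : W), c ∈ fx W Y ∧ z = (f : A →+ W) n + c := by
    intro z hz1
    obtain ⟨a, ha, c, hc, rfl⟩ := dec Fa gas hY z
    have h1 : ∀ t ∈ T.subgroupOf Y, t • a = a := by
      intro t ht
      have h2 := hz1 t ⟨ht, hYR t.2⟩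
      rw [smul_add, hc t t.2] at h2
      exact add_right_cancel h2
    obtain ⟨f, hf⟩ := exists_of_fix htv two odd hn0 hTn (himg ▸ ha) h1
    exact ⟨f, c, hc, by rw [hf]⟩
  -- `C_Y(n) ≤ X`
  have hC : ∀ y : Y, y • n = n → (y : Γ) ∈ X := by
    intro y hy
    refine hCX y (hYR y.2) fun z hz1 => ?_
    obtain ⟨f, c, hc, rfl⟩ := hZ z hz1
    rw [smul_add, hc y y.2]
    have h1 : (f : A →+ W) (y • n) = (y : Γ) • (f : A →+ W) n := f.2 y n
    rw [← h1, hy]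
  obtain ⟨yx, hyx, hx⟩ := act_RR Fa hY hxR
  by_cases hκ : ∀ κ : KK Y A, (⟨yx, hyx⟩ : Y) • n ≠ κ • n
  · left
    have h1 : X.subgroupOf Y = ⊤ := by
      refine TwoPts.eq_top htv hn0 hκ hC fun y hy => ?_
      have h2 : (⟨yx, hyx⟩ : Y)⁻¹ * y * ⟨yx, hyx⟩ ∈ X.subgroupOf Y := by
        refine mem_subgroupOf.2 (hC _ ?_)
        rw [mul_smul, mul_smul, hy, inv_smul_smul]
      have h3 : (y : Γ) = x * (yx⁻¹ * y * yx) * x⁻¹ := by
        have h4 : ∀ w : W, (x * (yx⁻¹ * y * yx) * x⁻¹) • w = (y : Γ) • w := by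
          intro w
          obtain ⟨a, ha, c, hc, rfl⟩ := dec Fa gas hY w
          have h5 : x⁻¹ • a = yx⁻¹ • a := by
            rw [inv_smul_eq_iff, hx _ (smul_cm (Y.inv_mem hyx) ha), smul_inv_smul]
          have h6 : x⁻¹ • c ∈ fx W Y := smul_fx Fa hY ((RR 𝒴).inv_mem hxR) hc
          have h7 : (yx⁻¹ * y * yx) • x⁻¹ • c = x⁻¹ • c :=
            h6 _ (Y.mul_mem (Y.mul_mem (Y.inv_mem hyx) y.2) hyx)
          have h8 : (yx⁻¹ * y * yx) • x⁻¹ • a = yx⁻¹ • (y : Γ) • a := by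
            rw [h5, mul_smul, mul_smul, smul_inv_smul]
          have h9 : ∀ (k : Γ) (w : W), (x * k * x⁻¹) • w = x • k • x⁻¹ • w := fun k w => by
            rw [mul_smul, mul_smul]
          rw [smul_add, smul_add, hc y y.2, h9, h9, h7, smul_inv_smul, h8,
            hx _ (smul_cm (Y.inv_mem hyx) (smul_cm y.2 ha)), smul_inv_smul]
        have h5 := Fa.faith ((y : Γ)⁻¹ * (x * (yx⁻¹ * y * yx) * x⁻¹)) fun w => by
          rw [mul_smul, h4, inv_smul_smul]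
        exact (inv_mul_eq_one.1 h5)
      rw [mem_subgroupOf, h3]
      exact X.mul_mem (X.mul_mem hxX h2) (X.inv_mem hxX)
    intro y hy
    have : (⟨y, hy⟩ : Y) ∈ X.subgroupOf Y := by rw [h1]; trivial
    exact this
  · right
    push Not at hκ
    obtain ⟨κ, hκ⟩ := hκ
    intro z hz1 d hd
    obtain ⟨f, c, hc, rfl⟩ := hZ z hz1
    obtain ⟨yd, hyd, hd'⟩ := act_RR Fa hY hd.2
    have h1 : x • (f : A →+ W) n = ((κ • f : HomY Y A W) : A →+ W) n := by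
      rw [hx _ (hfc f n), HomY.smul_apply, ← hκ]
      exact (f.2 (⟨yx, hyx⟩ : Y) n).symm
    have h2 : d • ((κ • f : HomY Y A W) : A →+ W) n = ((κ • f : HomY Y A W) : A →+ W) n := by
      rw [hd' _ (hfc _ n)]
      have h3 := hfn d hd ⟨yd, hyd⟩ hd'
      conv_rhs => rw [← h3]
      exact ((κ • f : HomY Y A W).2 (⟨yd, hyd⟩ : Y) n).symm
    have h3 : x • c ∈ fx W Y := smul_fx Fa hY hxR hc
    have h4 : d • x • c ∈ fx W Y := smul_fx Fa hY hd.2 h3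
    have e : d • x • ((f : A →+ W) n + c) - x • ((f : A →+ W) n + c) = d • x • c - x • c := by
      rw [smul_add, smul_add, h1, h2]
      abel
    rw [e]
    exact (fx W Y).sub_mem h4 h3

/-- **(2) of END5.** -/
theorem le_of_move [Finite W] {T X : Subgroup Γ} (hT2 : IsPGroup 2 T)
    (odd : ∀ Y ∈ 𝒴, ¬ 2 ∣ T.relIndex Y) (hTX : T ≤ X)
    (tr : ∀ Y ∈ 𝒴, ∀ Y' ∈ 𝒴, ∃ t ∈ T, Y.map (MulAut.conj t).toMonoidHom = Y')
    (hCX : ∀ r ∈ RR 𝒴, (∀ z ∈ fx W (T ⊓ RR 𝒴), r • z = z) → r ∈ X)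
    {x : Γ} (hxX : x ∈ X) (hxR : x ∈ RR 𝒴) {z : W} (hz : z ∈ fx W (T ⊓ RR 𝒴))
    (hxz : x • z ∉ fx W (T ⊓ RR 𝒴)) : RR 𝒴 ≤ X := by
  by_cases hex : ∃ Y ∈ 𝒴, Y ≤ X
  · obtain ⟨Y, hY, hYX⟩ := hex
    refine sSup_le fun Y' hY' => ?_
    obtain ⟨t, ht, rfl⟩ := tr Y hY Y' hY'
    rintro _ ⟨y, hy, rfl⟩
    exact X.mul_mem (X.mul_mem (hTX ht) (hYX hy)) (X.inv_mem (hTX ht))
  · exfalso
    apply hxz
    intro d hd
    rw [← sub_eq_zero]
    refine sm_eq_zero Fa (br_sm hd.2 _) fun Y hY => ?_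
    rcases dich Fa gas hT2 hY (odd Y hY) hCX hxX hxR with h | h
    · exact absurd ⟨Y, hY, h⟩ hex
    · exact h z hz d hd

end Cfsg.Agent.Omega.NO3b.BasePt.MoveTop
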