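import Cfsg.Agent.Omega.NO3b.BasePt.End
import Cfsg.Agent.Omega.NO3b.BasePt.Pre
import Cfsg.Agent.Omega.NO3b.BasePt.Fld
import Cfsg.Agent.Omega.NO3b.BasePt.NodeOne
import Cfsg.Agent.Omega.NO3b.BasePt.VTwo
import Cfsg.Agent.Omega.NO3b.Base.MoveInst
import Cfsg.Agent.Omega.NOThreeL.EndFiveKey

/-!
# NotFFG (3L-T): the assembly at the base point, from the family of blocks

`Lines S B V`, `C_S(V) = B`, `N_G(B) ≤ H ≤ N_G(V)`, `Fa : Fam (MU hc) (im h (N_G B)) 𝒴`, every panel over `Z` is a flat of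
a block, LEMMA OZ, `M ≤ N_G(B)` generated by members of `P*(S)`, `⟨M, C_G(Z)⟩` nonlocal; `R = RG h B 𝒴`.

* `Gas`, `dec_of_gas`, `hsp_of_gas`, `gas_of_hsp` : the forms of `W = Σ [W, Y] + C_W(RR)`;
* `e2_of_fam` : `P ≤ N_G(V₂)` (helper383's `node_one`); `good_of_fam` (helper556); `bp_of_fam` (helper826, 255);
* **`baseDat_of_fam`**, **`baseFlag_of_fam`** : `BaseFlag (S ∩ R) Z₁ V₂ N_G(V₂)`;
* `exists_baseFlag_of_locG` : for `LocG`; `ExistsFam`, `basePoint_of : ExistsFam → BasePoint`.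
-/

set_option autoImplicit false
set_option linter.unusedSectionVars false

namespace Cfsg.Agent.Omega.NO3b.BasePt

open Subgroup Cfsg
open Cfsg.Agent.ZN (o2 zc zl)
open Cfsg.Agent.ZN.ChoiceBase hiding mem_zc
open Cfsg.Agent.ZN.ChoiceSit (Syl o2_le_syl syl_not_dvd)
open Cfsg.Agent.MinSimple.EmptyTI (syl_of_le)
open Cfsg.Agent.MinSimple.VModule (le_centralizer_zc le_normalizer_zl zc_le_zl le_normalizer_o2 mem_zc)
open Cfsg.Agent.Omega.MinPar Cfsg.Agent.Omega.Frame Cfsg.Agent.Omega.FrameNOFF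
open Cfsg.Agent.Omega.NO3b.EZero (Par cl cent_symm)
open Cfsg.Agent.Omega.NO3b.Alpha (Fl)
open Cfsg.Agent.Omega.NO3b.Exit.Bridge
open Cfsg.Agent.Omega.FFBr (XX pr im mem_im pr_eq_one pr_surjective)
open Cfsg.Agent.Omega.FF.Basic (fx mem_fx)
open Cfsg.Agent.Omega.NO3b.ClosedPow (NN mem_NN)
open Cfsg.Agent.Omega.NO3b.Base (PanZ MPt)
open Cfsg.Agent.Omega.NOThreeL.Star (Opt)
open Cfsg.Agent.Omega.NOThreeL.EndFive (Zo)
open Cfsg.Agent.Omega.NOThreeL.EndFiveKey (RG)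
open scoped Pointwise

universe u v

section forms

variable {Γ : Type u} [Group Γ] {W : Type v} [AddCommGroup W] [DistribMulAction Γ W] {𝒴 : Set (Subgroup Γ)}

theorem sm_eq : sm W 𝒴 = ⨆ Y ∈ 𝒴, cm W Y := by
  apply le_antisymm
  · exact (AddSubgroup.closure_le _).2 (by
      rintro v ⟨Y, hY, hv⟩
      exact (le_iSup₂_of_le Y hY le_rfl : cm W Y ≤ ⨆ Y ∈ 𝒴, cm W Y) hv)
  · exact iSup₂_le fun Y hY => cm_le_sm hY

/-- `W = Σ [W, Y] + C_W(RR)` (helper255's form) -/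
def Gas (W : Type v) [AddCommGroup W] [DistribMulAction Γ W] (𝒴 : Set (Subgroup Γ)) : Prop :=
  ∀ w : W, ∃ a ∈ sm W 𝒴, ∃ c : W, (∀ r ∈ RR 𝒴, r • c = c) ∧ w = a + c

theorem Gas.dec (g : Gas W 𝒴) : PThree.Dec W 𝒴 := fun w => by
  obtain ⟨a, ha, c, hc, e⟩ := g w
  exact ⟨a, by rw [← sm_eq]; exact ha, c, hc, e⟩

theorem Gas.hsp (g : Gas W 𝒴) : (⨆ Y ∈ 𝒴, cm W Y) ⊔ fx W (RR 𝒴) = ⊤ := by
  rw [eq_top_iff]
  intro w _
  obtain ⟨a, ha, c, hc, rfl⟩ := g w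
  exact AddSubgroup.add_mem_sup (by rw [← sm_eq]; exact ha) hc

theorem Gas.of_hsp (g : (⨆ Y ∈ 𝒴, cm W Y) ⊔ fx W (RR 𝒴) = ⊤) : Gas W 𝒴 := fun w => by
  have h1 : w ∈ (⨆ Y ∈ 𝒴, cm W Y) ⊔ fx W (RR 𝒴) := by rw [g]; trivial
  obtain ⟨a, ha, c, hc, e⟩ := AddSubgroup.mem_sup.1 h1
  exact ⟨a, by rw [sm_eq]; exact ha, c, hc, e.symm⟩

theorem Gas.of_dec (g : PThree.Dec W 𝒴) : Gas W 𝒴 := fun w => by
  obtain ⟨a, ha, c, hc, e⟩ := g w
  exact ⟨a, by rw [sm_eq]; exact ha, c, hc, e⟩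

end forms

section fam

variable {G : Type u} [Group G] [Finite G] {S : Sylow 2 G} {B V H M : Subgroup G}
  {h : H ≤ normalizer (V : Set G)} {hc : V ≤ centralizer (V : Set G)} {𝒴 : Set (Subgroup (XX h))}

/-- `S ∩ R`, `R = RG h B 𝒴` or `preR h (RR 𝒴)` -/
theorem inf_RG (SN : (S : Subgroup G) ≤ normalizer (B : Set G)) :
    (S : Subgroup G) ⊓ RG h B 𝒴 = (S : Subgroup G) ⊓ preR h (RR 𝒴) := by
  ext s
  constructor
  · rintro ⟨hs, -, h1⟩
    exact ⟨hs, mem_preR.2 h1⟩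
  · rintro ⟨hs, h1⟩
    exact ⟨hs, SN hs, mem_preR.1 h1⟩

variable (l : NoEmp.Lines S B V) (hBH : normalizer (B : Set G) ≤ H)
  (Fa : Fam (MU hc) (im h (normalizer (B : Set G))) 𝒴) (gas : Gas (MU hc) 𝒴)
include l hBH

theorem odd_bar : ¬ 2 ∣ (im h (S : Subgroup G)).relIndex (im h (normalizer (B : Set G))) :=
  odd_im l.S_le_NJ hBH (syl_not_dvd (syl_of_le l.S_le_NJ))

include Fa gas

/-- **(E2)** -/
theorem e2_of_fam {P : Subgroup G} (hP : IsPar (S : Subgroup G) P) (hPB : P ≤ normalizer (B : Set G))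
    (hPZ : ¬ P ≤ CZ (S : Subgroup G)) : P ≤ normalizer (V2g (S : Subgroup G) (RG h B 𝒴) V : Set G) := by
  have hSV := l.S_le_NJ.trans l.NJ
  have e : V2g (S : Subgroup G) (RG h B 𝒴) V =
      NN V ((S : Subgroup G) ⊓ preR h (RR 𝒴)) (centralizer (((S : Subgroup G) ⊓ preR h (RR 𝒴) : Subgroup G) : Set G)) := by
    rw [V2g, inf_RG l.S_le_NJ]
  rw [e]
  have hfinA : Finite (MulAut V) := Finite.of_injective (fun x : MulAut V => (x : V → V)) DFunLike.coe_injective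
  have hfinX : Finite (XX h) := inferInstance
  refine le_norm_of_mod (hc := hc) (h := h) (hPB.trans hBH) (ClosedPow.NN_le hc (inf_le_left.trans hSV)) ?_
  intro p hp w hw
  rw [val_mem_V2 hSV] at hw ⊢
  have h1 := node_one Fa gas.hsp (isPGroup_im S.isPGroup') (odd_bar l hBH) (im_mono hP.le) (im_mono hPB)
    (minPar_im hP.toIsMinPar (hPB.trans hBH))
    (not_cent_im (hPB.trans hBH) l.ZV (fun z hz => mem_centralizer_iff.2 fun s hs => (mem_zc.1 hz).2.1 s hs) hPZ)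
  exact h1 p hp w hw

/-- **`C_S(Z₁) ≤ R`** -/
theorem s1_of_fam' : (S : Subgroup G) ⊓ centralizer (Zo (S : Subgroup G) (RG h B 𝒴) V : Set G) ≤ RG h B 𝒴 := by
  have h1 := s1_of_fam hc Fa gas.dec S.isPGroup' (l.S_le_NJ.trans hBH) (im_mono l.S_le_NJ) (odd_bar l hBH)
  have e : Zo (S : Subgroup G) (RG h B 𝒴) V = Zo (S : Subgroup G) (preR h (RR 𝒴)) V := by
    rw [Zo, Zo, inf_RG l.S_le_NJ]
  rw [e]
  have h2 := le_inf (inf_le_left : (S : Subgroup G) ⊓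
    centralizer (Zo (S : Subgroup G) (preR h (RR 𝒴)) V : Set G) ≤ (S : Subgroup G)) h1
  rw [← inf_RG l.S_le_NJ (𝒴 := 𝒴)] at h2
  exact h2.trans inf_le_right

/-- **good sets** -/
theorem good_of_fam (D : Subgroup G) (hD : D ≤ V2g (S : Subgroup G) (RG h B 𝒴) V)
    (hne : D ≠ V2g (S : Subgroup G) (RG h B 𝒴) V)
    (clo : ∀ w ∈ V2g (S : Subgroup G) (RG h B 𝒴) V,
      (∀ t ∈ ((S : Subgroup G) ⊓ RG h B 𝒴) ⊓ centralizer (D : Set G), t * w = w * t) → w ∈ D) :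
    ∃ lam T₀, ClosedPt.GoodAt (((S : Subgroup G) ⊓ RG h B 𝒴) ⊓ centralizer (D : Set G))
      (V2g (S : Subgroup G) (RG h B 𝒴) V) D lam T₀ := by
  have hs1 := s1_of_fam' l hBH Fa gas
  have es : (S : Subgroup G) ⊓ centralizer (Zo (S : Subgroup G) (RG h B 𝒴) V : Set G) =
      (S : Subgroup G) ⊓ RG h B 𝒴 :=
    le_antisymm (le_inf inf_le_left hs1) (le_inf inf_le_left (cent_symm inf_le_right))
  obtain ⟨U, hU⟩ := VTwo.exists_blkAct (Z₁ := Zo (S : Subgroup G) (RG h B 𝒴) V)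
    (V' := V2g (S : Subgroup G) (RG h B 𝒴) V) Fa gas.dec S.isPGroup' (l.S_le_NJ.trans hBH) (im_mono l.S_le_NJ)
    (odd_bar l hBH) (fun v => by
      constructor
      · rintro ⟨hv, h1⟩
        refine ⟨hv, fun s hs hsR => mem_centralizer_iff.1 h1 s ⟨hs, l.S_le_NJ hs, s.2, hsR⟩⟩
      · rintro ⟨hv, h1⟩
        refine ⟨hv, mem_centralizer_iff.2 fun s hs => ?_⟩
        obtain ⟨hs, -, hsH, hsR⟩ := hs
        exact h1 ⟨s, hsH⟩ hs hsR) (fun v => by
      rw [es]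
      exact BaseDat.mem_V2 l)
  rw [es] at hU
  exact hU.exists_good hD hne clo

variable (fl : ∀ F T X : Subgroup G, Fl S V F T → zc (S : Subgroup G) ≤ F → Par V F T X →
    ∃ Y ∈ 𝒴, ∃ Q ≤ Y, fx (MU hc) Q = ad hc F)
  (cs : (S : Subgroup G) ⊓ centralizer (V : Set G) = B)
  (oz : ∀ T Y : Subgroup G, PanZ S B V T Y → ∃ A, Opt (cl V ((S : Subgroup G) ⊔ Y)) A ∧ A ≤ B ∧ ¬ A ≤ o2 Y)
  (hG : IsCharacteristicTwoType G) (hSne : (S : Subgroup G) ≠ ⊥)
include fl cs oz hG hSne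

/-- **(BP)** -/
theorem bp_of_fam : CZ (S : Subgroup G) ≤ normalizer (Zo (S : Subgroup G) (RG h B 𝒴) V : Set G) := by
  have h1 := (Fld.mpt (S := S) (N := normalizer (B : Set G)) (R := RG h B 𝒴) (fun _ => Iff.rfl) le_rfl hBH le_rfl Fa gas l
    fl).cent_le hG hSne l cs oz le_rfl l.ZV
  rwa [Fld.Fc_zc (fun _ => Iff.rfl) le_rfl hBH Fa gas l l.S_le_NJ] at h1

/-- **The base point data.** -/
theorem baseDat_of_fam (hM : M ≤ normalizer (B : Set G)) : BaseDat S M V B (RG h B 𝒴) where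
  BR := fun b hb => ⟨Subgroup.le_normalizer hb, hBH (Subgroup.le_normalizer hb), by
    rw [(pr_eq_one h).2 (l.JV hb)]
    exact one_mem _⟩
  NR := by
    intro n hn
    have h1 := norm_preR_of_fam hBH Fa hn
    rw [mem_normalizer_iff] at h1 ⊢
    intro g
    have h2 := h1 g
    rw [mem_preR, mem_preR] at h2
    have h3 : g ∈ normalizer (B : Set G) ↔ n * g * n⁻¹ ∈ normalizer (B : Set G) := by
      constructor
      · intro hg
        exact (normalizer (B : Set G)).mul_mem ((normalizer (B : Set G)).mul_mem hn hg)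
          ((normalizer (B : Set G)).inv_mem hn)
      · intro hg
        have h4 := (normalizer (B : Set G)).mul_mem ((normalizer (B : Set G)).mul_mem
          ((normalizer (B : Set G)).inv_mem hn) hg) hn
        have e : n⁻¹ * (n * g * n⁻¹) * n = g := by group
        rwa [e] at h4
    exact and_congr h3 h2
  s1 := s1_of_fam' l hBH Fa gas
  bp := bp_of_fam l hBH Fa gas fl cs oz hG hSne
  e2 := fun _ hP hPM hPZ => e2_of_fam l hBH Fa gas hP.toIsPar (hPM.trans hM) hPZ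
  good := good_of_fam l hBH Fa gas

/-- **The base flag from the family.** -/
theorem baseFlag_of_fam (hM : M ≤ normalizer (B : Set G))
    (gen : M ≤ sSup {P : Subgroup G | IsParS (S : Subgroup G) P ∧ P ≤ M})
    (nonLoc : NonLoc M (CZ (S : Subgroup G))) :
    BaseFlag ((S : Subgroup G) ⊓ RG h B 𝒴) (Zo (S : Subgroup G) (RG h B 𝒴) V)
      (V2g (S : Subgroup G) (RG h B 𝒴) V) (normalizer (V2g (S : Subgroup G) (RG h B 𝒴) V : Set G)) :=
  (baseDat_of_fam l hBH Fa gas fl cs oz hG hSne hM).baseFlag l hG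
    (MinSimple.Basic.zc_ne_bot S.isPGroup' hSne) gen nonLoc

end fam

section loc

open Cfsg.Agent.Omega.NO3b.Exit (Adm VB)
open Cfsg.Agent.Omega.NOThreeL.HypGFrame (LocG)
open Cfsg.Agent.Omega.NOThreeL.Merge (HypG)

/-- The family of blocks for `LocG` (socket). -/
def ExistsFam : Prop :=
  ∀ (G : Type u) [Group G] [Finite G] (S : Sylow 2 G) (M B : Subgroup G), IsCharacteristicTwoType G →
    (S : Subgroup G) ≠ ⊥ → LocG S M B →
      ∃ (H : Subgroup G) (h : H ≤ normalizer (VB (S : Subgroup G) B : Set G))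
        (hc : VB (S : Subgroup G) B ≤ centralizer (VB (S : Subgroup G) B : Set G)) (𝒴 : Set (Subgroup (XX h))),
        normalizer (B : Set G) ≤ H ∧ Fam (MU hc) (im h (normalizer (B : Set G))) 𝒴 ∧ Gas (MU hc) 𝒴 ∧
          ∀ F T X : Subgroup G, Fl S (VB (S : Subgroup G) B) F T → zc (S : Subgroup G) ≤ F →
            Par (VB (S : Subgroup G) B) F T X → ∃ Y ∈ 𝒴, ∃ Q ≤ Y, fx (MU hc) Q = ad hc F

/-- **The base flag for `LocG`.** -/
theorem exists_baseFlag_of_locG {G : Type u} [Group G] [Finite G] {S : Sylow 2 G} {M B H : Subgroup G}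
    (hM : HypG S M) (g : LocG S M B) {h : H ≤ normalizer (VB (S : Subgroup G) B : Set G)}
    {hc : VB (S : Subgroup G) B ≤ centralizer (VB (S : Subgroup G) B : Set G)} {𝒴 : Set (Subgroup (XX h))}
    (hBH : normalizer (B : Set G) ≤ H) (Fa : Fam (MU hc) (im h (normalizer (B : Set G))) 𝒴) (gas : Gas (MU hc) 𝒴)
    (fl : ∀ F T X : Subgroup G, Fl S (VB (S : Subgroup G) B) F T → zc (S : Subgroup G) ≤ F →
      Par (VB (S : Subgroup G) B) F T X → ∃ Y ∈ 𝒴, ∃ Q ≤ Y, fx (MU hc) Q = ad hc F) :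
    ∃ S₁ Z₁ V₁ Lam : Subgroup G, BaseFlag S₁ Z₁ V₁ Lam :=
  ⟨_, _, _, _, baseFlag_of_fam g.adm.lines hBH Fa gas fl g.adm.cs
    (fun _ _ p => Base.exists_opt_of_locG g hM.ctx.char2 (hM.ctx.sylow_ne_bot S) p) hM.ctx.char2
    (hM.ctx.sylow_ne_bot S) g.le hM.gen hM.nonLoc⟩

/-- **`BasePoint` from the families.** -/
theorem basePoint_of (hf : ExistsFam.{u}) : BasePoint.{u} := by
  intro G _ _ S M B hM _ g
  obtain ⟨H, h, hc, 𝒴, hBH, Fa, gas, fl⟩ := hf G S M B hM.ctx.char2 (hM.ctx.sylow_ne_bot S) g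
  exact exists_baseFlag_of_locG hM g hBH Fa gas fl

end loc

end Cfsg.Agent.Omega.NO3b.BasePt
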