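import Cfsg.Agent.Omega.NO3b.Exit.DescBlk

/-!
# Transfer of an irreducible module along an equivariant isomorphism

`R : Y₁ → Y₂ → Prop` a correspondence between two groups (total on both sides), `θ : A₁ ≃+ A₂` with
`θ (y₁ a) = y₂ θ a` for `R y₁ y₂`.

* `Eqv.irr`, `Eqv.allTv`, `Eqv.finrank` : `IsIrr`, `AllTv`, `dim_K A`;
* `EqvM.hom`, `EqvM.finrank_hom`, `EqvM.map_img` : the same for `Hom_Y(A, U)` and `A ⊗ E`, `i : W → U` injective.
-/

set_option autoImplicit false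

namespace Cfsg.Agent.Omega.NO3b.BasePt

open Subgroup
open Cfsg.Agent.Omega.NO3b.Exit Cfsg.Agent.Omega.NO3b.Exit.Ten Cfsg.Agent.Omega.NO3b.Exit.Descent

universe u v w x

/-- An equivariant isomorphism. -/
structure Eqv {Y₁ : Type u} {Y₂ : Type v} {A₁ : Type w} {A₂ : Type x} [Group Y₁] [Group Y₂] [AddCommGroup A₁]
    [AddCommGroup A₂] [DistribMulAction Y₁ A₁] [DistribMulAction Y₂ A₂] (R : Y₁ → Y₂ → Prop) (θ : A₁ ≃+ A₂) :
    Prop where
  l : ∀ y₁, ∃ y₂, R y₁ y₂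
  r : ∀ y₂, ∃ y₁, R y₁ y₂
  e : ∀ y₁ y₂, R y₁ y₂ → ∀ a, θ (y₁ • a) = y₂ • θ a

theorem kk_ext {Y : Type u} {A : Type v} [Group Y] [AddCommGroup A] [DistribMulAction Y A] [Finite A] [IsIrr Y A]
    {κ κ' : KK Y A} (h : ∀ a : A, κ • a = κ' • a) : κ = κ' :=
  Subtype.ext (AddMonoidHom.ext h)

namespace Eqv

variable {Y₁ : Type u} {Y₂ : Type v} {A₁ : Type w} {A₂ : Type x} [Group Y₁] [Group Y₂] [AddCommGroup A₁]
  [AddCommGroup A₂] [DistribMulAction Y₁ A₁] [DistribMulAction Y₂ A₂] {R : Y₁ → Y₂ → Prop} {θ : A₁ ≃+ A₂}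
  (h : Eqv R θ)
include h

theorem symm : Eqv (fun y₂ y₁ => R y₁ y₂) θ.symm where
  l := h.r
  r := h.l
  e := fun y₂ y₁ hR a => by
    rw [AddEquiv.symm_apply_eq, h.e y₁ y₂ hR, AddEquiv.apply_symm_apply]

theorem irr [hI : IsIrr Y₁ A₁] : IsIrr Y₂ A₂ where
  ne := by
    obtain ⟨a, ha⟩ := hI.ne
    exact ⟨θ a, fun h0 => ha (θ.map_eq_zero_iff.1 h0)⟩
  irr N hN := by
    have key : ∀ y : A₂, y ∈ N ↔ θ.symm y ∈ N.comap θ.toAddMonoidHom := fun y => by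
      change _ ↔ θ (θ.symm y) ∈ N
      rw [AddEquiv.apply_symm_apply]
    rcases hI.irr (N.comap θ.toAddMonoidHom) (fun k n hn => by
      obtain ⟨y₂, hy⟩ := h.l k
      change θ (k • n) ∈ N
      rw [h.e k y₂ hy]
      exact hN _ _ hn) with h1 | h1
    · left
      rw [eq_bot_iff]
      intro y hy
      rw [key, h1, AddSubgroup.mem_bot] at hy
      rw [AddSubgroup.mem_bot, ← θ.apply_symm_apply y, hy, map_zero]
    · right
      rw [eq_top_iff]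
      intro y _
      rw [key, h1]
      trivial

/-- the map of the fields -/
def kk (κ : KK Y₁ A₁) : KK Y₂ A₂ :=
  KK.mk Y₂ A₂ (θ.toAddMonoidHom.comp ((κ.1 : A₁ →+ A₁).comp θ.symm.toAddMonoidHom)) fun y₂ a => by
    obtain ⟨y₁, hR⟩ := h.r y₂
    change θ (κ • θ.symm (y₂ • a)) = y₂ • θ (κ • θ.symm a)
    rw [h.symm.e y₂ y₁ hR, KK.smul_smul_comm, h.e y₁ y₂ hR]

theorem kk_smul (κ : KK Y₁ A₁) (a : A₁) : h.kk κ • θ a = θ (κ • a) := by
  change θ (κ • θ.symm (θ a)) = _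
  rw [AddEquiv.symm_apply_apply]

variable [Finite A₁] [Finite A₂] [hI₁ : IsIrr Y₁ A₁] [hI₂ : IsIrr Y₂ A₂]

omit [Finite A₂] hI₂ in
theorem kk_symm (κ : KK Y₁ A₁) : h.symm.kk (h.kk κ) = κ := by
  refine kk_ext fun a => ?_
  have h1 := h.symm.kk_smul (h.kk κ) (θ a)
  rw [AddEquiv.symm_apply_apply, h.kk_smul, AddEquiv.symm_apply_apply] at h1
  exact h1

omit [Finite A₁] hI₁ in
theorem kk_symm' (κ : KK Y₂ A₂) : h.kk (h.symm.kk κ) = κ := by
  refine kk_ext fun a => ?_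
  have h1 := h.kk_smul (h.symm.kk κ) (θ.symm a)
  have h2 := h.symm.kk_smul κ a
  rw [AddEquiv.apply_symm_apply, h2, AddEquiv.apply_symm_apply] at h1
  exact h1

theorem kk_bij : Function.Bijective h.kk :=
  ⟨fun a b e => by rw [← h.kk_symm a, e, h.kk_symm], fun b => ⟨_, h.kk_symm' b⟩⟩

theorem kk_zero : h.kk 0 = 0 := kk_ext fun a => by
  rw [← θ.apply_symm_apply a, h.kk_smul, zero_smul, zero_smul, map_zero]

theorem kk_add (κ κ' : KK Y₁ A₁) : h.kk (κ + κ') = h.kk κ + h.kk κ' := kk_ext fun a => by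
  rw [← θ.apply_symm_apply a, h.kk_smul, add_smul, add_smul, map_add, h.kk_smul, h.kk_smul]

theorem kk_mul (κ κ' : KK Y₁ A₁) : h.kk (κ * κ') = h.kk κ * h.kk κ' := kk_ext fun a => by
  rw [← θ.apply_symm_apply a, h.kk_smul, mul_smul, mul_smul, h.kk_smul, h.kk_smul]

theorem card_kk : Nat.card (KK Y₁ A₁) = Nat.card (KK Y₂ A₂) := Nat.card_congr (Equiv.ofBijective _ h.kk_bij)

theorem finrank : Module.finrank (KK Y₁ A₁) A₁ = Module.finrank (KK Y₂ A₂) A₂ := by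
  have h1 := lift_rank_eq_of_equiv_equiv h.kk θ h.kk_bij fun κ a => (h.kk_smul κ a).symm
  have h2 := congrArg Cardinal.toNat h1
  rwa [Cardinal.toNat_lift, Cardinal.toNat_lift] at h2

/-- `AllTv` -/
theorem allTv (ht : AllTv Y₁ A₁) : AllTv Y₂ A₂ := by
  intro φ a ha
  let φ₁ : Module.Dual (KK Y₁ A₁) A₁ :=
    { toFun := fun b => h.symm.kk (φ (θ b))
      map_add' := fun b c => by rw [map_add, map_add, h.symm.kk_add]
      map_smul' := fun κ b => by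
        rw [RingHom.id_apply, ← h.kk_smul, map_smul, smul_eq_mul, h.symm.kk_mul, h.kk_symm, smul_eq_mul] }
  have hφ : ∀ b, φ₁ b = h.symm.kk (φ (θ b)) := fun b => rfl
  obtain ⟨k, hk⟩ := ht φ₁ (θ.symm a) (by rw [hφ, θ.apply_symm_apply, ha, h.symm.kk_zero])
  obtain ⟨y, hR⟩ := h.l k
  refine ⟨y, fun c => ?_⟩
  have h1 := h.e k y hR (θ.symm c)
  rw [hk, θ.apply_symm_apply, map_add, θ.apply_symm_apply, hφ, θ.apply_symm_apply, ← h.kk_smul, θ.apply_symm_apply,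
    h.kk_symm'] at h1
  exact h1.symm

end Eqv

/-! ### `Hom_Y(A, U)` -/

section hom

variable {Y₁ : Type u} {Y₂ : Type v} {A₁ : Type w} {A₂ : Type x} [Group Y₁] [Group Y₂] [AddCommGroup A₁]
  [AddCommGroup A₂] [DistribMulAction Y₁ A₁] [DistribMulAction Y₂ A₂] {R : Y₁ → Y₂ → Prop} {θ : A₁ ≃+ A₂}
variable {U : Type*} {W : Type*} [AddCommGroup U] [DistribMulAction Y₁ U] [AddCommGroup W] [DistribMulAction Y₂ W]

/-- the modules `U ≥ W` -/
structure EqvM (R : Y₁ → Y₂ → Prop) (θ : A₁ ≃+ A₂) (i : W →+ U) : Prop extends Eqv R θ where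
  inj : Function.Injective i
  eqv : ∀ y₁ y₂, R y₁ y₂ → ∀ w, i (y₂ • w) = y₁ • i w
  val : ∀ (f : HomY Y₁ A₁ U) (a : A₁), ∃ w, i w = (f : A₁ →+ U) a

namespace EqvM

variable {i : W →+ U} (h : EqvM R θ i)
include h

/-- `Hom_{Y₂}(A₂, W) → Hom_{Y₁}(A₁, U)` -/
def hom : HomY Y₂ A₂ W →+ HomY Y₁ A₁ U where
  toFun f := ⟨i.comp ((f : A₂ →+ W).comp θ.toAddMonoidHom), fun y₁ a => by
    obtain ⟨y₂, hR⟩ := h.l y₁
    change i ((f : A₂ →+ W) (θ (y₁ • a))) = y₁ • i ((f : A₂ →+ W) (θ a))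
    rw [h.e y₁ y₂ hR, f.2, h.eqv y₁ y₂ hR]⟩
  map_zero' := by
    apply Subtype.ext; ext a
    exact map_zero i
  map_add' f g := by
    apply Subtype.ext; ext a
    exact map_add i _ _

theorem hom_apply (f : HomY Y₂ A₂ W) (a : A₁) : (h.hom f : A₁ →+ U) a = i ((f : A₂ →+ W) (θ a)) := rfl

theorem hom_inj : Function.Injective h.hom := by
  intro f g e
  apply Subtype.ext
  ext a
  apply h.inj
  have h1 := congrArg (fun f : HomY Y₁ A₁ U => (f : A₁ →+ U) (θ.symm a)) e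
  change i ((f : A₂ →+ W) (θ (θ.symm a))) = i ((g : A₂ →+ W) (θ (θ.symm a))) at h1
  rwa [θ.apply_symm_apply] at h1

theorem hom_surj : Function.Surjective h.hom := by
  intro f
  choose g hg using h.val f
  refine ⟨⟨AddMonoidHom.mk' (fun a => g (θ.symm a)) fun a b => h.inj (by
    rw [hg, map_add θ.symm, map_add i, hg, hg, map_add]), fun y₂ a => ?_⟩, ?_⟩
  · obtain ⟨y₁, hR⟩ := h.r y₂
    apply h.inj
    change i (g (θ.symm (y₂ • a))) = i (y₂ • g (θ.symm a))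
    rw [hg, h.eqv y₁ y₂ hR, hg, h.toEqv.symm.e y₂ y₁ hR, f.2]
  · apply Subtype.ext
    ext a
    change i (g (θ.symm (θ a))) = _
    rw [hg, θ.symm_apply_apply]

theorem finrank_hom [Finite A₁] [Finite A₂] [IsIrr Y₁ A₁] [IsIrr Y₂ A₂] :
    Module.finrank (KK Y₁ A₁) (HomY Y₁ A₁ U) = Module.finrank (KK Y₂ A₂) (HomY Y₂ A₂ W) := by
  have h1 := lift_rank_eq_of_equiv_equiv h.toEqv.symm.kk
    (AddEquiv.ofBijective h.hom ⟨h.hom_inj, h.hom_surj⟩) h.toEqv.symm.kk_bij fun κ f => by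
      apply Subtype.ext
      ext a
      change i ((f : A₂ →+ W) (κ • θ a)) = i ((f : A₂ →+ W) (θ (h.toEqv.symm.kk κ • a)))
      rw [← h.toEqv.kk_smul, h.toEqv.kk_symm']
  have h2 := congrArg Cardinal.toNat h1
  rw [Cardinal.toNat_lift, Cardinal.toNat_lift] at h2
  exact h2.symm

theorem map_img : (img Y₂ A₂ W).map i = img Y₁ A₁ U := by
  apply le_antisymm
  · rintro _ ⟨w, hw, rfl⟩
    induction hw using AddSubgroup.closure_induction with
    | mem w hw =>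
      obtain ⟨f, a, rfl⟩ := hw
      have h1 := mem_img (h.hom f) (θ.symm a)
      rwa [h.hom_apply, θ.apply_symm_apply] at h1
    | zero => rw [map_zero]; exact zero_mem _
    | add a b _ _ ha hb => rw [map_add]; exact add_mem ha hb
    | neg a _ ha => rw [map_neg]; exact neg_mem ha
  · refine (AddSubgroup.closure_le _).2 ?_
    rintro _ ⟨f, a, rfl⟩
    obtain ⟨g, rfl⟩ := h.hom_surj f
    exact ⟨_, mem_img g (θ a), rfl⟩

end EqvM

end hom

end Cfsg.Agent.Omega.NO3b.BasePt
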