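import Cfsg.Agent.Omega.NOThreeL.HypGFrame
import Cfsg.Agent.Omega.NO3b.Chain.Frame

/-!
# `LocG` as a member of the chain

`g : LocG S M B` (`HypGFrame.lean`: `B` admissible, `V = VB S B = ⟨Z^{N_G(B)}⟩` with `|V|` maximal), `L = N_G(B)`.

* `LocG.stage` : `Stage S L`;
* `LocG.WH_eq`, `LocG.ML_eq`, `LocG.VL_eq` : `WH S L = B`, `ML S L = L`, `VL S L = VB S B`;
* `LocG.adm_of_root`, `LocG.le_of_root` : every root `L' ≥ M` with `V(L')` low has `|V(L')| ≤ |V|`;
* `LocG.no_step` : there is no step of the chain from `L`;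
* `LocG.le_normalizer_of_stage` : `Stage S J`, `L ≤ J` imply `J ≤ N_G(V)`;
* `LocG.nonLoc` : `⟨L, C_G(Z)⟩` is nonlocal.
-/

set_option autoImplicit false

namespace Cfsg.Agent.Omega.NOThreeL.HypGFrame.LocG

open Subgroup Cfsg
open Cfsg.Agent.ZN hiding mem_zc le_normalizer_zl le_normalizer_o2 le_o2
open Cfsg.Agent.ZN.ChoiceBase hiding mem_zc
open Cfsg.Agent.Omega.MinPar Cfsg.Agent.Omega.Frame Cfsg.Agent.Omega.FrameNOFF
open Cfsg.Agent.Omega.NO3b.EZero (NotFF Par cl)
open Cfsg.Agent.Omega.NO3b.Alpha (Fl)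
open Cfsg.Agent.Omega.NO3b.Wc
open Cfsg.Agent.Omega.NO3b.Exit (Adm Fr VB)
open Cfsg.Agent.Omega.NO3b.Chain (Stage Step nx)
open Cfsg.Agent.Omega.NOThreeL.HypGFrame (LocG)
open Cfsg.Agent.Omega.NOThreeL.MergeNF (NFRoot)
open Cfsg.Agent.MinSimple.VModule (le_normalizer_zl le_normalizer_o2 o2_isPGroup le_o2 zl_le zc_le_zl)

universe u

variable {G : Type u} [Group G] [Finite G] {S : Sylow 2 G} {M B : Subgroup G}

/-- **`LocG` is a member of the chain.** -/
theorem stage (g : LocG S M B) : Stage S (normalizer (B : Set G)) where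
  le := NO3b.Exit.wc_S_le g.adm.wc
  comm := g.adm.comm
  sq := g.adm.sq
  nff := g.adm.nff
  cs := by
    have h := g.adm.cs
    rw [VB] at h
    rw [h]
  low := g.adm.low

theorem QL_eq (g : LocG S M B) : QL (S : Subgroup G) (normalizer (B : Set G)) = B := g.adm.cs

/-- `WH S L = B` -/
theorem WH_eq (g : LocG S M B) : WH (S : Subgroup G) (normalizer (B : Set G)) = B :=
  le_antisymm ((WH_le _ _).trans g.QL_eq.le) (le_WH g.adm.wc g.QL_eq.ge)

/-- `ML S L = L` -/
theorem ML_eq (g : LocG S M B) : ML (S : Subgroup G) (normalizer (B : Set G)) = normalizer (B : Set G) := by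
  rw [ML, g.WH_eq]

/-- `VL S L = V` -/
theorem VL_eq (g : LocG S M B) : VL (S : Subgroup G) (normalizer (B : Set G)) = VB (S : Subgroup G) B := by
  rw [VL, g.ML_eq, VB]

/-- A root `L' ≥ M` with `V(L')` low is admissible. -/
theorem adm_of_root {L : Subgroup G} (h : Root S L) (hML : M ≤ L)
    (low : VL (S : Subgroup G) L ≤ o2 (centralizer (zc (S : Subgroup G) : Set G))) :
    Adm S M (WH (S : Subgroup G) L) where
  wc := wc_WH _ _
  le := (WH_le _ _).trans (inf_le_inf_left _ (centralizer_le (NOThreeL.Star.zl_mono _ hML)))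
  cs := h.cs_V
  comm := h.V_comm
  sq := h.V_sq
  nff := h.V_nff
  low := low

/-- **Maximality of `|V|`.** -/
theorem le_of_root (g : LocG S M B) {L : Subgroup G} (h : Root S L) (hML : M ≤ L)
    (low : VL (S : Subgroup G) L ≤ o2 (centralizer (zc (S : Subgroup G) : Set G))) :
    Nat.card (VL (S : Subgroup G) L) ≤ Nat.card (VB (S : Subgroup G) B) :=
  g.max _ (adm_of_root h hML low)

/-- Maximality of `V`. -/
theorem VL_eq_of_root (g : LocG S M B) {L : Subgroup G} (h : Root S L) (hML : M ≤ L)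
    (low : VL (S : Subgroup G) L ≤ o2 (centralizer (zc (S : Subgroup G) : Set G)))
    (hV : VB (S : Subgroup G) B ≤ VL (S : Subgroup G) L) : VL (S : Subgroup G) L = VB (S : Subgroup G) B :=
  (eq_of_le_of_card_ge hV (g.le_of_root h hML low)).symm

theorem lines (g : LocG S M B) (hG : IsCharacteristicTwoType G) (hne : zc (S : Subgroup G) ≠ ⊥) :
    NO3b.NoEmp.Lines S (WH (S : Subgroup G) (normalizer (B : Set G))) (VL (S : Subgroup G) (normalizer (B : Set G))) :=
  g.stage.lines hG hne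

/-- **There is no step from `L`.** -/
theorem no_step (g : LocG S M B) (hG : IsCharacteristicTwoType G) (hne : zc (S : Subgroup G) ≠ ⊥)
    (F T X : Subgroup G) : ¬ Step S (normalizer (B : Set G)) F T X := by
  intro s
  have h1 : Stage S (nx (S : Subgroup G) (normalizer (B : Set G)) X) := s.next hG g.stage.toRoot (g.lines hG hne)
  have h2 := s.lt h1.toRoot
  have h3 : M ≤ nx (S : Subgroup G) (normalizer (B : Set G)) X := by
    refine le_trans ?_ le_sup_left
    rw [g.ML_eq]
    exact g.le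
  have h4 := g.le_of_root h1.toRoot h3 (h1.lines hG hne).low
  rw [g.VL_eq] at h2
  exact h2.ne (eq_of_le_of_card_ge h2.le h4)

/-- `⟨L, C_G(Z)⟩` is nonlocal. -/
theorem nonLoc (g : LocG S M B) (r : NFRoot (S : Subgroup G) M) :
    NonLoc (normalizer (B : Set G)) (CZ (S : Subgroup G)) :=
  fun U hU h1 h2 => r.nonloc U hU (g.le.trans h1) h2

/-- **Maximality for a local group `J ≥ L`** with `C_S(V_J)` normal in `J`: if `V_J` is not FF and
`V_J ≤ O₂(C_G(Z))` then `J ≤ N_G(V)`. -/
theorem le_normalizer_of_stage (g : LocG S M B) (hG : IsCharacteristicTwoType G) (hne : zc (S : Subgroup G) ≠ ⊥)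
    {J : Subgroup G} (hJ : Stage S J) (hLJ : normalizer (B : Set G) ≤ J) :
    J ≤ normalizer (VB (S : Subgroup G) B : Set G) := by
  have hV : VB (S : Subgroup G) B ≤ VL (S : Subgroup G) J :=
    (NOThreeL.Star.zl_mono (S : Subgroup G) hLJ).trans hJ.zl_le_V
  have h1 := g.VL_eq_of_root hJ.toRoot (g.le.trans hLJ) (hJ.lines hG hne).low hV
  rw [← h1]
  exact hJ.L_le.trans (ML_le_norm_V _ _)

end Cfsg.Agent.Omega.NOThreeL.HypGFrame.LocG
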