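import Cfsg.Agent.Omega.NO3b.BetaTwo.LocG
import Cfsg.Agent.Omega.NO3b.BasePt.LocStage

/-!
# The offender of `V_J` for a family of panels (helper957's (B3), helper506 #21336 (A), (B))

`B` admissible, `V = VB S B`, panels `(F i, T i, X i)` of `V`, `J = JB B X = ⟨N_G(B), X i⟩` 2-local, `V_J = zl S J` FF:

* `exists_opt_adm` : an optimal offender `A ≤ B` of `V_J` with `A ≰ O₂(X i)` for some `i`;
* `LocG.exists_opt_fam`, `LocG.loc_fam` : the same in the frame `LocG` for a family of panels over `Z`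
  (`V_J` is FF by THEOREM BETA2, `J` is local by the mixed K0);
* `LocG.exists_opt_pair`, `LocG.loc_pair`, `LocG.ff_pair` : two panels, `J = ⟨M(L), X, X'⟩`, `L = N_G(B)`.
-/

set_option autoImplicit false

namespace Cfsg.Agent.Omega.NO3b.BetaTwo

open Subgroup Cfsg
open Cfsg.Agent.ZN (o2 zc zl)
open Cfsg.Agent.ZN.ChoiceBase hiding mem_zc
open Cfsg.Agent.ZN.ChoiceSit (o2_le_syl)
open Cfsg.Agent.Omega.NO3b.EZero (NotFF Par cent_symm cj_cent cl le_cl cj_le_cl cl_le le_normalizer_cl)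
open Cfsg.Agent.Omega.NO3b.Alpha (Fl)
open Cfsg.Agent.Omega.NO3b.Wc
open Cfsg.Agent.Omega.NO3b.Exit
open Cfsg.Agent.Omega.NO3b.Chain
open Cfsg.Agent.Omega.NO3b.K0.Mix (Pan SM Two)
open Cfsg.Agent.Omega.NOThreeL.Star (Opt Ok exists_opt)
open Cfsg.Agent.MinSimple.VModule (zc_le_zl le_normalizer_zl zl_le le_normalizer_o2 le_o2 mem_normalizer_of_map_le)

universe u v

variable {G : Type u} [Group G] [Finite G] {S : Sylow 2 G} {L B : Subgroup G} {ι : Type v}
  {F T X : ι → Subgroup G}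

/-- **an optimal offender of `V_J` in `B`, not in `O₂(X i)` for some `i`** -/
theorem exists_opt_adm (a : Adm S L B) (hc : IsCharacteristicTwoType G)
    (f : ∀ i, Fl S (VB (S : Subgroup G) B) (F i) (T i))
    (p : ∀ i, Par (VB (S : Subgroup G) B) (F i) (T i) (X i))
    (hloc : ∃ R : Subgroup G, R ≠ ⊥ ∧ IsPGroup 2 R ∧ JB B X ≤ normalizer (R : Set G))
    (hff : ¬ NotFF (zl (S : Subgroup G) (JB B X))) :
    ∃ A : Subgroup G, Opt (zl (S : Subgroup G) (JB B X)) A ∧ A ≤ B ∧ ∃ i, ¬ A ≤ o2 (X i) := by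
  set V := VB (S : Subgroup G) B with hVd
  set J := JB B X with hJ
  have l := a.lines
  have hMJ : normalizer (B : Set G) ≤ J := NB_le_JB
  have hXJ : ∀ i, X i ≤ J := X_le_JB
  have hSJ : (S : Subgroup G) ≤ J := S_le_JB a
  have char2 : J ⊓ centralizer (o2 J : Set G) ≤ o2 J := char2_JB a hc hloc
  have pn : ∀ i, Pan V (F i) (T i) (X i) (normalizer (B : Set G)) B := fun i => by
    have h1 := pan (f i) l (p i) fun g hg => Alpha.ti hc l g hg
    rwa [a.cs] at h1
  have hBT : ∀ i, B ≤ T i := fun i => by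
    have hQ := (f i).Q0_le
    rwa [a.cs] at hQ
  have hVc := zl_cent hSJ char2
  have hVJ : V ≤ zl (S : Subgroup G) J := V_le_JB a
  have hVH : cl V J ≤ zl (S : Subgroup G) J := cl_le_JB a
  have hUH : ∀ i, cl V (X i) ≤ zl (S : Subgroup G) J := fun i => cl_le fun x hx =>
    (cj_le_cl (V := V) (hXJ i hx)).trans hVH
  -- best offenders centralise `V`
  have hAV : ∀ A, Opt (zl (S : Subgroup G) J) A → A ≤ (S : Subgroup G) → A ≤ B := by
    intro A hA hAS
    refine le_trans (le_inf hAS ?_) a.cs.le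
    by_contra hne
    have hoff := offM_of_opt hA hVc hVJ hne
    have h3 := a.nff A hA.pg (hAS.trans a.lines.S_le) hoff.sq hoff.comm hne
    exact absurd (FFThm.relIndex_le_iff.1 hoff.le) (not_le.2 h3)
  have hQB : (S : Subgroup G) ⊓ centralizer (zl (S : Subgroup G) J : Set G) ≤ B :=
    (inf_le_inf_left _ (centralizer_le hVJ)).trans a.cs.le
  obtain ⟨A0, hA0⟩ := exists_opt hff
  obtain ⟨n, hn, hnS⟩ := FFThm.exists_conj_le S (hSJ.trans (le_normalizer_zl _ _)) hA0.pg hA0.norm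
  set Fam : Set (Subgroup G) := {D | D = (S : Subgroup G) ⊓ centralizer (zl (S : Subgroup G) J : Set G) ∨
      Opt (zl (S : Subgroup G) J) D ∧ D ≤ (S : Subgroup G)} with hFam
  have hFamB : ∀ D ∈ Fam, D ≤ B := by
    rintro D (rfl | ⟨h1, h2⟩)
    · exact hQB
    · exact hAV D h1 h2
  have hcl : ∀ g ∈ J, (∀ D ∈ Fam, cj g D ≤ (S : Subgroup G)) → ∀ D ∈ Fam, cj g D ≤ sSup Fam := by
    rintro g hg hgS D (rfl | ⟨h1, h2⟩)
    · refine le_trans (le_inf (hgS _ (Or.inl rfl)) ?_) (le_sSup (Or.inl rfl))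
      rw [cj_inf, cj_centralizer, cj_eq_of_mem_normalizer (le_normalizer_zl _ _ hg)]
      exact inf_le_right
    · exact le_sSup (a := cj g D) (Or.inr ⟨h1.cj (le_normalizer_zl _ _ hg), hgS D (Or.inr ⟨h1, h2⟩)⟩)
  have hex : ∃ i, ∃ D ∈ Fam, ¬ D ≤ o2 (X i) := by
    by_contra hcon
    push Not at hcon
    have hKB : sSup Fam ≤ B := sSup_le hFamB
    have hKS : sSup Fam ≤ (S : Subgroup G) := hKB.trans a.wc.le
    have hcl' : ∀ g ∈ J, cj g (sSup Fam) ≤ (S : Subgroup G) → cj g (sSup Fam) ≤ sSup Fam := by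
      intro g hg hgS
      rw [cj_sSup]
      exact iSup_le fun D => hcl g hg (fun D hD => (cj_mono g (le_sSup hD)).trans hgS) D D.2
    have hcore : sSup Fam ≤ o2 J := by
      refine le_o2 (hKS.trans hSJ) (S.isPGroup'.to_le hKS) (sup_le ?_ (iSup_le fun i => ?_))
      · intro m hm
        refine mem_normalizer_of_map_le (hcl' m (hMJ hm) ?_)
        have h1 := cj_mono m hKB
        rw [cj_eq_of_mem_normalizer hm] at h1
        exact h1.trans a.wc.le
      · intro x hx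
        refine mem_normalizer_of_map_le (hcl' x (hXJ i hx) ?_)
        have h1 := cj_mono x (sSup_le (hcon i) : sSup Fam ≤ o2 (X i))
        rw [cj_eq_of_mem_normalizer (le_normalizer_o2 _ hx)] at h1
        exact h1.trans ((o2_le_syl ((f i).sylX (p i))).trans (f i).T_le)
    exact (hA0.cj hn).ne (((le_sSup (a := cj n A0) (Or.inr ⟨hA0.cj hn, hnS⟩)).trans hcore).trans
      (o2_cent hSJ char2))
  obtain ⟨i, D, hD, hDX⟩ := hex
  rcases hD with rfl | ⟨h1, h2⟩
  · exact absurd ((pn i).le_o2_of_cent_U (S.isPGroup'.to_le (hQB.trans a.wc.le))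
      ((hQB.trans (hBT i)).trans (p i).T_le) (inf_le_right.trans (centralizer_le (hUH i)))) hDX
  · exact ⟨D, h1, hAV D h1 h2, i, hDX⟩

end Cfsg.Agent.Omega.NO3b.BetaTwo

namespace Cfsg.Agent.Omega.NOThreeL.HypGFrame.LocG

open Subgroup Cfsg
open Cfsg.Agent.ZN (o2 zc zl)
open Cfsg.Agent.Omega.NO3b.EZero (NotFF Par cl)
open Cfsg.Agent.Omega.NO3b.Alpha (Fl)
open Cfsg.Agent.Omega.NO3b.Wc (ML VL WH)
open Cfsg.Agent.Omega.NO3b.Exit (Adm Fr VB)
open Cfsg.Agent.Omega.NO3b.BetaTwo (JB exists_opt_adm)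
open Cfsg.Agent.Omega.NOThreeL.Star (Opt)

universe u v

variable {G : Type u} [Group G] [Finite G] {S : Sylow 2 G} {M B : Subgroup G} (h : LocG S M B)
include h

/-- **`J = ⟨N_G(B), X i⟩` is 2-local for every family of panels over `Z`** -/
theorem loc_fam (hc : IsCharacteristicTwoType G) (hSne : (S : Subgroup G) ≠ ⊥) {ι : Type v} [Nonempty ι]
    (F T X : ι → Subgroup G)
    (f : ∀ i, Fl S (VB (S : Subgroup G) B) (F i) (T i)) (hZ : ∀ i, zc (S : Subgroup G) ≤ F i)
    (p : ∀ i, Par (VB (S : Subgroup G) B) (F i) (T i) (X i)) :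
    ∃ R : Subgroup G, R ≠ ⊥ ∧ IsPGroup 2 R ∧ JB B X ≤ normalizer (R : Set G) := by
  have h2 : ∀ i, NO3b.K0.Mix.Two (VB (S : Subgroup G) B) (X i) := fun i => h.two hc hSne (f i) (hZ i) (p i)
  obtain ⟨R, hR, hR2, h3, h4⟩ := NO3b.Exit.exists_loc_fam FFBr.aStmt hc h.adm.lines F T X f p h2
  rw [h.adm.cs] at h3
  exact ⟨R, hR, hR2, sup_le h3 (iSup_le h4)⟩

/-- **an optimal offender `A ≤ B` of `V_J`, not in `O₂(X i)` for some `i`** -/
theorem exists_opt_fam (hc : IsCharacteristicTwoType G) (hSne : (S : Subgroup G) ≠ ⊥) {ι : Type v} [Nonempty ι]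
    (F T X : ι → Subgroup G)
    (f : ∀ i, Fl S (VB (S : Subgroup G) B) (F i) (T i)) (hZ : ∀ i, zc (S : Subgroup G) ≤ F i)
    (p : ∀ i, Par (VB (S : Subgroup G) B) (F i) (T i) (X i)) :
    ∃ A : Subgroup G, Opt (zl (S : Subgroup G) (JB B X)) A ∧ A ≤ B ∧ ∃ i, ¬ A ≤ o2 (X i) :=
  exists_opt_adm h.adm hc f p (h.loc_fam hc hSne F T X f hZ p) (h.gam_fam hc hSne F T X f hZ p)

section pair

variable (hc : IsCharacteristicTwoType G) (hSne : (S : Subgroup G) ≠ ⊥) {F T X F' T' X' : Subgroup G}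
  (f : Fl S (VB (S : Subgroup G) B) F T) (hZ : zc (S : Subgroup G) ≤ F) (p : Par (VB (S : Subgroup G) B) F T X)
  (f' : Fl S (VB (S : Subgroup G) B) F' T') (hZ' : zc (S : Subgroup G) ≤ F')
  (p' : Par (VB (S : Subgroup G) B) F' T' X')

omit [Finite G] h in
theorem JB_pair (B X X' : Subgroup G) :
    JB B (fun b : Bool => if b then X else X') = normalizer (B : Set G) ⊔ (X ⊔ X') := by
  rw [JB, iSup_bool_eq]
  rfl

include hc hSne f hZ p f' hZ' p'

/-- two panels: `J = ⟨M(L), X, X'⟩`, `L = N_G(B)`, is 2-local -/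
theorem loc_pair : ∃ R : Subgroup G, R ≠ ⊥ ∧ IsPGroup 2 R ∧
    ML (S : Subgroup G) (normalizer (B : Set G)) ⊔ (X ⊔ X') ≤ normalizer (R : Set G) := by
  have h1 := h.loc_fam hc hSne (ι := Bool) (fun b => if b then F else F') (fun b => if b then T else T')
    (fun b => if b then X else X') (by rintro (_ | _); exacts [f', f]) (by rintro (_ | _); exacts [hZ', hZ])
    (by rintro (_ | _); exacts [p', p])
  rwa [JB_pair, ← h.ML_eq] at h1

/-- two panels: `V_J` is FF -/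
theorem ff_pair : ¬ NotFF (zl (S : Subgroup G) (ML (S : Subgroup G) (normalizer (B : Set G)) ⊔ (X ⊔ X'))) := by
  have h1 := h.gam_fam hc hSne (ι := Bool) (fun b => if b then F else F') (fun b => if b then T else T')
    (fun b => if b then X else X') (by rintro (_ | _); exacts [f', f]) (by rintro (_ | _); exacts [hZ', hZ])
    (by rintro (_ | _); exacts [p', p])
  rwa [JB_pair, ← h.ML_eq] at h1

/-- two panels: an optimal offender `A ≤ W(L) = B` of `V_J`, `A ≰ O₂(X)` or `A ≰ O₂(X')` -/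
theorem exists_opt_pair : ∃ A : Subgroup G,
    Opt (zl (S : Subgroup G) (ML (S : Subgroup G) (normalizer (B : Set G)) ⊔ (X ⊔ X'))) A ∧
      A ≤ WH (S : Subgroup G) (normalizer (B : Set G)) ∧ (¬ A ≤ o2 X ∨ ¬ A ≤ o2 X') := by
  obtain ⟨A, h1, h2, i, h3⟩ := h.exists_opt_fam hc hSne (ι := Bool) (fun b => if b then F else F')
    (fun b => if b then T else T')
    (fun b => if b then X else X') (by rintro (_ | _); exacts [f', f]) (by rintro (_ | _); exacts [hZ', hZ])
    (by rintro (_ | _); exacts [p', p])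
  rw [JB_pair, ← h.ML_eq] at h1
  refine ⟨A, h1, by rw [h.WH_eq]; exact h2, ?_⟩
  rcases i with _ | _
  · exact Or.inr h3
  · exact Or.inl h3

end pair

end Cfsg.Agent.Omega.NOThreeL.HypGFrame.LocG
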