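import Cfsg.Agent.Omega.NO3b.BetaTwo.LocG
import Cfsg.Agent.Omega.NO3b.Chain.Shape

/-!
# 3L-T (B), the frame: case (γ) for a family of panels, the M-side in any `V_H`

`Adm S L B`, `M = N_G(B)`, `V = VB S B`, panels `(F i, T i, X i)`, `J = JB B X = ⟨M, X i⟩`.

* `exists_opt_JB` : `V_J` FF gives an optimal offender `A ≤ B` of `V_J` and an `i` with `A ≰ O₂(X i)`;
* `sitH`, `mxH` : for every `H ≥ M, X` of characteristic 2 and an optimal offender `A ≤ B` of `V_H`, `A ≰ O₂(X)`: the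
  M-side frame `MX` in the module `V_H`;
* `BlkOf`, `blkH` : the blocks `Blk0` in the module `V_H`.
-/

set_option autoImplicit false
set_option linter.unusedSectionVars false

namespace Cfsg.Agent.Omega.NO3b.BasePt

open Subgroup Cfsg
open Cfsg.Agent.ZN (o2 zc zl)
open Cfsg.Agent.ZN.ChoiceBase hiding mem_zc
open Cfsg.Agent.ZN.ChoiceSit (Syl o2_le_syl syl_not_dvd)
open Cfsg.Agent.MinSimple.EmptyTI (syl_of_le)
open Cfsg.Agent.Omega.NO3b.EZero (NotFF Par cent_symm cj_cent cl le_cl cj_le_cl cl_le le_normalizer_cl)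
open Cfsg.Agent.Omega.NO3b.Alpha (Fl)
open Cfsg.Agent.Omega.NO3b.Wc
open Cfsg.Agent.Omega.NO3b.Exit
open Cfsg.Agent.Omega.NO3b.Exit.Bridge
open Cfsg.Agent.Omega.NO3b.Exit.TDat (MX Red mx_of_tight sbc FFq ncl KV)
open Cfsg.Agent.Omega.NO3b.Exit.BlkZ (Blk0)
open Cfsg.Agent.Omega.NO3b.Exit.TT (nf)
open Cfsg.Agent.Omega.NO3b.K0.Mix (Pan Two)
open Cfsg.Agent.Omega.NO3b.BetaTwo (JB)
open Cfsg.Agent.Omega.NOThreeL.Star (Opt exists_opt)
open Cfsg.Agent.Omega.FFBr (XX pr im mem_im)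
open Cfsg.Agent.Omega.FF.Basic (fx)
open Cfsg.Agent.MinSimple.VModule (zc_le_zl le_normalizer_zl zl_le le_normalizer_o2 le_o2 mem_normalizer_of_map_le
  le_centralizer_zc)
open scoped Pointwise

universe u v

variable {G : Type u} [Group G] [Finite G] {S : Sylow 2 G} {L B : Subgroup G}

/-! ### (γ) for a family -/

section fam

variable {ι : Type v} {F T X : ι → Subgroup G}

/-- `C_T(U) ≤ O₂(X)` in the form needed here -/
theorem le_o2_of_cent {F T X : Subgroup G} (a : Adm S L B) (hc : IsCharacteristicTwoType G)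
    (f : Fl S (VB (S : Subgroup G) B) F T) (p : Par (VB (S : Subgroup G) B) F T X) {D : Subgroup G} (hDB : D ≤ B)
    (hD : D ≤ centralizer (cl (VB (S : Subgroup G) B) X : Set G)) : D ≤ o2 X := by
  have l := a.lines
  have pn : Pan (VB (S : Subgroup G) B) F T X (normalizer (B : Set G)) B := by
    have h1 := Exit.pan f l p fun g hg => Alpha.ti hc l g hg
    rwa [a.cs] at h1
  have hBT : B ≤ T := by
    have hQ := f.Q0_le
    rwa [a.cs] at hQ
  exact pn.le_o2_of_cent_U (S.isPGroup'.to_le (hDB.trans a.wc.le)) ((hDB.trans hBT).trans p.T_le) hD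

/-- **(γ)** for a family of panels. -/
theorem exists_opt_JB (a : Adm S L B) (hc : IsCharacteristicTwoType G)
    (f : ∀ i, Fl S (VB (S : Subgroup G) B) (F i) (T i))
    (p : ∀ i, Par (VB (S : Subgroup G) B) (F i) (T i) (X i))
    (hloc : ∃ R : Subgroup G, R ≠ ⊥ ∧ IsPGroup 2 R ∧ JB B X ≤ normalizer (R : Set G))
    (hff : ¬ NotFF (zl (S : Subgroup G) (JB B X))) :
    ∃ A, Opt (zl (S : Subgroup G) (JB B X)) A ∧ A ≤ B ∧ ∃ i, ¬ A ≤ o2 (X i) := by
  set J := JB B X with hJ
  have hMJ : normalizer (B : Set G) ≤ J := BetaTwo.NB_le_JB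
  have hXJ : ∀ i, X i ≤ J := BetaTwo.X_le_JB
  have hSJ : (S : Subgroup G) ≤ J := BetaTwo.S_le_JB a
  have char2 : J ⊓ centralizer (o2 J : Set G) ≤ o2 J := BetaTwo.char2_JB a hc hloc
  have hVJ : VB (S : Subgroup G) B ≤ zl (S : Subgroup G) J := BetaTwo.V_le_JB a
  have hUJ : ∀ i, cl (VB (S : Subgroup G) B) (X i) ≤ zl (S : Subgroup G) J := fun i => cl_le fun x hx =>
    (cj_le_cl (V := VB (S : Subgroup G) B) (hXJ i hx)).trans (BetaTwo.cl_le_JB a)
  have hVc := zl_cent hSJ char2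
  -- best offenders centralise `V`
  have hAV : ∀ A, Opt (zl (S : Subgroup G) J) A → A ≤ (S : Subgroup G) → A ≤ B := by
    intro A hA hAS
    refine le_trans (le_inf hAS ?_) a.cs.le
    by_contra hne
    have hoff := offM_of_opt hA hVc hVJ hne
    have h3 := a.nff A hA.pg (hAS.trans a.lines.S_le) hoff.sq hoff.comm hne
    exact absurd (FFThm.relIndex_le_iff.1 hoff.le) (not_le.2 h3)
  obtain ⟨A0, hA0⟩ := exists_opt hff
  obtain ⟨n, hn, hnS⟩ := FFThm.exists_conj_le S (hSJ.trans (le_normalizer_zl _ _)) hA0.pg hA0.norm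
  set Fam : Set (Subgroup G) := {D | D = (S : Subgroup G) ⊓ centralizer (zl (S : Subgroup G) J : Set G) ∨
      Opt (zl (S : Subgroup G) J) D ∧ D ≤ (S : Subgroup G)} with hFam
  have hCB : (S : Subgroup G) ⊓ centralizer (zl (S : Subgroup G) J : Set G) ≤ B :=
    (inf_le_inf_left _ (centralizer_le hVJ)).trans a.cs.le
  have hFamB : ∀ D ∈ Fam, D ≤ B := by
    rintro D (rfl | ⟨h1, h2⟩)
    · exact hCB
    · exact hAV D h1 h2
  have hcl : ∀ g ∈ J, (∀ D ∈ Fam, cj g D ≤ (S : Subgroup G)) → ∀ D ∈ Fam, cj g D ≤ sSup Fam := by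
    rintro g hg hgS D (rfl | ⟨h1, h2⟩)
    · refine le_trans (le_inf (hgS _ (Or.inl rfl)) ?_) (le_sSup (Or.inl rfl))
      rw [cj_inf, cj_centralizer, cj_eq_of_mem_normalizer (le_normalizer_zl _ _ hg)]
      exact inf_le_right
    · exact le_sSup (a := cj g D) (Or.inr ⟨h1.cj (le_normalizer_zl _ _ hg), hgS D (Or.inr ⟨h1, h2⟩)⟩)
  have hex : ∃ i, ∃ D ∈ Fam, ¬ D ≤ o2 (X i) := by
    by_contra hcon
    push Not at hcon
    have hKB : sSup Fam ≤ B := sSup_le hFamB
    have hKS : sSup Fam ≤ (S : Subgroup G) := hKB.trans a.wc.le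
    have hcl' : ∀ g ∈ J, cj g (sSup Fam) ≤ (S : Subgroup G) → cj g (sSup Fam) ≤ sSup Fam := by
      intro g hg hgS
      rw [cj_sSup]
      exact iSup_le fun D => hcl g hg (fun D hD => (cj_mono g (le_sSup hD)).trans hgS) D D.2
    have hcore : sSup Fam ≤ o2 J := by
      refine le_o2 (hKS.trans hSJ) (S.isPGroup'.to_le hKS) (sup_le ?_ (iSup_le fun i => ?_))
      · intro m hm
        refine mem_normalizer_of_map_le (hcl' m (hMJ hm) ?_)
        have h1 := cj_mono m hKB
        rw [cj_eq_of_mem_normalizer hm] at h1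
        exact h1.trans a.wc.le
      · intro x hx
        refine mem_normalizer_of_map_le (hcl' x (hXJ i hx) ?_)
        have h1 := cj_mono x (sSup_le (hcon i) : sSup Fam ≤ o2 (X i))
        rw [cj_eq_of_mem_normalizer (le_normalizer_o2 _ hx)] at h1
        exact h1.trans ((o2_le_syl ((f i).sylX (p i))).trans (f i).T_le)
    exact (hA0.cj hn).ne (((le_sSup (a := cj n A0) (Or.inr ⟨hA0.cj hn, hnS⟩)).trans hcore).trans (o2_cent hSJ char2))
  obtain ⟨i, D, hD, hDX⟩ := hex
  rcases hD with rfl | ⟨h1, h2⟩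
  · exact absurd (le_o2_of_cent a hc (f i) (p i) hCB (inf_le_right.trans (centralizer_le (hUJ i)))) hDX
  · exact ⟨D, h1, hAV D h1 h2, i, hDX⟩

end fam

/-! ### the M-side in `V_H` -/

section mx

variable {F T X H : Subgroup G} (a : Adm S L B) (hc : IsCharacteristicTwoType G)
  (f : Fl S (VB (S : Subgroup G) B) F T) (p : Par (VB (S : Subgroup G) B) F T X)
  (hM : normalizer (B : Set G) ≤ H) (hX : X ≤ H) (hH : H ⊓ centralizer (o2 H : Set G) ≤ o2 H)

omit [Finite G] in
/-- `H` normalises `V_H` -/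
theorem nH (S : Subgroup G) (H : Subgroup G) : H ≤ normalizer (zl S H : Set G) := le_normalizer_zl _ _

include a hM hH in
theorem cH : zl (S : Subgroup G) H ≤ centralizer (zl (S : Subgroup G) H : Set G) :=
  zl_cent ((wc_S_le a.wc).trans hM) hH

omit [Finite G] in
include hM in
theorem V_le_H (S : Subgroup G) : VB S B ≤ zl S H := NOThreeL.Star.zl_mono _ hM

include a hc f p hM hX hH

/-- the panel acts on `V_H` -/
theorem sitH : Sit (VB (S : Subgroup G) B) F T X (zl (S : Subgroup G) H) :=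
  Sit.of_fl hc a.lines f p (cH a hM hH) (zl_sq' ((wc_S_le a.wc).trans hM) hH) (V_le_H hM _)
    (hX.trans (le_normalizer_zl _ _))

/-- the M-side frame in the module `V_H`, for every line moved by `A` -/
theorem mxH' {A : Subgroup G} (hA : Opt (zl (S : Subgroup G) H) A) (hAB : A ≤ B)
    (hAX : ¬ A ≤ o2 X) (h2 : Two (VB (S : Subgroup G) B) X)
    {x : ↥(im (nH (S : Subgroup G) H) X)}
    (hx : ¬ imx (nH (S : Subgroup G) H) X A ≤
      nf _ (sm x (ad (cH a hM hH) (VB (S : Subgroup G) B)))) :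
    MX (im (nH (S : Subgroup G) H) (normalizer (B : Set G))) (im (nH (S : Subgroup G) H) X)
      (im (nH (S : Subgroup G) H) B) (im (nH (S : Subgroup G) H) A)
      (ad (cH a hM hH) (VB (S : Subgroup G) B)) (ad (cH a hM hH) F) (x : XX (nH (S : Subgroup G) H)) := by
  have s := sitH a hc f p hM hX hH
  have hSM : (S : Subgroup G) ≤ normalizer (B : Set G) := wc_S_le a.wc
  have hBT : B ≤ T := by
    have hQ := f.Q0_le
    rwa [a.cs] at hQ
  have hBV : B ≤ centralizer (VB (S : Subgroup G) B : Set G) :=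
    a.cs.symm.le.trans (inf_le_right (a := (S : Subgroup G)))
  obtain ⟨P, hP⟩ := s.exists_syl (nH (S : Subgroup G) H) hX
  have hAT : A ≤ T := hAB.trans hBT
  have hAXX : A ≤ X := hAT.trans s.syl.1
  have e : (imx (nH (S : Subgroup G) H) X A).map (im (nH (S : Subgroup G) H) X).subtype =
      im (nH (S : Subgroup G) H) A := by
    unfold imx
    rw [subgroupOf_map_subtype]
    exact inf_eq_left.2 (LocBar.im_mono _ hAXX)
  have key := mx_of_tight (faith (hc := s.cm) (nH (S : Subgroup G) H)) (s.datU (nH (S : Subgroup G) H) hX hP)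
    (s.mbu (nH (S : Subgroup G) H) hX hA hAT hAX) (by
      intro h0
      refine s.two_ne hA hAT hAX h2 fun a ha => ?_
      have h1 : phi (nH (S : Subgroup G) H) hX ⟨a, hAXX ha.1⟩ ∈
          imx (nH (S : Subgroup G) H) X A ⊓ pCore 2 ↥(im (nH (S : Subgroup G) H) X) :=
        ⟨phi_mem_imx _ hX ha.1, (s.mem_core_iff _ hX (hAT ha.1)).2 ha.2⟩
      rw [h0, mem_bot] at h1
      exact (phi_eq_one _ hX).1 h1)
    (M := im (nH (S : Subgroup G) H) (normalizer (B : Set G)))
    (D := im (nH (S : Subgroup G) H) B)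
    (fun m hm v hv => LocBar.im_smul _ (le_normalizer_zl _ _) hm hv)
    (LocBar.im_mono _ (hBT.trans s.syl.1)) (by rw [e]; exact LocBar.im_mono _ hAB)
    (fun m hm d hd => LocBar.im_conj _ le_rfl hm hd)
    (fun d hd v hv => LocBar.im_fix _ hBV hd hv) (by
      rw [← s.core_eq (nH (S : Subgroup G) H) hX]
      unfold imx
      rw [subgroupOf_map_subtype]
      refine inf_le_left.trans (LocBar.im_mono _ ?_)
      exact (o2_le_syl s.syl).trans (f.T_le.trans hSM))
      (LocBar.red_im (S := (S : Subgroup G)) (Z := zc (S : Subgroup G)) (nH (S : Subgroup G) H) hM (syl_of_le hSM)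
        (V_le_H hM _) (le_normalizer_zl _ _) (zc_le_zl _ _) (le_centralizer_zc _) fun _ hW hWM => zl_le hW hWM) hx
  rwa [e] at key

/-- the M-side frame in the module `V_H` -/
theorem mxH {A : Subgroup G} (hA : Opt (zl (S : Subgroup G) H) A) (hAB : A ≤ B)
    (hAX : ¬ A ≤ o2 X) (h2 : Two (VB (S : Subgroup G) B) X) :
    ∃ x ∈ im (nH (S : Subgroup G) H) X, MX (im (nH (S : Subgroup G) H) (normalizer (B : Set G)))
      (im (nH (S : Subgroup G) H) X) (im (nH (S : Subgroup G) H) B) (im (nH (S : Subgroup G) H) A)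
      (ad (cH a hM hH) (VB (S : Subgroup G) B)) (ad (cH a hM hH) F) x := by
  have s := sitH a hc f p hM hX hH
  have hBT : B ≤ T := by
    have hQ := f.Q0_le
    rwa [a.cs] at hQ
  obtain ⟨x, hx⟩ := (s.tight (nH (S : Subgroup G) H) hX hA (hAB.trans hBT) hAX).ex
  exact ⟨x, x.2, mxH' a hc f p hM hX hH hA hAB hAX h2 hx⟩

end mx

/-- The blocks of `V` for the panel with flat `F`, in the module `V_H`. -/
def BlkOf (S : Subgroup G) (B F H : Subgroup G) (hU : zl S H ≤ centralizer (zl S H : Set G)) : Prop :=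
  ∃ (BB : Subgroup (XX (nH S H))) (Lw C : AddSubgroup (MU hU)) (x : XX (nH S H))
    (hV : ∀ m ∈ im (nH S H) (normalizer (B : Set G)), ∀ v ∈ ad hU (VB S B), m • v ∈ ad hU (VB S B)),
    Blk0 (sbc (im (nH S H) (normalizer (B : Set G))) (FFq (im (nH S H) (normalizer (B : Set G))) (ad hU F)))
      (FFq (im (nH S H) (normalizer (B : Set G))) (ad hU F)) BB (ad hU (VB S B)) (ad hU F) Lw C x
      (im (nH S H) (normalizer (B : Set G))) (KV (im (nH S H) (normalizer (B : Set G))) (ad hU (VB S B)) hV)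
      (im (nH S H) S)

section blk

variable {F T X H : Subgroup G} (a : Adm S L B) (hc : IsCharacteristicTwoType G)
  (f : Fl S (VB (S : Subgroup G) B) F T) (p : Par (VB (S : Subgroup G) B) F T X)
  (hM : normalizer (B : Set G) ≤ H) (hX : X ≤ H) (hH : H ⊓ centralizer (o2 H : Set G) ≤ o2 H)
include a hc f p hM hX hH

theorem blkH {A : Subgroup G} (hA : Opt (zl (S : Subgroup G) H) A) (hAB : A ≤ B)
    (hAX : ¬ A ≤ o2 X) (h2 : Two (VB (S : Subgroup G) B) X) :
    BlkOf (S : Subgroup G) B F H (cH a hM hH) := by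
  obtain ⟨x, -, m⟩ := mxH a hc f p hM hX hH hA hAB hAX h2
  have hSM : (S : Subgroup G) ≤ normalizer (B : Set G) := wc_S_le a.wc
  exact ⟨_, _, _, _, _, Chain.blk0 m (LocBar.im_mono _ hSM) (Chain.S2_bar _)
    (syl_not_dvd (LocBar.syl_im (nH (S : Subgroup G) H) (syl_of_le hSM) hM))
    (Chain.gen_bar _ _ hM (V_le_H hM _) (zc_le_zl _ _) fun _ hW hWM => zl_le hW hWM)⟩

end blk

end Cfsg.Agent.Omega.NO3b.BasePt
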