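import Cfsg.Agent.Omega.NO3b.BasePt.PairCore

/-!
# Two panels (NotFFG, base point, (B1); helper25, helper957)

* `isBlk_conj`, `pb_conj` : conjugation with `m ∈ M`;
* **`pair`** : for two panels with `Ka ≤ Kb`: `Yb` is conjugate to `Ya` in `M`, or all conjugates of `Ya`, `Yb`
  centralise the blocks of each other.
-/

set_option autoImplicit false

namespace Cfsg.Agent.Omega.NO3b.BasePt.Pr

open Subgroup
open Cfsg.Agent.Omega.NO3b.Exit Cfsg.Agent.Omega.NO3b.Exit.Ten Cfsg.Agent.Omega.NO3b.Exit.Descent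
open Cfsg.Agent.Omega.NO3b.Exit.TDat (Red)
open Cfsg.Agent.Omega.FF.Basic (fx)
open scoped Pointwise

universe u v w

variable {Γ : Type u} [Group Γ] {W : Type v} [AddCommGroup W] [DistribMulAction Γ W]

/-- `m Y m⁻¹` -/
abbrev cj (m : Γ) (Y : Subgroup Γ) : Subgroup Γ := Y.map (MulAut.conj m).toMonoidHom

theorem mem_cj {m : Γ} {Y : Subgroup Γ} {x : Γ} : x ∈ cj m Y ↔ m⁻¹ * x * m ∈ Y := by
  constructor
  · rintro ⟨y, hy, rfl⟩
    have e : m⁻¹ * (m * y * m⁻¹) * m = y := by group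
    change m⁻¹ * (m * y * m⁻¹) * m ∈ Y
    rwa [e]
  · intro h
    refine ⟨m⁻¹ * x * m, h, ?_⟩
    change m * (m⁻¹ * x * m) * m⁻¹ = x
    group

theorem cj_cj (m n : Γ) (Y : Subgroup Γ) : cj m (cj n Y) = cj (m * n) Y := by
  ext x
  rw [mem_cj, mem_cj, mem_cj]
  have e : n⁻¹ * (m⁻¹ * x * m) * n = (m * n)⁻¹ * x * (m * n) := by group
  rw [e]

theorem cj_one (Y : Subgroup Γ) : cj 1 Y = Y := by
  ext x
  rw [mem_cj, inv_one, one_mul, mul_one]

theorem cj_mem {m : Γ} {Y : Subgroup Γ} {y : Γ} (hy : y ∈ Y) : m * y * m⁻¹ ∈ cj m Y := ⟨y, hy, rfl⟩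

theorem cm_cj (m : Γ) (Y : Subgroup Γ) : cm W (cj m Y) = m • cm W Y := by
  apply le_antisymm
  · refine (AddSubgroup.closure_le _).2 ?_
    rintro _ ⟨_, ⟨y, hy, rfl⟩, w, rfl⟩
    have e : (MulAut.conj m).toMonoidHom y • w - w = m • (y • (m⁻¹ • w) - m⁻¹ • w) := by
      change (m * y * m⁻¹) • w - w = _
      rw [smul_sub, smul_inv_smul, mul_smul, mul_smul]
    rw [e]
    exact AddSubgroup.smul_mem_pointwise_smul _ _ _ (br_mem_cm hy _)
  · intro v hv
    obtain ⟨w, hw, rfl⟩ := (AddSubgroup.mem_smul_pointwise_iff_exists _ _ _).1 hv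
    clear hv
    change w ∈ AddSubgroup.closure _ at hw
    induction hw using AddSubgroup.closure_induction with
    | mem w hw =>
      obtain ⟨y, hy, w, rfl⟩ := hw
      have e : m • (y • w - w) = (m * y * m⁻¹) • (m • w) - m • w := by
        rw [smul_sub, mul_smul, mul_smul, inv_smul_smul]
      rw [e]
      exact br_mem_cm (cj_mem hy) _
    | zero => rw [smul_zero]; exact zero_mem _
    | add a b _ _ ha hb => rw [smul_add]; exact add_mem ha hb
    | neg a _ ha => rw [smul_neg]; exact neg_mem ha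

/-- `m Y m⁻¹ → Y` -/
def rho (m : Γ) (Y : Subgroup Γ) : cj m Y →* Y where
  toFun x := ⟨m⁻¹ * x * m, mem_cj.1 x.2⟩
  map_one' := Subtype.ext (by change m⁻¹ * 1 * m = 1; group)
  map_mul' x y := Subtype.ext (by
    change m⁻¹ * ((x : Γ) * (y : Γ)) * m = m⁻¹ * x * m * (m⁻¹ * y * m)
    group)

theorem rho_surj (m : Γ) (Y : Subgroup Γ) (y : Y) : ∃ x, rho m Y x = y :=
  ⟨⟨m * y * m⁻¹, cj_mem y.2⟩, Subtype.ext (by change m⁻¹ * (m * (y : Γ) * m⁻¹) * m = y; group)⟩

section tr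

variable {Y : Subgroup Γ} {A : Type w} [AddCommGroup A] [Finite A] [iA : DistribMulAction Y A] [hI : IsIrr Y A]

/-- `A` with the action of `m Y m⁻¹` -/
@[reducible] def actCj (m : Γ) (Y : Subgroup Γ) (A : Type w) [AddCommGroup A] [DistribMulAction Y A] :
    DistribMulAction (cj m Y) A := DistribMulAction.compHom A (rho m Y)

omit [Finite A] in
theorem isIrr_cj (m : Γ) : letI := actCj m Y A; IsIrr (cj m Y) A := by
  let _ := actCj m Y A
  refine ⟨hI.ne, fun N hN => hI.irr N fun k n hn => ?_⟩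
  obtain ⟨x, rfl⟩ := rho_surj m Y k
  exact hN x n hn

/-- `End_Y(A) = End_{mYm⁻¹}(A)` -/
def kkEquiv (m : Γ) : letI := actCj m Y A; letI := isIrr_cj (A := A) (Y := Y) m; KK Y A ≃+* KK (cj m Y) A :=
  letI := actCj m Y A
  letI := isIrr_cj (A := A) (Y := Y) m
  let F : KK Y A → KK (cj m Y) A := fun κ => ⟨κ.1, fun x a => κ.2 (rho m Y x) a⟩
  { toFun := F
    invFun := fun κ => ⟨κ.1, fun k a => by
      obtain ⟨x, rfl⟩ := rho_surj m Y k
      exact κ.2 x a⟩
    left_inv := fun κ => rfl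
    right_inv := fun κ => rfl
    map_mul' := fun x y => Subtype.ext ((KK.val_mul x y).trans (KK.val_mul (F x) (F y)).symm)
    map_add' := fun x y => Subtype.ext ((KK.val_add x y).trans (KK.val_add (F x) (F y)).symm) }

theorem kkEquiv_smul (m : Γ) (κ : KK Y A) (a : A) :
    letI := actCj m Y A; letI := isIrr_cj (A := A) (Y := Y) m; kkEquiv (A := A) (Y := Y) m κ • a = κ • a := rfl

theorem kkEquiv_symm_smul (m : Γ) (κ : letI := actCj m Y A; letI := isIrr_cj (A := A) (Y := Y) m; KK (cj m Y) A)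
    (a : A) : letI := actCj m Y A; letI := isIrr_cj (A := A) (Y := Y) m;
      (kkEquiv (A := A) (Y := Y) m).symm κ • a = κ • a := rfl

/-- `Hom_Y(A, W) = Hom_{mYm⁻¹}(A, W)` -/
def homEquiv (m : Γ) : letI := actCj m Y A; HomY Y A W ≃+ HomY (cj m Y) A W := by
  letI := actCj m Y A
  have key : ∀ (l : Γ) (x : Γ) (w : W), (l * x * l⁻¹) • l • w = l • x • w := fun l x w => by
    rw [mul_smul, mul_smul, inv_smul_smul]
  exact
    { toFun := fun f => ⟨(DistribSMul.toAddMonoidHom W m).comp (f : A →+ W), fun x a => by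
        change m • (f : A →+ W) (rho m Y x • a) = (x : Γ) • m • (f : A →+ W) a
        rw [f.2]
        change m • (m⁻¹ * (x : Γ) * m) • (f : A →+ W) a = _
        rw [← key m]
        congr 1
        group⟩
      invFun := fun f => ⟨(DistribSMul.toAddMonoidHom W m⁻¹).comp (f : A →+ W), fun k a => by
        obtain ⟨x, rfl⟩ := rho_surj m Y k
        change m⁻¹ • (f : A →+ W) (x • a) = (m⁻¹ * (x : Γ) * m) • m⁻¹ • (f : A →+ W) a
        rw [f.2, mul_smul, mul_smul, smul_inv_smul]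
        rfl⟩
      left_inv := fun f => Subtype.ext (by ext a; exact inv_smul_smul m _)
      right_inv := fun f => Subtype.ext (by ext a; exact smul_inv_smul m _)
      map_add' := fun f g => Subtype.ext (by ext a; exact smul_add m _ _) }

theorem allTv_cj (m : Γ) (tv : AllTv Y A) :
    letI := actCj m Y A; letI := isIrr_cj (A := A) (Y := Y) m; AllTv (cj m Y) A := by
  let _ := actCj m Y A
  let _ := isIrr_cj (A := A) (Y := Y) m
  intro φ a ha
  let r := kkEquiv (A := A) (Y := Y) m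
  let ψ : Module.Dual (KK Y A) A :=
    { toFun := fun x => r.symm (φ x)
      map_add' := fun x y => by rw [map_add, map_add]
      map_smul' := fun κ x => by
        have h1 : φ (κ • x) = r κ * φ x := by
          have h2 := φ.map_smul (r κ) x
          rw [smul_eq_mul] at h2
          exact h2
        rw [h1, map_mul, RingEquiv.symm_apply_apply]
        rfl }
  obtain ⟨k, hk⟩ := tv ψ a (by change r.symm (φ a) = 0; rw [ha, map_zero])
  obtain ⟨x, rfl⟩ := rho_surj m Y k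
  exact ⟨x, fun b => (hk b).trans rfl⟩

theorem finrank_cj (m : Γ) : letI := actCj m Y A; letI := isIrr_cj (A := A) (Y := Y) m;
    Module.finrank (KK (cj m Y) A) A = Module.finrank (KK Y A) A := by
  let _ := actCj m Y A
  let _ := isIrr_cj (A := A) (Y := Y) m
  let r := kkEquiv (A := A) (Y := Y) m
  have h := rank_eq_of_equiv_equiv (R := KK Y A) (R' := KK (cj m Y) A) (M := A) (M₁ := A) r (AddEquiv.refl A) r.bijective
    (fun κ a => rfl)
  unfold Module.finrank
  rw [h]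

theorem finrank_hom_cj (m : Γ) : letI := actCj m Y A; letI := isIrr_cj (A := A) (Y := Y) m;
    Module.finrank (KK (cj m Y) A) (HomY (cj m Y) A W) = Module.finrank (KK Y A) (HomY Y A W) := by
  let _ := actCj m Y A
  let _ := isIrr_cj (A := A) (Y := Y) m
  let r := kkEquiv (A := A) (Y := Y) m
  have h := rank_eq_of_equiv_equiv (R := KK Y A) (R' := KK (cj m Y) A) (M := HomY Y A W) (M₁ := HomY (cj m Y) A W) r
    (homEquiv m) r.bijective (fun κ a => rfl)
  unfold Module.finrank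
  rw [h]

end tr

theorem isBlk_conj {Y : Subgroup Γ} (h : IsBlk W Y) (m : Γ) : IsBlk W (cj m Y) := by
  obtain ⟨A, iA1, iA2, iA3, iA4, tv, two, hV, dA, dE⟩ := h.ex
  refine ⟨?_, A, iA1, iA2, actCj m Y A, isIrr_cj m, allTv_cj m tv, two, ?_, ?_, ?_⟩
  · rintro _ ⟨y, hy, rfl⟩
    have h1 := h.gen hy
    clear hy
    induction h1 using closure_induction with
    | mem y hy =>
      refine subset_closure ⟨cj_mem hy.1, ?_⟩
      change m * y * m⁻¹ * (m * y * m⁻¹) = 1
      have e : m * y * m⁻¹ * (m * y * m⁻¹) = m * (y * y) * m⁻¹ := by group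
      rw [e, hy.2]
      group
    | one => rw [map_one]; exact one_mem _
    | mul a b _ _ ha hb => rw [map_mul]; exact mul_mem ha hb
    | inv a _ ha => rw [map_inv]; exact inv_mem ha
  · let _ := actCj m Y A
    rw [cm_cj, hV]
    apply le_antisymm
    · intro v hv
      obtain ⟨w, hw, rfl⟩ := (AddSubgroup.mem_smul_pointwise_iff_exists _ _ _).1 hv
      clear hv
      change w ∈ AddSubgroup.closure _ at hw
      induction hw using AddSubgroup.closure_induction with
      | mem w hw =>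
        obtain ⟨f, a, rfl⟩ := hw
        exact mem_img (homEquiv m f) a
      | zero => rw [smul_zero]; exact zero_mem _
      | add a b _ _ ha hb => rw [smul_add]; exact add_mem ha hb
      | neg a _ ha => rw [smul_neg]; exact neg_mem ha
    · refine (AddSubgroup.closure_le _).2 ?_
      rintro _ ⟨f, a, rfl⟩
      obtain ⟨g, rfl⟩ := (homEquiv (W := W) (A := A) (Y := Y) m).surjective f
      exact AddSubgroup.smul_mem_pointwise_smul _ _ _ (mem_img g a)
  · rw [finrank_cj]; exact dA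
  · rw [finrank_hom_cj]; exact dE

theorem pb_conj {M Y K : Subgroup Γ} {F : AddSubgroup W} (p : PB W M F Y K) {m : Γ} (hm : m ∈ M) :
    PB W M (m • F) (cj m Y) K := by
  have hsm : ∀ (m : Γ) (X : AddSubgroup W) (v : W), v ∈ m • X ↔ m⁻¹ • v ∈ X := fun m X v =>
    AddSubgroup.mem_pointwise_smul_iff_inv_smul_mem
  have hcm := cm_cj (W := W) m Y
  have hK : ∀ k ∈ K, m⁻¹ * k * m ∈ K := fun k hk => by
    have := p.nK m⁻¹ (inv_mem hm) k hk
    rwa [inv_inv] at this
  refine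
    { blk := isBlk_conj p.blk m
      YK := fun x hx => by
        obtain ⟨y, hy, rfl⟩ := hx
        exact p.nK m hm y (p.YK hy)
      KM := p.KM
      nK := p.nK
      flat := ?_
      dich := ?_
      cen := ?_
      stab := ?_
      lin := ?_ }
  · obtain ⟨Q, hQ, hQF⟩ := p.flat
    refine ⟨cj m Q, Subgroup.map_mono hQ, ?_⟩
    rw [← hQF]
    ext v
    rw [hsm]
    constructor
    · intro hv q hq
      have h1 := hv (m * q * m⁻¹) (cj_mem hq)
      rw [mul_smul, mul_smul] at h1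
      rw [← inv_smul_smul m (q • m⁻¹ • v), h1]
    · rintro hv _ ⟨q, hq, rfl⟩
      change (m * q * m⁻¹) • v = v
      rw [mul_smul, mul_smul, hv q hq, smul_inv_smul]
  · intro l hl
    rw [hcm]
    have e : l • m • cm W Y = m • ((m⁻¹ * l * m) • cm W Y) := by
      rw [smul_smul, smul_smul]; congr 1; group
    rcases p.dich (m⁻¹ * l * m) (mul_mem (mul_mem (inv_mem hm) hl) hm) with h1 | h1
    · left; rw [e, h1]
    · right
      rw [e, eq_bot_iff]
      rintro v ⟨h2, h3⟩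
      have h4 : m⁻¹ • v ∈ (m⁻¹ * l * m) • cm W Y ⊓ cm W Y := ⟨(hsm _ _ _).1 h2, (hsm _ _ _).1 h3⟩
      rw [h1, AddSubgroup.mem_bot] at h4
      rw [AddSubgroup.mem_bot, ← smul_inv_smul m v, h4, smul_zero]
  · intro l hl hne y hy v hv
    rw [hcm] at hne hv
    have e : l • m • cm W Y = m • ((m⁻¹ * l * m) • cm W Y) := by
      rw [smul_smul, smul_smul]; congr 1; group
    rw [e] at hne hv
    have h1 := p.cen (m⁻¹ * l * m) (mul_mem (mul_mem (inv_mem hm) hl) hm) (fun h => hne (by rw [h]))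
      (m⁻¹ * y * m) (mem_cj.1 hy) (m⁻¹ • v) ((hsm _ _ _).1 hv)
    rw [mul_smul, mul_smul, smul_inv_smul] at h1
    exact smul_left_cancel m⁻¹ h1
  · intro k hk
    rw [hcm]
    have e : k • m • cm W Y = m • ((m⁻¹ * k * m) • cm W Y) := by
      rw [smul_smul, smul_smul]; congr 1; group
    rw [e, p.stab _ (hK k hk)]
  · intro k hk e he v v' h
    -- transport `e`
    have hm1 : ∀ v ∈ cm W Y, m • v ∈ cm W (cj m Y) := fun v hv => by
      rw [hcm]; exact AddSubgroup.smul_mem_pointwise_smul _ _ _ hv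
    have hm2 : ∀ v ∈ cm W (cj m Y), m⁻¹ • v ∈ cm W Y := fun v hv => by
      rw [hcm] at hv; exact (hsm _ _ _).1 hv
    let e' : cm W Y →+ cm W Y :=
      { toFun := fun v => ⟨m⁻¹ • (e ⟨m • (v : W), hm1 _ v.2⟩ : W), hm2 _ (e _).2⟩
        map_zero' := Subtype.ext (by
          have h1 : (⟨m • ((0 : cm W Y) : W), hm1 _ (0 : cm W Y).2⟩ : cm W (cj m Y)) = 0 := Subtype.ext (smul_zero m)
          change m⁻¹ • (e ⟨m • ((0 : cm W Y) : W), hm1 _ (0 : cm W Y).2⟩ : W) = 0
          rw [h1, map_zero]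
          exact smul_zero _)
        map_add' := fun x y => Subtype.ext (by
          have h1 : (⟨m • ((x + y : cm W Y) : W), hm1 _ (x + y).2⟩ : cm W (cj m Y)) =
              ⟨m • (x : W), hm1 _ x.2⟩ + ⟨m • (y : W), hm1 _ y.2⟩ := Subtype.ext (smul_add m _ _)
          change m⁻¹ • (e ⟨m • ((x + y : cm W Y) : W), hm1 _ (x + y).2⟩ : W) = _
          rw [h1, map_add]
          exact smul_add _ _ _) }
    have he' : ∀ (v : cm W Y) (w : cm W (cj m Y)), (w : W) = m • (v : W) → (e' v : W) = m⁻¹ • (e w : W) := by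
      intro v w hw
      have h1 : w = ⟨m • (v : W), hm1 _ v.2⟩ := Subtype.ext hw
      rw [h1]
      rfl
    have h1 := p.lin (m⁻¹ * k * m) (hK k hk) e' (fun y hy w w' hw => by
      rw [he' w ⟨m • (w : W), hm1 _ w.2⟩ rfl, he' w' ⟨m • (w' : W), hm1 _ w'.2⟩ rfl]
      have h2 := he (m * y * m⁻¹) (cj_mem hy) ⟨m • (w : W), hm1 _ w.2⟩ ⟨m • (w' : W), hm1 _ w'.2⟩ (by
        change m • (w' : W) = (m * y * m⁻¹) • m • (w : W)
        rw [hw, mul_smul, mul_smul, inv_smul_smul])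
      rw [h2, mul_smul, mul_smul, inv_smul_smul])
      ⟨m⁻¹ • (v : W), hm2 _ v.2⟩ ⟨m⁻¹ • (v' : W), hm2 _ v'.2⟩ (by
        change m⁻¹ • (v' : W) = (m⁻¹ * k * m) • m⁻¹ • (v : W)
        rw [h, mul_smul, mul_smul, smul_inv_smul])
    have h2 := he' ⟨m⁻¹ • (v : W), hm2 _ v.2⟩ v (smul_inv_smul m (v : W)).symm
    have h3 := he' ⟨m⁻¹ • (v' : W), hm2 _ v'.2⟩ v' (smul_inv_smul m (v' : W)).symm
    rw [h2, h3, mul_smul, mul_smul, smul_inv_smul] at h1
    exact smul_left_cancel m⁻¹ h1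

end Cfsg.Agent.Omega.NO3b.BasePt.Pr

namespace Cfsg.Agent.Omega.NO3b.BasePt

open Subgroup Pr
open Cfsg.Agent.Omega.NO3b.Exit.TDat (Red)
open scoped Pointwise

universe u v

variable {Γ : Type u} [Group Γ] {W : Type v} [AddCommGroup W] [DistribMulAction Γ W]

/-- **Two panels.** -/
theorem pair [Finite Γ] [Finite W] {M : Subgroup Γ} {Fa Fb : AddSubgroup W} {Ya Ka Yb Kb : Subgroup Γ}
    (faith : ∀ g : Γ, (∀ w : W, g • w = w) → g = 1) (two : ∀ w : W, w + w = 0)
    (red : Red M (⊤ : AddSubgroup W)) (pa : PB W M Fa Ya Ka) (pb : PB W M Fb Yb Kb) (hK : Ka ≤ Kb) :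
    (∃ m ∈ M, Yb = cj m Ya) ∨
      ∀ m ∈ M, (∀ y ∈ Ya, ∀ v ∈ m • cm W Yb, y • v = v) ∧ ∀ y ∈ Yb, ∀ v ∈ m • cm W Ya, y • v = v := by
  by_cases h : ∀ m ∈ M, ∀ y ∈ Ya, ∀ v ∈ m • cm W Yb, y • v = v
  · exact Or.inr fun m hm => ⟨h m hm, pair_triv pa (pb.YK.trans pb.KM) h m hm⟩
  · left
    push Not at h
    obtain ⟨m, hm, y, hy, v, hv, hne⟩ := h
    have hv' : m⁻¹ • v ∈ cm W Yb := AddSubgroup.mem_pointwise_smul_iff_inv_smul_mem.1 hv
    refine ⟨m⁻¹, inv_mem hm, (pair_core faith two red (pb_conj pa (inv_mem hm)) pb hK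
      ⟨m⁻¹ * y * m⁻¹⁻¹, cj_mem hy, m⁻¹ • v, hv', fun h1 => hne ?_⟩).symm⟩
    rw [inv_inv, mul_smul, mul_smul, smul_inv_smul] at h1
    exact smul_left_cancel m⁻¹ h1

end Cfsg.Agent.Omega.NO3b.BasePt
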