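import Cfsg.Agent.Omega.NO3b.BasePt.OfPanel
import Cfsg.Agent.Omega.NO3b.BasePt.Pair

/-!
# NotFFG (3L-T), (B): the family of the blocks of all panels, abstractly

`V ≤ U_p` abelian subgroups of `G`, `M₀ ≤ N ≤ N_G(V)`; panels `p` with flat `F p < V` and a `Blk0` in `U_p` (`BU`); for
two panels `p`, `q` some `U' ≥ U_p, U_q` with a `Blk0` for `p` or for `q` in `U'`.

* `Cj`, `Mt` : conjugate, mutually trivial under `M`;
* `PU` : the block `Y` of a panel on `V`, from `U`; `PU.cj` : the blocks of one panel from `U` and from `U' ≤ U` are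
  conjugate; `dich_two` : two panels;
* `fam_of`, `gas_of` : `Fam` and `W = Σ [W, Y] + C_W(∏ Y)`;
* **`exists_fam`**.
-/

set_option autoImplicit false

namespace Cfsg.Agent.Omega.NO3b.BasePt.FamG

open Subgroup Cfsg
open Cfsg.Agent.Omega.NO3b.EZero (NotFF)
open Cfsg.Agent.Omega.NO3b.Exit
open Cfsg.Agent.Omega.NO3b.Exit.Bridge
open Cfsg.Agent.Omega.NO3b.Exit.Descent
open Cfsg.Agent.Omega.NO3b.Exit.TDat (KV Red)
open Cfsg.Agent.Omega.NO3b.Exit.LocBar (pr_mem_im im_mono)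
open Cfsg.Agent.Omega.NO3b.Exit.BlkZ (Blk0)
open Cfsg.Agent.Omega.NO3b.Chain (pre mem_pre)
open Cfsg.Agent.Omega.FFBr (XX pr im mem_im)
open Cfsg.Agent.Omega.FF.Basic (fx)
open scoped Pointwise

universe u v

section abs

variable {Γ : Type u} [Group Γ] (W : Type v) [AddCommGroup W] [DistribMulAction Γ W]

/-- `Y`, `Y'` conjugate under `M` -/
def Cj (M Y Y' : Subgroup Γ) : Prop := ∃ m ∈ M, Y' = Y.map (MulAut.conj m).toMonoidHom

/-- `Y`, `Y'` mutually trivial -/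
def Mt (M Y Y' : Subgroup Γ) : Prop :=
  ∀ m ∈ M, (∀ y ∈ Y, ∀ v ∈ m • cm W Y', y • v = v) ∧ ∀ y ∈ Y', ∀ v ∈ m • cm W Y, y • v = v

variable {W} {M Y Y' Y'' : Subgroup Γ}

theorem cm_conj (m : Γ) (Y : Subgroup Γ) : cm W (Y.map (MulAut.conj m).toMonoidHom) = m • cm W Y := by
  unfold cm
  have e : m • AddSubgroup.closure {v : W | ∃ y ∈ Y, ∃ w : W, v = y • w - w} =
      AddSubgroup.closure (DistribSMul.toAddMonoidHom W m '' {v : W | ∃ y ∈ Y, ∃ w : W, v = y • w - w}) :=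
    AddMonoidHom.map_closure (DistribSMul.toAddMonoidHom W m) _
  rw [e]
  congr 1
  ext v
  rw [Set.mem_image]
  constructor
  · rintro ⟨_, ⟨y, hy, rfl⟩, w, rfl⟩
    refine ⟨y • (m⁻¹ • w) - m⁻¹ • w, ⟨y, hy, m⁻¹ • w, rfl⟩, ?_⟩
    change m • (y • (m⁻¹ • w) - m⁻¹ • w) = (m * y * m⁻¹) • w - w
    rw [smul_sub, smul_inv_smul, mul_smul, mul_smul]
  · rintro ⟨_, ⟨y, hy, w, rfl⟩, rfl⟩
    refine ⟨m * y * m⁻¹, ⟨y, hy, rfl⟩, m • w, ?_⟩
    change m • (y • w - w) = (m * y * m⁻¹) • (m • w) - m • w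
    rw [smul_sub, mul_smul, mul_smul, inv_smul_smul]

theorem map_conj_map (m n : Γ) (Y : Subgroup Γ) :
    (Y.map (MulAut.conj m).toMonoidHom).map (MulAut.conj n).toMonoidHom = Y.map (MulAut.conj (n * m)).toMonoidHom := by
  rw [Subgroup.map_map]
  congr 1
  ext x
  simp

theorem map_conj_one (Y : Subgroup Γ) : Y.map (MulAut.conj (1 : Γ)).toMonoidHom = Y := by
  ext x
  simp

theorem Cj.refl (M Y : Subgroup Γ) : Cj M Y Y := ⟨1, one_mem _, (map_conj_one Y).symm⟩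

theorem Cj.symm (h : Cj M Y Y') : Cj M Y' Y := by
  obtain ⟨m, hm, rfl⟩ := h
  exact ⟨m⁻¹, inv_mem hm, by rw [map_conj_map, inv_mul_cancel, map_conj_one]⟩

theorem Cj.trans (h : Cj M Y Y') (h' : Cj M Y' Y'') : Cj M Y Y'' := by
  obtain ⟨m, hm, rfl⟩ := h
  obtain ⟨n, hn, rfl⟩ := h'
  exact ⟨n * m, mul_mem hn hm, map_conj_map _ _ _⟩

theorem Mt.symm (h : Mt W M Y Y') : Mt W M Y' Y := fun m hm => ⟨(h m hm).2, (h m hm).1⟩

theorem mem_smul' {K : AddSubgroup W} {m : Γ} {v : W} : v ∈ m • K ↔ m⁻¹ • v ∈ K :=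
  AddSubgroup.mem_pointwise_smul_iff_inv_smul_mem

theorem Mt.left (h : Mt W M Y Y') (hc : Cj M Y Y'') : Mt W M Y'' Y' := by
  obtain ⟨n, hn, rfl⟩ := hc
  intro m hm
  constructor
  · rintro _ ⟨y, hy, rfl⟩ v hv
    have h1 := (h (n⁻¹ * m) (mul_mem (inv_mem hn) hm)).1 y hy (n⁻¹ • v) (by
      rw [mem_smul', smul_smul, mul_inv_rev, inv_inv, mul_assoc, mul_inv_cancel, mul_one]
      exact mem_smul'.1 hv)
    change (n * y * n⁻¹) • v = v
    rw [mul_smul, mul_smul, h1, smul_inv_smul]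
  · intro y hy v hv
    rw [cm_conj, smul_smul] at hv
    exact (h (m * n) (mul_mem hm hn)).2 y hy v hv

/-- two blocks of one family: the dichotomy for `Ya`, `Yb` from the dichotomies of `Y₀` with both. -/
theorem dich {Y₀ Ya Yb : Subgroup Γ} (h1 : Cj M Y₀ Ya) (h2 : Cj M Y₀ Yb ∨ Mt W M Y₀ Yb) :
    Cj M Ya Yb ∨ Mt W M Ya Yb := by
  rcases h2 with h2 | h2
  · exact Or.inl (h1.symm.trans h2)
  · exact Or.inr (h2.left h1)

/-- the blocks of one panel are conjugate -/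
theorem cj_of_flat {F : AddSubgroup W} (hF : ∃ w : W, w ∉ F)
    {Y₀ Y : Subgroup Γ} (f0 : ∃ Q ≤ Y₀, fx W Q = F) (f1 : ∃ Q ≤ Y, fx W Q = F)
    (dec : ∀ w : W, ∃ a ∈ cm W Y, ∃ c : W, (∀ y ∈ Y, y • c = c) ∧ w = a + c)
    (h : Cj M Y₀ Y ∨ Mt W M Y₀ Y) : Cj M Y₀ Y := by
  rcases h with h | h
  · exact h
  exfalso
  obtain ⟨Q₀, h0, e0⟩ := f0
  obtain ⟨Q, h1, e1⟩ := f1
  obtain ⟨w, hw⟩ := hF
  apply hw
  obtain ⟨a, ha, c, hc, rfl⟩ := dec w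
  have h2 : a ∈ fx W Q₀ := fun q hq => (h 1 (one_mem _)).1 q (h0 hq) a (by rwa [one_smul])
  have h3 : c ∈ fx W Q := fun q hq => hc q (h1 hq)
  rw [e0] at h2
  rw [e1] at h3
  exact add_mem h2 h3

end abs

/-! ### The family -/

section fam

variable {Γ : Type u} [Group Γ] {W : Type v} [AddCommGroup W] [DistribMulAction Γ W] {M : Subgroup Γ}
  {ι : Type*} {Y K : ι → Subgroup Γ} {F : ι → AddSubgroup W}

/-- all the `M`-conjugates of the `Y i` -/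
def orb (M : Subgroup Γ) (Y : ι → Subgroup Γ) : Set (Subgroup Γ) := {Y' | ∃ i, Cj M (Y i) Y'}

/-- `Y` moves its block -/
theorem exists_moved [Finite W] {Y : Subgroup Γ} (h : IsBlk W Y) : ∃ y ∈ Y, ∃ v ∈ cm W Y, y • v ≠ v := by
  obtain ⟨A, _, _, _, hI, tv, two, hV, dA, dE⟩ := h.ex
  obtain ⟨f, hf⟩ := Pr.exists_hom_ne dE
  by_contra hcon
  push Not at hcon
  apply hf
  apply Subtype.ext
  ext a
  have h1 : (f : A →+ W) a ∈ cm W Y := by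
    rw [hV]
    exact mem_img f a
  exact Pr.fix_eq_zero dA (Pr.allT_self (W := W) tv) (mem_img f a) fun y hy => hcon y hy _ h1

/-- conjugates with the same block are equal -/
theorem eq_of_cm [Finite Γ] [Finite W] (faith : ∀ g : Γ, (∀ w : W, g • w = w) → g = 1)
    (two : ∀ w : W, w + w = 0) (red : Red M (⊤ : AddSubgroup W)) {F : AddSubgroup W} {Y K : Subgroup Γ}
    (p : PB W M F Y K) {m : Γ} (hm : m ∈ M) (h : m • cm W Y = cm W Y) :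
    Y.map (MulAut.conj m).toMonoidHom = Y := by
  refine Pr.pair_core faith two red (Pr.pb_conj p hm) p le_rfl ?_
  obtain ⟨y, hy, v, hv, hne⟩ := exists_moved p.blk
  refine ⟨m * y * m⁻¹, Pr.cj_mem hy, m • v, ?_, fun h1 => hne ?_⟩
  · rw [← h]
    exact AddSubgroup.smul_mem_pointwise_smul _ _ _ hv
  · rw [mul_smul, mul_smul, inv_smul_smul] at h1
    exact smul_left_cancel m h1

theorem Cj.dec {Y₁ Y₂ : Subgroup Γ} (h : Cj M Y₁ Y₂)
    (d : ∀ w : W, ∃ a ∈ cm W Y₁, ∃ c : W, (∀ y ∈ Y₁, y • c = c) ∧ w = a + c) (w : W) :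
    ∃ a ∈ cm W Y₂, ∃ c : W, (∀ y ∈ Y₂, y • c = c) ∧ w = a + c := by
  obtain ⟨m, hm, rfl⟩ := h
  obtain ⟨a, ha, c, hc, e⟩ := d (m⁻¹ • w)
  refine ⟨m • a, ?_, m • c, ?_, ?_⟩
  · rw [cm_conj, mem_smul', inv_smul_smul]
    exact ha
  · rintro _ ⟨y, hy, rfl⟩
    change (m * y * m⁻¹) • m • c = m • c
    rw [mul_smul, mul_smul, inv_smul_smul, hc y hy]
  · rw [← smul_add, ← e, smul_inv_smul]

theorem fam_of [Finite Γ] [Finite W] (faith : ∀ g : Γ, (∀ w : W, g • w = w) → g = 1) (two : ∀ w : W, w + w = 0)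
    (red : Red M (⊤ : AddSubgroup W)) (pb : ∀ i, PB W M (F i) (Y i) (K i))
    (d : ∀ i j, Cj M (Y i) (Y j) ∨ Mt W M (Y i) (Y j)) : Fam W M (orb M Y) where
  faith := faith
  two := two
  le := by
    rintro _ ⟨i, m, hm, rfl⟩ _ ⟨y, hy, rfl⟩
    exact mul_mem (mul_mem hm ((pb i).KM ((pb i).YK hy))) (inv_mem hm)
  conj := by
    rintro Y' ⟨i, h⟩ m hm
    exact ⟨i, h.trans ⟨m, hm, rfl⟩⟩
  blk := by
    rintro _ ⟨i, m, hm, rfl⟩
    exact Pr.isBlk_conj (pb i).blk m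
  triv := by
    rintro Y₁ ⟨i, h1⟩ Y₂ ⟨j, h2⟩ hne y hy v hv
    rcases d i j with h | h
    · obtain ⟨m, hm, rfl⟩ := h1
      obtain ⟨k, hk, rfl⟩ := h.trans h2
      have p := pb i
      obtain ⟨y, hy, rfl⟩ := hy
      rw [cm_conj] at hv
      by_cases he : (m⁻¹ * k) • cm W (Y i) = cm W (Y i)
      · have h3 := eq_of_cm faith two red p (mul_mem (inv_mem hm) hk) he
        have h4 := congrArg (Subgroup.map (MulAut.conj m).toMonoidHom) h3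
        rw [map_conj_map, mul_inv_cancel_left] at h4
        exact absurd h4.symm hne
      · have h3 := p.cen _ (mul_mem (inv_mem hm) hk) he y hy (m⁻¹ • v) (by
          rw [mul_smul, mem_smul', inv_inv, smul_inv_smul]
          exact hv)
        change (m * y * m⁻¹) • v = v
        rw [mul_smul, mul_smul, h3, smul_inv_smul]
    · have h3 := ((h.left h1).symm.left h2).symm
      exact (h3 1 (one_mem _)).1 y hy v (by rwa [one_smul])

theorem gas_of {𝒴 : Set (Subgroup Γ)} [Finite Γ] (f : Fam W M 𝒴)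
    (d : ∀ Y ∈ 𝒴, ∀ w : W, ∃ a ∈ cm W Y, ∃ c : W, (∀ y ∈ Y, y • c = c) ∧ w = a + c) (w : W) :
    ∃ a ∈ AddSubgroup.closure {v : W | ∃ Y ∈ 𝒴, v ∈ cm W Y}, ∃ c : W, (∀ r ∈ RR 𝒴, r • c = c) ∧ w = a + c := by
  have key : ∀ T : Set (Subgroup Γ), T ⊆ 𝒴 → ∃ a ∈ AddSubgroup.closure {v : W | ∃ Y ∈ 𝒴, v ∈ cm W Y},
      ∃ c : W, (∀ Y ∈ T, ∀ y ∈ Y, y • c = c) ∧ w = a + c := by
    intro T
    refine Set.Finite.induction_on (motive := fun T _ => T ⊆ 𝒴 → ∃ a ∈ AddSubgroup.closure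
      {v : W | ∃ Y ∈ 𝒴, v ∈ cm W Y}, ∃ c : W, (∀ Y ∈ T, ∀ y ∈ Y, y • c = c) ∧ w = a + c) T (Set.toFinite T) ?_ ?_
    · intro _
      exact ⟨0, zero_mem _, w, fun Y hY => absurd hY (Set.notMem_empty Y), by rw [zero_add]⟩
    · intro Y T hYT _ ih hsub
      obtain ⟨a, ha, c, hc, e⟩ := ih ((Set.subset_insert _ _).trans hsub)
      have hY : Y ∈ 𝒴 := hsub (Set.mem_insert _ _)
      obtain ⟨a', ha', c', hc', e'⟩ := d Y hY c
      refine ⟨a + a', add_mem ha (AddSubgroup.subset_closure ⟨Y, hY, ha'⟩), c', ?_, by rw [e, e', add_assoc]⟩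
      intro Y₁ hY₁ y hy
      rcases Set.mem_insert_iff.1 hY₁ with rfl | h1
      · exact hc' y hy
      · have h2 : y • a' = a' := f.triv Y₁ (hsub hY₁) Y hY (fun h => hYT (h ▸ h1)) y hy a' ha'
        have h3 := hc Y₁ h1 y hy
        rw [e', smul_add, h2] at h3
        exact add_left_cancel h3
  obtain ⟨a, ha, c, hc, e⟩ := key 𝒴 le_rfl
  refine ⟨a, ha, c, fun r hr => ?_, e⟩
  have h1 : RR 𝒴 ≤ MulAction.stabilizer Γ c := sSup_le fun Y hY y hy => hc Y hY y hy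
  exact h1 hr

end fam

/-! ### level of `G` -/

section group

variable {G : Type u} [Group G]

/-- `Blk0` of the panel with flat `F` in some `U ≥ V`, for `M₀`. -/
def BU (V M₀ F U : Subgroup G) : Prop :=
  V ≤ U ∧ ∃ (H : Subgroup G) (hH : H ≤ normalizer (U : Set G)) (hU : U ≤ centralizer (U : Set G))
    (hst : ∀ m ∈ im hH M₀, ∀ v ∈ ad hU V, m • v ∈ ad hU V), M₀ ≤ H ∧
    ∃ (Y Q BB : Subgroup (XX hH)) (Lw C : AddSubgroup (MU hU)) (x : XX hH) (S' : Subgroup (XX hH)),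
      Blk0 Y Q BB (ad hU V) (ad hU F) Lw C x (im hH M₀) (KV (im hH M₀) (ad hU V) hst) S'

/-- `{m ∈ M₀ | [U, m] ≤ V}` -/
def KC (V M₀ U : Subgroup G) : Subgroup G := closure {m | m ∈ M₀ ∧ ∀ u ∈ U, m * u * m⁻¹ * u⁻¹ ∈ V}

theorem KC_anti {V M₀ U U' : Subgroup G} (hUU : U ≤ U') : KC V M₀ U' ≤ KC V M₀ U :=
  closure_mono fun _ hm => ⟨hm.1, fun u hu => hm.2 u (hUU hu)⟩

variable {V N M₀ : Subgroup G} (hN : N ≤ normalizer (V : Set G)) (hV : V ≤ centralizer (V : Set G))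

theorem trG_KV {U H : Subgroup G} (hH : H ≤ normalizer (U : Set G)) (hU : U ≤ centralizer (U : Set G))
    (hst : ∀ m ∈ im hH M₀, ∀ v ∈ ad hU V, m • v ∈ ad hU V) (hMH : M₀ ≤ H) :
    trG hH hN M₀ (KV (im hH M₀) (ad hU V) hst) = im hN (KC V M₀ U) := by
  unfold trG KC
  congr 1
  have e : {m : G | m ∈ M₀ ∧ ∀ u ∈ U, m * u * m⁻¹ * u⁻¹ ∈ V} =
      (M₀ ⊓ pre hH (KV (im hH M₀) (ad hU V) hst) : Subgroup G) := by
    ext m
    constructor
    · rintro ⟨hm, hm'⟩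
      refine ⟨hm, (mem_pre hH).2 ⟨hMH hm, pr_mem_im hH hm (hMH hm), fun u => ?_⟩⟩
      rw [Ten.br_def, mem_ad, val_sub, val_smul]
      exact hm' _ (val_mem u)
    · rintro ⟨hm, hm'⟩
      obtain ⟨hmH, hmK⟩ := (mem_pre hH).1 hm'
      refine ⟨hm, fun u hu => ?_⟩
      have h1 := hmK.2 (Bridge.mk hU hu)
      rwa [Ten.br_def, mem_ad, val_sub, val_smul, val_mk] at h1
  rw [e, closure_eq]

variable (M₀) in
/-- The block `Y` on `V` of the panel with flat `F`, seen in `U`. -/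
structure PU (F U : Subgroup G) (Y : Subgroup (XX hN)) : Prop where
  pb : PB (MU hV) (im hN M₀) (ad hV F) Y (im hN (KC V M₀ U))
  dec : ∀ w : MU hV, ∃ a ∈ cm (MU hV) Y, ∃ c : MU hV, (∀ y ∈ Y, y • c = c) ∧ w = a + c

variable {hN hV} [Finite G]

theorem BU.exists_pu (hMN : M₀ ≤ N) (nff : NotFF V) {F U : Subgroup G} (b : BU V M₀ F U) :
    ∃ Y, PU M₀ hN hV F U Y := by
  obtain ⟨hVU, H, hH, hU, hst, hMH, Y, Q, BB, Lw, C, x, S', blk⟩ := b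
  have h1 := pb_of_blk0 (hN := hN) (hV := hV) hVU hMH hMN nff blk
  rw [trG_KV hN hH hU hst hMH] at h1
  exact ⟨_, h1, dec_of_blk0 hVU hMH hMN blk⟩

omit [Finite G] in
theorem two_MU (hsq : ∀ v ∈ V, v ^ 2 = 1) (w : MU hV) : w + w = 0 :=
  val_inj (by rw [val_add, val_zero, ← pow_two]; exact hsq _ (val_mem w))

variable (hsq : ∀ v ∈ V, v ^ 2 = 1) (red : Red (im hN M₀) (⊤ : AddSubgroup (MU hV)))
include hsq red

theorem PU.dich_le {F F' U U' : Subgroup G} {Y Y' : Subgroup (XX hN)} (h : PU M₀ hN hV F U Y)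
    (h' : PU M₀ hN hV F' U' Y') (hUU : U' ≤ U) :
    Cj (im hN M₀) Y Y' ∨ Mt (MU hV) (im hN M₀) Y Y' :=
  pair (faith hN) (two_MU hsq) red h.pb h'.pb (im_mono hN (KC_anti hUU))

/-- the blocks of one panel are conjugate -/
theorem PU.cj {F U U' : Subgroup G} {Y Y' : Subgroup (XX hN)} (h : PU M₀ hN hV F U Y)
    (h' : PU M₀ hN hV F U' Y') (hUU : U' ≤ U) (hF : F ≤ V) (hne : F ≠ V) : Cj (im hN M₀) Y Y' := by
  refine cj_of_flat ?_ h.pb.flat h'.pb.flat h'.dec (h.dich_le hsq red h' hUU)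
  obtain ⟨v, hv, hv'⟩ := SetLike.exists_of_lt (lt_of_le_of_ne hF hne)
  exact ⟨Bridge.mk hV hv, hv'⟩

/-- two panels -/
theorem dich_two (hMN : M₀ ≤ N) (nff : NotFF V) {F F' U U' U₁ : Subgroup G} {Y Y' : Subgroup (XX hN)}
    (h : PU M₀ hN hV F U Y) (h' : PU M₀ hN hV F' U' Y') (hF : F ≤ V) (hne : F ≠ V) (hF' : F' ≤ V) (hne' : F' ≠ V)
    (hU : U ≤ U₁) (hU' : U' ≤ U₁) (b : BU V M₀ F U₁ ∨ BU V M₀ F' U₁) :
    Cj (im hN M₀) Y Y' ∨ Mt (MU hV) (im hN M₀) Y Y' := by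
  rcases b with b | b
  · obtain ⟨Y₀, h0⟩ := b.exists_pu (hN := hN) (hV := hV) hMN nff
    exact dich (h0.cj hsq red h hU hF hne) (h0.dich_le hsq red h' hU')
  · obtain ⟨Y₀, h0⟩ := b.exists_pu (hN := hN) (hV := hV) hMN nff
    rcases dich (h0.cj hsq red h' hU' hF' hne') (h0.dich_le hsq red h hU) with h2 | h2
    · exact Or.inl h2.symm
    · exact Or.inr h2.symm

/-- **The family.** -/
theorem exists_fam (hMN : M₀ ≤ N) (nff : NotFF V) {ι : Type*} (F U : ι → Subgroup G) (hF : ∀ p, F p ≤ V)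
    (hne : ∀ p, F p ≠ V) (own : ∀ p, BU V M₀ (F p) (U p))
    (pr : ∀ p q, ∃ U', U p ≤ U' ∧ U q ≤ U' ∧ (BU V M₀ (F p) U' ∨ BU V M₀ (F q) U')) :
    ∃ 𝒴 : Set (Subgroup (XX hN)), Fam (MU hV) (im hN M₀) 𝒴 ∧
      (∀ w : MU hV, ∃ a ∈ AddSubgroup.closure {v : MU hV | ∃ Y ∈ 𝒴, v ∈ cm (MU hV) Y}, ∃ c : MU hV,
        (∀ r ∈ RR 𝒴, r • c = c) ∧ w = a + c) ∧
      ∀ p, ∃ Y ∈ 𝒴, ∃ Q ≤ Y, fx (MU hV) Q = ad hV (F p) := by
  choose Y hY using fun p => (own p).exists_pu (hN := hN) (hV := hV) hMN nff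
  have d : ∀ p q, Cj (im hN M₀) (Y p) (Y q) ∨ Mt (MU hV) (im hN M₀) (Y p) (Y q) := by
    intro p q
    obtain ⟨U', h1, h2, h3⟩ := pr p q
    exact dich_two hsq red hMN nff (hY p) (hY q) (hF p) (hne p) (hF q) (hne q) h1 h2 h3
  have hf : Fam (MU hV) (im hN M₀) (orb (im hN M₀) Y) :=
    fam_of (faith hN) (two_MU hsq) red (fun p => (hY p).pb) d
  refine ⟨orb (im hN M₀) Y, hf, gas_of hf ?_, fun p => ⟨Y p, ⟨p, Cj.refl _ _⟩, (hY p).pb.flat⟩⟩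
  rintro Y' ⟨p, h⟩
  exact h.dec (hY p).dec

end group

end Cfsg.Agent.Omega.NO3b.BasePt.FamG
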