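import Cfsg.Agent.Omega.NO3b.BasePt.Main
import Cfsg.Agent.Omega.NO3b.ExEnd.Final

/-!
# NotFFG: final

`basePoint : BasePoint` (`Main.lean`) and helper111's `ExEnd.notFFG_of_absP` give **`notFFG (ml) (h : AbsP) : NotFFG K`**.
-/

set_option autoImplicit false

namespace Cfsg.Agent.Omega.NO3b.BasePt

open Subgroup Cfsg
open Cfsg.Agent.Omega.Frame
open Cfsg.Agent.Omega.NO3b.EndX (AbsP)
open Cfsg.Agent.Omega.NOThreeL.Merge (NotFFG)
open Cfsg.Agent.Omega.ML.Final (MLK)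

universe u

/-- **`Merge.NotFFG K`** from (ML) and `AbsP`. -/
theorem notFFG {K : Cls.{u}} (ml : MLK.{u, u}) (h : AbsP.{u, u}) : NotFFG K := ExEnd.notFFG_of_absP ml h basePoint

end Cfsg.Agent.Omega.NO3b.BasePt
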