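import Cfsg.Agent.Omega.NO3b.BasePt.Fld
import Cfsg.Agent.Omega.NO3b.Base.MoveInst
import Cfsg.Agent.Omega.NO3b.ZP.Base.Inst
import Cfsg.Agent.Omega.NOThreeL.EndFiveKey
import Cfsg.Agent.Omega.NO3b.BasePt.Pre

/-!
# 3L-T (D): `C_G(Z) ≤ N_G(Z₁)` for `LocG` (helper255)

`V = VB S B`, `N_G(B) ≤ H ≤ N_G(V)`, `Fa : Fam (MU hc) (im h (N_G B)) 𝒴`, `RG h B 𝒴` the preimage of `RR 𝒴` in `N_G(B)`
(helper442's `EndFiveKey.RG`), `Fc = Fc (RG h B 𝒴) V`.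

* `cent_le` : `C_G(D) ≤ N_G(Fc D)` for all `Z ≤ D ≤ V`;
* `cz_le` : **`C_G(Z) ≤ N_G(Z₁)`**, `Z₁ = Zo S RG V = C_V(S ∩ RG)`; `Fc_Z` : `Fc Z = Z₁`;
* `cz_le_pre`, `cent_le_pre` : the same for `R = preR h (RR 𝒴)` (helper235's `Pre.lean`); `cz_le_of_oz` : any
  `Lines S B V` with LEMMA OZ;
* `cent_leZ`, `cz_leZ`, `cz_le_Zo` : the same for `ZP.LocG` (seed `1 ≠ Z ≤ Ω₁(Z(S))`).
-/

set_option autoImplicit false
set_option linter.unusedSectionVars false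

namespace Cfsg.Agent.Omega.NO3b.BasePt.Fld

open Subgroup Cfsg
open Cfsg.Agent.ZN (o2 zc zl)
open Cfsg.Agent.Omega.NO3b.EZero (NotFF Par cl)
open Cfsg.Agent.Omega.NO3b.NoEmp (Lines)
open Cfsg.Agent.Omega.NOThreeL.Star (Opt)
open Cfsg.Agent.Omega.NO3b.Exit Cfsg.Agent.Omega.NO3b.Exit.Bridge
open Cfsg.Agent.Omega.NOThreeL.HypGFrame (LocG)
open Cfsg.Agent.Omega.NOThreeL.EndFive (Zo)
open Cfsg.Agent.Omega.NOThreeL.EndFiveKey (RG)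
open Cfsg.Agent.Omega.FF.Basic (fx mem_fx)
open Cfsg.Agent.Omega.FFBr (XX pr im mem_im)

universe u

variable {G : Type u} [Group G] [Finite G] {S : Sylow 2 G} {M B H : Subgroup G}

/-- `S ∩ preR = S ∩ RG` -/
theorem inf_preR {V : Subgroup G} {h : H ≤ normalizer (V : Set G)} {𝒴 : Set (Subgroup (XX h))}
    (SB : (S : Subgroup G) ≤ normalizer (B : Set G)) :
    (S : Subgroup G) ⊓ preR h (RR 𝒴) = (S : Subgroup G) ⊓ RG h B 𝒴 := by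
  ext g
  rw [mem_inf, mem_inf, mem_preR, NOThreeL.EndFiveKey.mem_RG]
  exact ⟨fun h1 => ⟨h1.1, SB h1.1, h1.2⟩, fun h1 => ⟨h1.1, h1.2.2⟩⟩

theorem Zo_preR {V : Subgroup G} {h : H ≤ normalizer (V : Set G)} {𝒴 : Set (Subgroup (XX h))}
    (SB : (S : Subgroup G) ≤ normalizer (B : Set G)) :
    Zo (S : Subgroup G) (preR h (RR 𝒴)) V = Zo (S : Subgroup G) (RG h B 𝒴) V := by
  unfold Zo
  rw [inf_preR SB]

/-- `hR` of `Fld.lean` for `preR` -/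
theorem hR_preR {V : Subgroup G} {h : H ≤ normalizer (V : Set G)} {𝒴 : Set (Subgroup (XX h))} (g : G) :
    g ∈ preR h (RR 𝒴) ↔ g ∈ (⊤ : Subgroup G) ∧ ∃ hg : g ∈ H, pr h ⟨g, hg⟩ ∈ RR 𝒴 := by
  rw [mem_preR]
  exact ⟨fun h1 => ⟨mem_top _, h1⟩, fun h1 => h1.2⟩

section loc

variable {h : H ≤ normalizer (VB (S : Subgroup G) B : Set G)}
  {hc : VB (S : Subgroup G) B ≤ centralizer (VB (S : Subgroup G) B : Set G)} {𝒴 : Set (Subgroup (XX h))}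
  (hL : LocG S M B) (hBH : normalizer (B : Set G) ≤ H)
  (Fa : Fam (MU hc) (im h (normalizer (B : Set G))) 𝒴)
  (gas : ∀ w : MU hc, ∃ a ∈ sm (MU hc) 𝒴, ∃ c : MU hc, (∀ r ∈ RR 𝒴, r • c = c) ∧ w = a + c)
  (fl : ∀ F T X : Subgroup G, Alpha.Fl S (VB (S : Subgroup G) B) F T → zc (S : Subgroup G) ≤ F →
    Par (VB (S : Subgroup G) B) F T X → ∃ Y ∈ 𝒴, ∃ Q ≤ Y, fx (MU hc) Q = ad hc F)

include hL hBH Fa gas in
/-- `Fc Z = Z₁` -/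
theorem Fc_Z : Fc (RG h B 𝒴) (VB (S : Subgroup G) B) (zc (S : Subgroup G)) =
    Zo (S : Subgroup G) (RG h B 𝒴) (VB (S : Subgroup G) B) :=
  Fc_zc (fun _ => Iff.rfl) le_rfl hBH Fa gas hL.adm.lines (wc_S_le hL.adm.wc)

include hL hBH Fa gas fl

/-- **`C_G(D) ≤ N_G(Fc D)`** for all `Z ≤ D ≤ V` -/
theorem cent_le (hG : IsCharacteristicTwoType G) (hSne : (S : Subgroup G) ≠ ⊥) {D : Subgroup G}
    (hZ : zc (S : Subgroup G) ≤ D) (hD : D ≤ VB (S : Subgroup G) B) :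
    centralizer (D : Set G) ≤ normalizer (Fc (RG h B 𝒴) (VB (S : Subgroup G) B) D : Set G) :=
  Base.move_of_locG hL (mpt (fun _ => Iff.rfl) le_rfl hBH le_rfl Fa gas hL.adm.lines fl) hG hSne hZ hD

/-- **`C_G(Z) ≤ N_G(Z₁)`** -/
theorem cz_le (hG : IsCharacteristicTwoType G) (hSne : (S : Subgroup G) ≠ ⊥) :
    centralizer (zc (S : Subgroup G) : Set G) ≤
      normalizer (Zo (S : Subgroup G) (RG h B 𝒴) (VB (S : Subgroup G) B) : Set G) := by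
  rw [← Fc_Z hL hBH Fa gas]
  exact cent_le hL hBH Fa gas fl hG hSne le_rfl hL.adm.lines.ZV

/-- **`C_G(Z) ≤ N_G(Z₁)`**, `Z₁ = C_V(S ∩ R)`, `R = preR h (RR 𝒴)` -/
theorem cz_le_pre (hG : IsCharacteristicTwoType G) (hSne : (S : Subgroup G) ≠ ⊥) :
    centralizer (zc (S : Subgroup G) : Set G) ≤
      normalizer (Zo (S : Subgroup G) (preR h (RR 𝒴)) (VB (S : Subgroup G) B) : Set G) := by
  rw [Zo_preR (B := B) (wc_S_le hL.adm.wc)]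
  exact cz_le hL hBH Fa gas fl hG hSne

/-- **`C_G(D) ≤ N_G(Fc D)`** for all `Z ≤ D ≤ V`, `R = preR h (RR 𝒴)` -/
theorem cent_le_pre (hG : IsCharacteristicTwoType G) (hSne : (S : Subgroup G) ≠ ⊥) {D : Subgroup G}
    (hZ : zc (S : Subgroup G) ≤ D) (hD : D ≤ VB (S : Subgroup G) B) :
    centralizer (D : Set G) ≤ normalizer (Fc (preR h (RR 𝒴)) (VB (S : Subgroup G) B) D : Set G) :=
  Base.move_of_locG hL (mpt hR_preR le_top hBH le_rfl Fa gas hL.adm.lines fl) hG hSne hZ hD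

end loc

section seed

/-! ### any seed -/

variable {V : Subgroup G} {h : H ≤ normalizer (V : Set G)} {hc : V ≤ centralizer (V : Set G)}
  {𝒴 : Set (Subgroup (XX h))} (l : Lines S B V) (hBH : normalizer (B : Set G) ≤ H)
  (Fa : Fam (MU hc) (im h (normalizer (B : Set G))) 𝒴)
  (gas : ∀ w : MU hc, ∃ a ∈ sm (MU hc) 𝒴, ∃ c : MU hc, (∀ r ∈ RR 𝒴, r • c = c) ∧ w = a + c)
  (fl : ∀ F T X : Subgroup G, Alpha.Fl S V F T → zc (S : Subgroup G) ≤ F → Par V F T X →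
    ∃ Y ∈ 𝒴, ∃ Q ≤ Y, fx (MU hc) Q = ad hc F)
include l hBH Fa gas fl

/-- **`C_G(Z) ≤ N_G(Z₁)`** for any `Lines S B V` with LEMMA OZ -/
theorem cz_le_of_oz (cs : (S : Subgroup G) ⊓ centralizer (V : Set G) = B) (hG : IsCharacteristicTwoType G)
    (hSne : (S : Subgroup G) ≠ ⊥)
    (oz : ∀ T Y : Subgroup G, Base.PanZ S B V T Y →
      ∃ A, Opt (cl V ((S : Subgroup G) ⊔ Y)) A ∧ A ≤ B ∧ ¬ A ≤ o2 Y) :
    centralizer (zc (S : Subgroup G) : Set G) ≤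
      normalizer (Zo (S : Subgroup G) (preR h (RR 𝒴)) V : Set G) := by
  have e : Fc (preR h (RR 𝒴)) V (zc (S : Subgroup G)) = Zo (S : Subgroup G) (preR h (RR 𝒴)) V :=
    Fc_zc hR_preR le_top hBH Fa gas l l.S_le_NJ
  rw [← e]
  exact (mpt hR_preR le_top hBH le_rfl Fa gas l fl).cent_zc_le hG hSne l cs oz

end seed

section zp

variable {Z : Subgroup G} {h : H ≤ normalizer (ZP.VB Z B : Set G)}
  {hc : ZP.VB Z B ≤ centralizer (ZP.VB Z B : Set G)} {𝒴 : Set (Subgroup (XX h))}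
  (hL : ZP.LocG S Z M B) (hBH : normalizer (B : Set G) ≤ H)
  (Fa : Fam (MU hc) (im h (normalizer (B : Set G))) 𝒴)
  (gas : ∀ w : MU hc, ∃ a ∈ sm (MU hc) 𝒴, ∃ c : MU hc, (∀ r ∈ RR 𝒴, r • c = c) ∧ w = a + c)
  (fl : ∀ F T X : Subgroup G, ZP.Fl S (ZP.VB Z B) F T → Z ≤ F → ZP.Par S (ZP.VB Z B) F T X →
    ∃ Y ∈ 𝒴, ∃ Q ≤ Y, fx (MU hc) Q = ad hc F)
include hL hBH Fa gas fl

/-- **`C_G(D) ∩ C_G(Ω₁(Z(S))) ≤ N_G(Fc D)`** for all `Z ≤ D ≤ V` -/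
theorem cent_leZ (hG : IsCharacteristicTwoType G) {D : Subgroup G} (hZ : Z ≤ D) (hD : D ≤ ZP.VB Z B) :
    ZP.CF S D ≤ normalizer (Fc (RG h B 𝒴) (ZP.VB Z B) D : Set G) :=
  ZP.Base.move_of_locG hL (mptZ (fun _ => Iff.rfl) le_rfl hBH le_rfl Fa gas hL.adm.lines fl) hG hZ hD

/-- **`C_G(Ω₁(Z(S))) ≤ N_G(Fc Z)`** -/
theorem cz_leZ (hG : IsCharacteristicTwoType G) :
    centralizer (zc (S : Subgroup G) : Set G) ≤ normalizer (Fc (RG h B 𝒴) (ZP.VB Z B) Z : Set G) :=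
  ZP.Base.move_zc_of_locG hL (mptZ (fun _ => Iff.rfl) le_rfl hBH le_rfl Fa gas hL.adm.lines fl) hG

/-- **`C_G(Ω₁(Z(S))) ≤ N_G(Z₁)`**, `Z₁ = C_V(S ∩ RG)` -/
theorem cz_le_Zo (hG : IsCharacteristicTwoType G) :
    centralizer (zc (S : Subgroup G) : Set G) ≤
      normalizer (Zo (S : Subgroup G) (RG h B 𝒴) (ZP.VB Z B) : Set G) := by
  have l := hL.adm.lines
  have e : Fc (RG h B 𝒴) (ZP.VB Z B) (ZP.VB Z B ⊓ zc (S : Subgroup G)) =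
      Zo (S : Subgroup G) (RG h B 𝒴) (ZP.VB Z B) :=
    Fc_eq (fun _ => Iff.rfl) le_rfl hBH Fa gas S.isPGroup' l.S_le_NJ (syl_bar l.S_le_NJ hBH) (by
      intro v
      rw [mem_inf]
      exact ⟨fun h1 => ⟨h1.1, (ZN.ChoiceBase.mem_zc.1 h1.2).2.2⟩, fun h1 => ⟨h1.1,
        ZN.ChoiceBase.mem_zc.2 ⟨ZP.V_le_S l h1.1, l.sq v h1.1, h1.2⟩⟩⟩)
  rw [← e]
  refine le_trans (le_inf (centralizer_le inf_le_right) le_rfl) (cent_leZ hL hBH Fa gas fl hG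
    (D := ZP.VB Z B ⊓ zc (S : Subgroup G)) (le_inf l.ZV l.Zc) inf_le_left)

/-- **`C_G(Ω₁(Z(S))) ≤ N_G(Z₁)`**, `Z₁ = C_V(S ∩ preR)` -/
theorem cz_le_Zo_pre (hG : IsCharacteristicTwoType G) :
    centralizer (zc (S : Subgroup G) : Set G) ≤
      normalizer (Zo (S : Subgroup G) (preR h (RR 𝒴)) (ZP.VB Z B) : Set G) := by
  rw [Zo_preR (B := B) hL.adm.lines.S_le_NJ]
  exact cz_le_Zo hL hBH Fa gas fl hG

end zp

end Cfsg.Agent.Omega.NO3b.BasePt.Fld
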