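import Cfsg.Agent.Omega.NO3b.BasePt.GamJB
import Cfsg.Agent.Omega.NO3b.Chain.Group

/-!
# 3L-T (B): the groups `KV` of two panels (helper957)

`KV = {m ∈ M₀ | [U, m] ≤ V}`, for `V ≤ U`; so `U₁ ≤ U₂` gives `KV(U₂) ≤ KV(U₁)`.
-/

set_option autoImplicit false

namespace Cfsg.Agent.Omega.NO3b.BasePt.KVle

open Subgroup Cfsg
open Cfsg.Agent.Omega.NO3b.Chain (pre mem_pre)
open Cfsg.Agent.Omega.NO3b.Exit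
open Cfsg.Agent.Omega.NO3b.Exit.Bridge
open Cfsg.Agent.Omega.NO3b.Exit.TDat (KV)
open Cfsg.Agent.Omega.NO3b.Exit.Ten (br br_def)
open Cfsg.Agent.Omega.NO3b.Exit.LocBar (pr_mem_im im_mono)
open Cfsg.Agent.Omega.FFBr (XX pr im mem_im pr_eq_one)

universe u

variable {G : Type u} [Group G] {H U M₀ V : Subgroup G}

/-- `g ∈ M₀` lies in the preimage of `KV` iff `[U, g] ≤ V`. -/
theorem mem_pre_KV (hH : H ≤ normalizer (U : Set G)) (hU : U ≤ centralizer (U : Set G))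
    (hV : ∀ m ∈ im hH M₀, ∀ v ∈ ad hU V, m • v ∈ ad hU V) {g : G} (hgH : g ∈ H) (hgM : g ∈ M₀) :
    g ∈ pre hH (KV (im hH M₀) (ad hU V) hV) ↔ ∀ u ∈ U, g * u * g⁻¹ * u⁻¹ ∈ V := by
  rw [mem_pre]
  constructor
  · rintro ⟨hg, -, h1⟩ u hu
    have h2 := h1 (mk hU hu)
    rw [br_def, mem_ad, val_sub, val_smul, val_mk] at h2
    exact h2
  · intro h1
    refine ⟨hgH, pr_mem_im hH hgM hgH, fun u => ?_⟩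
    rw [br_def, mem_ad, val_sub, val_smul]
    exact h1 _ (val_mem u)

/-- the group `{g ∈ M₀ | [U, g] ≤ V}` -/
theorem pre_KV_le {H₁ H₂ U₁ U₂ : Subgroup G} (hH₁ : H₁ ≤ normalizer (U₁ : Set G))
    (hU₁ : U₁ ≤ centralizer (U₁ : Set G)) (hH₂ : H₂ ≤ normalizer (U₂ : Set G))
    (hU₂ : U₂ ≤ centralizer (U₂ : Set G)) (hUU : U₁ ≤ U₂) (hM : M₀ ≤ H₁)
    (hV₁ : ∀ m ∈ im hH₁ M₀, ∀ v ∈ ad hU₁ V, m • v ∈ ad hU₁ V)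
    (hV₂ : ∀ m ∈ im hH₂ M₀, ∀ v ∈ ad hU₂ V, m • v ∈ ad hU₂ V) :
    M₀ ⊓ pre hH₂ (KV (im hH₂ M₀) (ad hU₂ V) hV₂) ≤ M₀ ⊓ pre hH₁ (KV (im hH₁ M₀) (ad hU₁ V) hV₁) := by
  intro g hg
  have hgM := (mem_inf.1 hg).1
  have hg2 := (mem_inf.1 hg).2
  obtain ⟨hgH, -⟩ := (mem_pre hH₂).1 hg2
  have h1 := (mem_pre_KV hH₂ hU₂ hV₂ hgH hgM).1 hg2
  exact mem_inf.2 ⟨hgM, (mem_pre_KV hH₁ hU₁ hV₁ (hM hgM) hgM).2 fun u hu => h1 u (hUU hu)⟩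

/-- **`K_a^J ≤ K_b`** on `V`. -/
theorem im_KV_le {H₁ H₂ U₁ U₂ N : Subgroup G} (hH₁ : H₁ ≤ normalizer (U₁ : Set G))
    (hU₁ : U₁ ≤ centralizer (U₁ : Set G)) (hH₂ : H₂ ≤ normalizer (U₂ : Set G))
    (hU₂ : U₂ ≤ centralizer (U₂ : Set G)) (hUU : U₁ ≤ U₂) (hM : M₀ ≤ H₁)
    (hV₁ : ∀ m ∈ im hH₁ M₀, ∀ v ∈ ad hU₁ V, m • v ∈ ad hU₁ V)
    (hV₂ : ∀ m ∈ im hH₂ M₀, ∀ v ∈ ad hU₂ V, m • v ∈ ad hU₂ V) (hN : N ≤ normalizer (V : Set G)) :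
    im hN (M₀ ⊓ pre hH₂ (KV (im hH₂ M₀) (ad hU₂ V) hV₂)) ≤ im hN (M₀ ⊓ pre hH₁ (KV (im hH₁ M₀) (ad hU₁ V) hV₁)) :=
  im_mono hN (pre_KV_le hH₁ hU₁ hH₂ hU₂ hUU hM hV₁ hV₂)

end Cfsg.Agent.Omega.NO3b.BasePt.KVle
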