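import Cfsg.Agent.Omega.NO3b.TheoremL.Act
import Cfsg.Agent.Omega.NO3b.TheoremL.RingRel

/-!
# THEOREM L (#18749, helper344; weak form of #22211, helper16), part 3: the module `W = ⟨V^Y⟩ Z` and `Q = ⟨(A ∩ O)^Y⟩`

Copy of `TheoremL/Core1.lean` (helper344) over a weaker `Hyp`: NF on `V` only for the subgroups of `⟨(A ∩ O)^Y⟩`, and
`[V, A] = 0` as a field.

`Hyp A M V` : `TI A M`, `A` an elementary abelian best offender, minimal in itself, `V` an `M`-invariant subgroup of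
`C_U(A)`, `V ≰ Z = C_U(Y)`, not FF for the subgroups of `⟨(A ∩ O)^Y⟩`; `[W, Q] ≤ Z`; `Hyp.nfW` : no subgroup of `Q` offends on `W`;
`Hyp.inf_fx_le` : `A ∩ O ≠ 1` implies `C_W(Q) ≤ Z`; `Hyp.theta` : `|B|² |C_Q(W)| ≤ |Q| |C_B(W)|²` for `B ≤ C_Q(A)`.
-/

set_option autoImplicit false
set_option linter.unusedSectionVars false

namespace Cfsg.Agent.Omega.NO3b.BasePt.LW1

open Cfsg.Agent.Omega.FF.Basic (fx mem_fx fx_anti card_sup_inf card_le eq_of_card_le card_fib EA mm mm_bot cj mem_cj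
  mem_cj_of isPGroup_cj card_cj smul_mem_fx_cj mem_fx_cj card_smul fx_bot)
open Cfsg.Agent.Omega.NO3b.Exit.TT (cf mem_cf nf mem_nf mem_smul smul_mem' nf_smul le_cf card_smul' cf_conj nf_conj
  quad' card_pow two_mul_le_of_pow mm_pow)
open Cfsg.Agent.Omega.NO3b.TheoremL.Act
open Cfsg.Agent.Omega.NO3b.TheoremL.RingRel (TH tau card_TH)
open Cfsg.Agent.Omega.MinFF (TI)
open Cfsg (pCore)
open scoped Pointwise

/-- `⟨(A ∩ O)^Y⟩` -/
def QQ {Y : Type*} [Group Y] (A : Subgroup Y) : Subgroup Y :=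
  Subgroup.normalClosure ((A ⊓ pCore 2 Y : Subgroup Y) : Set Y)

/-- The hypotheses: `[V, A] = 0`, and NF on `V` only for the subgroups of `⟨(A ∩ O)^Y⟩`. -/
structure Hyp {Y : Type*} [Group Y] {U : Type*} [AddCommGroup U] [DistribMulAction Y U] (A M : Subgroup Y)
    (V : AddSubgroup U) : Prop where
  two : ∀ u : U, u + u = 0
  faith : ∀ y : Y, (∀ u : U, y • u = u) → y = 1
  ti : TI A M
  ea : EA A
  off : Nat.card U ≤ mm U A
  min : ∀ E < A, E ≠ ⊥ → mm U E < mm U A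
  inv : M ≤ nf Y V
  VC : V ≤ fx U A
  nff : ∀ B : Subgroup Y, B ≤ QQ A → ¬ B ≤ cf Y V →
    Nat.card B * Nat.card ↥(V ⊓ fx U B) < Nat.card V * Nat.card ↥(B ⊓ cf Y V)
  nz : ¬ V ≤ fx U (⊤ : Subgroup Y)

variable {Y : Type*} [Group Y] {U : Type*} [AddCommGroup U] [DistribMulAction Y U]

/-- `⟨V^Y⟩ Z` -/
def W (Y : Type*) [Group Y] {U : Type*} [AddCommGroup U] [DistribMulAction Y U] (V : AddSubgroup U) : AddSubgroup U :=
  (⨆ y : Y, y • V) ⊔ fx U (⊤ : Subgroup Y)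


theorem Z_le_W (V : AddSubgroup U) : fx U (⊤ : Subgroup Y) ≤ W Y V := le_sup_right

theorem smul_le_W (V : AddSubgroup U) (y : Y) : y • V ≤ W Y V :=
  (le_iSup (fun y : Y => y • V) y).trans le_sup_left

theorem V_le_W (V : AddSubgroup U) : V ≤ W Y V := by
  have := smul_le_W V (1 : Y)
  rwa [one_smul] at this

theorem W_le {V K : AddSubgroup U} (h1 : ∀ y : Y, y • V ≤ K) (h2 : fx U (⊤ : Subgroup Y) ≤ K) : W Y V ≤ K :=
  sup_le (iSup_le h1) h2

theorem W_inv (V : AddSubgroup U) (y : Y) {v : U} (hv : v ∈ W Y V) : y • v ∈ W Y V := by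
  have h1 : W Y V ≤ y⁻¹ • W Y V := by
    refine W_le (fun k => ?_) ?_
    · intro v hv
      rw [mem_smul, inv_inv]
      apply smul_le_W V (y * k)
      rw [mul_smul]
      exact smul_mem' hv
    · intro v hv
      rw [mem_smul, Q.Z_smul hv]
      exact Z_le_W V hv
  have h2 := h1 hv
  rw [mem_smul, inv_inv] at h2
  exact h2

namespace Hyp

variable {A M : Subgroup Y} {V : AddSubgroup U} (h : Hyp A M V)
include h

theorem ne_bot : A ≠ ⊥ := by
  intro h0
  obtain ⟨g, hg⟩ := h.ti.exists_not_mem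
  apply hg
  apply h.ti.ti
  rw [h0]; exact bot_le

variable [Finite Y] [Finite U]

theorem toQ : Q U A M where
  two := h.two
  faith := h.faith
  ti := h.ti
  quad := quad' h.two h.ea h.ne_bot h.off h.min

theorem mm_le {E : Subgroup Y} (hE : E ≤ A) : mm U E ≤ mm U A := by
  by_cases h0 : E = ⊥
  · rw [h0, mm_bot]; exact h.off
  · rcases hE.eq_or_lt with h1 | h1
    · rw [h1]
    · exact (h.min E h1 h0).le

theorem two_mul {E : Subgroup Y} (hE : E < A) (h0 : E ≠ ⊥) : 2 * mm U E ≤ mm U A :=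
  two_mul_le_of_pow (mm_pow h.two (h.ea.mono hE.le)) (mm_pow h.two h.ea) (h.min E hE h0)

/-- `[V, A] = 0` -/
theorem V_le_C : V ≤ fx U A := h.VC

theorem smul_V_le (y : Y) : y • V ≤ y • fx U A := AddSubgroup.pointwise_smul_le_pointwise_smul_iff.2 h.V_le_C

theorem secW : Sec U A (W Y V) where
  Z_le := Z_le_W V
  le_D := W_le (fun y => (h.smul_V_le y).trans (Q.smul_C_le_D y)) ((Q.Z_le A).trans Q.C_le_D)
  inv := fun y _ hv => W_inv V y hv

theorem secZ : Sec U A (fx U (⊤ : Subgroup Y)) where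
  Z_le := le_rfl
  le_D := (Q.Z_le A).trans Q.C_le_D
  inv := fun y v hv => by rw [Q.Z_smul hv]; exact hv

omit h [Finite U] in
theorem QQ_normal : (QQ A).Normal := Subgroup.normalClosure_normal

omit h [Finite U] in
theorem QQ_conj {t : Y} (ht : t ∈ QQ A) (y : Y) : y⁻¹ * t * y ∈ QQ A := by
  have := QQ_normal.conj_mem t ht y⁻¹
  rwa [inv_inv] at this

omit h [Finite U] in
theorem A₁_le : A ⊓ pCore 2 Y ≤ QQ A := Subgroup.le_normalClosure

omit h [Finite U] in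
theorem QQ_le : QQ A ≤ pCore 2 Y := by
  have hn : (pCore 2 Y).Normal := Lib.Cores.pCore_normal 2
  exact Subgroup.normalClosure_le_normal (fun t ht => ht.2)

theorem core_nf (y : Y) : pCore 2 Y ≤ nf Y (y • V) := by
  intro t ht
  rw [nf_conj]
  have hn : (pCore 2 Y).Normal := Lib.Cores.pCore_normal 2
  apply h.inv
  apply h.toQ.core_le
  have := hn.conj_mem t ht y⁻¹
  rwa [inv_inv] at this

/-- `[W, A ∩ O] ≤ Z` -/
theorem comm_A₁ {t : Y} (ht : t ∈ A ⊓ pCore 2 Y) {w : U} (hw : w ∈ W Y V) : t • w - w ∈ fx U (⊤ : Subgroup Y) := by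
  let K : AddSubgroup U :=
    { carrier := {w | t • w - w ∈ fx U (⊤ : Subgroup Y)}
      zero_mem' := by
        show t • (0 : U) - 0 ∈ fx U (⊤ : Subgroup Y)
        rw [smul_zero, sub_zero]; exact zero_mem _
      add_mem' := fun {v w} hv hw => by
        show t • (v + w) - (v + w) ∈ fx U (⊤ : Subgroup Y)
        have e : t • (v + w) - (v + w) = (t • v - v) + (t • w - w) := by rw [smul_add]; abel
        rw [e]; exact add_mem hv hw
      neg_mem' := fun {v} hv => by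
        show t • (-v) - (-v) ∈ fx U (⊤ : Subgroup Y)
        have e : t • (-v) - (-v) = -(t • v - v) := by rw [smul_neg]; abel
        rw [e]; exact neg_mem hv }
  have h1 : W Y V ≤ K := by
    refine W_le (fun y => ?_) ?_
    · intro v hv
      show t • v - v ∈ fx U (⊤ : Subgroup Y)
      by_cases hy : y ∈ M
      · have h2 : y • V = V := h.inv hy
        rw [h2] at hv
        rw [h.V_le_C hv t ht.1, sub_self]; exact zero_mem _
      · have h3 : t • v ∈ y • V := nf_smul (h.core_nf y ht.2) hv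
        have h4 : t • v - v ∈ y • V := sub_mem h3 hv
        exact h.toQ.inf_le hy (fun b hb => h.toQ.quad t ht.1 b hb v) (mem_smul.1 (h.smul_V_le y h4))
    · intro z hz
      show t • z - z ∈ fx U (⊤ : Subgroup Y)
      rw [Q.Z_smul hz, sub_self]; exact zero_mem _
  exact h1 hw

/-- `[W, Q] ≤ Z` -/
theorem comm_QQ {t : Y} (ht : t ∈ QQ A) {w : U} (hw : w ∈ W Y V) : t • w - w ∈ fx U (⊤ : Subgroup Y) := by
  let K : Subgroup Y :=
    { carrier := {t | ∀ w ∈ W Y V, t • w - w ∈ fx U (⊤ : Subgroup Y)}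
      one_mem' := fun w _ => by rw [one_smul, sub_self]; exact zero_mem _
      mul_mem' := fun {s t} hs ht w hw => by
        have e : (s * t) • w - w = (s • (t • w - w)) + (s • w - w) := by rw [mul_smul, smul_sub]; abel
        rw [e, Q.Z_smul (ht w hw)]; exact add_mem (ht w hw) (hs w hw)
      inv_mem' := fun {s} hs w hw => by
        have h1 := hs _ (W_inv V s⁻¹ hw)
        rw [smul_inv_smul] at h1
        have e : s⁻¹ • w - w = -(w - s⁻¹ • w) := by abel
        rw [e]; exact neg_mem h1 }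
  have hK : K.Normal := by
    constructor
    intro t ht g w hw
    have h1 := ht _ (W_inv V g⁻¹ hw)
    have e : (g * t * g⁻¹) • w - w = g • (t • g⁻¹ • w - g⁻¹ • w) := by
      rw [smul_sub, smul_inv_smul, mul_smul, mul_smul]
    rw [e, Q.Z_smul h1]; exact h1
  have h1 : QQ A ≤ K := Subgroup.normalClosure_le_normal fun t ht w hw => h.comm_A₁ ht hw
  exact h1 ht w hw

/-- an element of `Q` is an involution on `W` -/
theorem QQ_sq {t : Y} (ht : t ∈ QQ A) {w : U} (hw : w ∈ W Y V) : t • t • w = w := by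
  have h1 := Q.Z_smul (h.comm_QQ ht hw) t
  have e : t • t • w = (t • (t • w - w)) + t • w := by rw [smul_sub]; abel
  rw [e, h1]
  have e2 : t • w - w + t • w = (t • w + t • w) - w := by abel
  rw [e2, h.two, zero_sub]
  exact neg_eq_of_add_eq_zero_left (h.two w)

/-- NF for the lines -/
theorem nfV (y : Y) {B : Subgroup Y} (hB : B ≤ QQ A) (hne : ¬ B ≤ cf Y (y • V)) :
    2 * (Nat.card B * Nat.card ↥(y • V ⊓ fx U B)) ≤ Nat.card V * Nat.card ↥(B ⊓ cf Y (y • V)) := by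
  have hBp : IsPGroup 2 B := (Lib.Cores.pCore_isPGroup (G := Y) 2).to_le (hB.trans QQ_le)
  have hn : (pCore 2 Y).Normal := Lib.Cores.pCore_normal 2
  have h1 := h.nff (cj y⁻¹ B) (fun b hb => by
      rw [mem_cj, inv_inv] at hb
      have h2 := QQ_conj (hB hb) y
      have e : y⁻¹ * (y * b * y⁻¹) * y = b := by group
      rwa [e] at h2) (fun h0 => hne (fun b hb => by
      rw [cf_conj]
      have h2 := h0 (mem_cj_of (g := y⁻¹) hb)
      rwa [inv_inv] at h2))
  rw [card_cj] at h1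
  have e1 : Nat.card ↥(V ⊓ fx U (cj y⁻¹ B)) = Nat.card ↥(y • V ⊓ fx U B) := by
    refine (card_smul y fun v => ?_).symm
    constructor
    · rintro ⟨h2, h3⟩
      exact ⟨mem_smul.1 h2, smul_mem_fx_cj h3⟩
    · rintro ⟨h2, h3⟩
      have h3' := mem_fx_cj.1 h3
      rw [inv_inv, smul_inv_smul] at h3'
      exact ⟨mem_smul.2 h2, h3'⟩
  have e2 : Nat.card ↥(cj y⁻¹ B ⊓ cf Y V) = Nat.card ↥(B ⊓ cf Y (y • V)) := by
    have e3 : cj y⁻¹ B ⊓ cf Y V = cj y⁻¹ (B ⊓ cf Y (y • V)) := by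
      ext a
      rw [mem_cj, inv_inv, Subgroup.mem_inf, Subgroup.mem_inf, mem_cj, inv_inv, cf_conj]
      have e : y⁻¹ * (y * a * y⁻¹) * y = a := by group
      rw [e]
    rw [e3, card_cj]
  rw [e1, e2] at h1
  have hf : Fact (Nat.Prime 2) := ⟨Nat.prime_two⟩
  refine two_mul_le_of_pow ?_ ?_ h1
  · obtain ⟨a, ha⟩ := IsPGroup.iff_card.1 hBp
    obtain ⟨b, hb⟩ := card_pow h.two (y • V ⊓ fx U B)
    exact ⟨a + b, by rw [ha, hb, pow_add]⟩
  · obtain ⟨a, ha⟩ := IsPGroup.iff_card.1 (hBp.to_le (inf_le_left : B ⊓ cf Y (y • V) ≤ B))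
    obtain ⟨b, hb⟩ := card_pow h.two V
    exact ⟨b + a, by rw [ha, hb, pow_add]⟩

/-- NF for `W` -/
theorem nfW : ∀ n : ℕ, ∀ B : Subgroup Y, Nat.card B ≤ n → B ≤ QQ A → ¬ B ≤ cf Y (W Y V) →
    2 * (Nat.card B * Nat.card ↥(W Y V ⊓ fx U B)) ≤ Nat.card (W Y V) * Nat.card ↥(B ⊓ cf Y (W Y V)) := by
  intro n
  induction n with
  | zero =>
    intro B hB
    have : 0 < Nat.card B := Nat.card_pos
    omega
  | succ n ih =>
    intro B hBn hB hne
    have hex : ∃ y : Y, ¬ B ≤ cf Y (y • V) := by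
      by_contra hcon
      push Not at hcon
      apply hne
      rw [le_cf]
      exact W_le (fun y => le_cf.1 (hcon y)) (Q.Z_le B)
    obtain ⟨y, hy⟩ := hex
    set E := B ⊓ cf Y (y • V) with hE
    have hEB : E < B := lt_of_le_of_ne inf_le_left fun h0 => hy (by rw [← h0]; exact inf_le_right)
    have h1 := h.nfV y hB hy
    have h2 : (y • V) ⊔ (W Y V ⊓ fx U B) ≤ W Y V ⊓ fx U E := by
      refine sup_le (le_inf (smul_le_W V y) (le_cf.1 inf_le_right)) ?_
      exact inf_le_inf_left _ (fx_anti hEB.le)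
    have h3 := card_sup_inf (y • V) (W Y V ⊓ fx U B)
    have h4 : (y • V) ⊓ (W Y V ⊓ fx U B) = y • V ⊓ fx U B := by
      rw [← inf_assoc, inf_eq_left.2 (smul_le_W V y)]
    rw [h4, card_smul'] at h3
    have h5 := card_le h2
    have p : 0 < Nat.card ↥(y • V ⊓ fx U B) := Nat.card_pos
    have key : 2 * (Nat.card B * Nat.card ↥(W Y V ⊓ fx U B)) ≤ Nat.card E * Nat.card ↥(W Y V ⊓ fx U E) := by
      refine Nat.le_of_mul_le_mul_right ?_ p
      calc 2 * (Nat.card B * Nat.card ↥(W Y V ⊓ fx U B)) * Nat.card ↥(y • V ⊓ fx U B)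
          = 2 * (Nat.card B * Nat.card ↥(y • V ⊓ fx U B)) * Nat.card ↥(W Y V ⊓ fx U B) := by ring
        _ ≤ Nat.card V * Nat.card E * Nat.card ↥(W Y V ⊓ fx U B) := Nat.mul_le_mul_right _ h1
        _ = Nat.card E * (Nat.card V * Nat.card ↥(W Y V ⊓ fx U B)) := by ring
        _ = Nat.card E * (Nat.card ↥((y • V) ⊔ (W Y V ⊓ fx U B) : AddSubgroup U) * Nat.card ↥(y • V ⊓ fx U B)) := by
          rw [h3]
        _ = Nat.card E * Nat.card ↥((y • V) ⊔ (W Y V ⊓ fx U B) : AddSubgroup U) * Nat.card ↥(y • V ⊓ fx U B) := by ring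
        _ ≤ Nat.card E * Nat.card ↥(W Y V ⊓ fx U E) * Nat.card ↥(y • V ⊓ fx U B) :=
          Nat.mul_le_mul_right _ (Nat.mul_le_mul_left _ h5)
    refine key.trans ?_
    by_cases hEc : E ≤ cf Y (W Y V)
    · have h6 : E ≤ B ⊓ cf Y (W Y V) := le_inf hEB.le hEc
      calc Nat.card E * Nat.card ↥(W Y V ⊓ fx U E) ≤ Nat.card ↥(B ⊓ cf Y (W Y V)) * Nat.card (W Y V) :=
            Nat.mul_le_mul (Subgroup.card_le_of_le h6) (card_le inf_le_left)
        _ = _ := by ring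
    · have hcard : Nat.card E < Nat.card B := by
        by_contra hc
        push Not at hc
        exact hEB.ne (Subgroup.eq_of_le_of_card_ge hEB.le hc)
      have h7 := ih E (by omega) (hEB.le.trans hB) hEc
      have h8 : Nat.card ↥(E ⊓ cf Y (W Y V)) ≤ Nat.card ↥(B ⊓ cf Y (W Y V)) :=
        Subgroup.card_le_of_le (inf_le_inf_right _ hEB.le)
      calc Nat.card E * Nat.card ↥(W Y V ⊓ fx U E) ≤ 2 * (Nat.card E * Nat.card ↥(W Y V ⊓ fx U E)) := by omega
        _ ≤ Nat.card (W Y V) * Nat.card ↥(E ⊓ cf Y (W Y V)) := h7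
        _ ≤ _ := Nat.mul_le_mul_left _ h8

theorem A₁_lt : A ⊓ pCore 2 Y < A :=
  lt_of_le_of_ne inf_le_left fun h0 => h.ti.not_le_pCore (by rw [← h0]; exact inf_le_right)

/-- `C_W(Q) ≤ Z` -/
theorem inf_fx_le (hne : A ⊓ pCore 2 Y ≠ ⊥) : W Y V ⊓ fx U (QQ A) ≤ fx U (⊤ : Subgroup Y) := by
  set P := W Y V ⊓ fx U (QQ A) with hP
  have hs : Sec U A P :=
    { Z_le := le_inf (Z_le_W V) (Q.Z_le _)
      le_D := inf_le_left.trans h.secW.le_D
      inv := fun y v hv => ⟨W_inv V y hv.1, fun t ht => by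
        have h1 := hv.2 _ (QQ_conj ht y)
        have e : t • y • v = y • (y⁻¹ * t * y) • v := by
          rw [smul_smul, smul_smul]; congr 1; group
        rw [e, h1]⟩ }
  by_contra hcon
  have hlt : fx U (⊤ : Subgroup Y) < P := lt_of_le_of_ne hs.Z_le fun h0 => hcon h0.ge
  have h1 := hs.index h.toQ h.secZ hlt
  have h2 : fx U (⊤ : Subgroup Y) ⊓ fx U A = fx U (⊤ : Subgroup Y) := inf_eq_left.2 (Q.Z_le A)
  rw [h2] at h1
  have h3 := h.two_mul h.A₁_lt hne
  have h4 : P ⊔ fx U A ≤ fx U (A ⊓ pCore 2 Y) :=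
    sup_le (inf_le_right.trans (fx_anti A₁_le)) (fx_anti inf_le_left)
  have h5 := card_le h4
  have h6 := card_sup_inf P (fx U A)
  have h7 := hs.card h.toQ
  rw [mm, mm] at h3
  have pC : 0 < Nat.card (fx U A) := Nat.card_pos
  have pZ : 0 < Nat.card (fx U (⊤ : Subgroup Y)) := Nat.card_pos
  have pP : 0 < Nat.card ↥(P ⊓ fx U A) := Nat.card_pos
  have pA : 0 < Nat.card ↥(A ⊓ pCore 2 Y) := Nat.card_pos
  set a := Nat.card A
  set a1 := Nat.card ↥(A ⊓ pCore 2 Y)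
  set c := Nat.card (fx U A)
  set z := Nat.card (fx U (⊤ : Subgroup Y))
  set pc := Nat.card ↥(P ⊓ fx U A)
  set p := Nat.card P
  -- `2 a1 p ≤ a pc`
  have h8 : 2 * a1 * p ≤ a * pc := by
    refine Nat.le_of_mul_le_mul_right ?_ pC
    calc 2 * a1 * p * c = 2 * a1 * (p * c) := by ring
      _ = 2 * a1 * (Nat.card ↥(P ⊔ fx U A) * pc) := by rw [h6]
      _ = 2 * (a1 * Nat.card ↥(P ⊔ fx U A)) * pc := by ring
      _ ≤ 2 * (a1 * Nat.card (fx U (A ⊓ pCore 2 Y))) * pc :=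
        Nat.mul_le_mul_right _ (Nat.mul_le_mul_left _ (Nat.mul_le_mul_left _ h5))
      _ ≤ (a * c) * pc := Nat.mul_le_mul_right _ h3
      _ = a * pc * c := by ring
  have h9 : 2 * a1 * pc ≤ a * z := by
    refine Nat.le_of_mul_le_mul_right ?_ pP
    calc 2 * a1 * pc * pc = 2 * a1 * (pc * pc) := by ring
      _ = 2 * a1 * (p * z) := by rw [h7]
      _ = (2 * a1 * p) * z := by ring
      _ ≤ (a * pc) * z := Nat.mul_le_mul_right _ h8
      _ = a * z * pc := by ring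
  have h10 : 2 * (a1 * pc) ≤ a1 * pc := by
    calc 2 * (a1 * pc) = 2 * a1 * pc := by ring
      _ ≤ a * z := h9
      _ ≤ a1 * pc := h1
  have : 0 < a1 * pc := Nat.mul_pos pA pP
  omega

/-- `|B|² |C_Q(W)| ≤ |Q| |C_B(W)|²` for `B ≤ C_Q(A)` -/
theorem theta {B : Subgroup Y} (hB : B ≤ QQ A) (hc : ∀ b ∈ B, ∀ a ∈ A, a * b = b * a) :
    Nat.card B * Nat.card B * Nat.card ↥(QQ A ⊓ cf Y (W Y V)) ≤
      Nat.card (QQ A) * (Nat.card ↥(B ⊓ cf Y (W Y V)) * Nat.card ↥(B ⊓ cf Y (W Y V))) := by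
  classical
  obtain ⟨g, hg⟩ := h.ti.exists_not_mem
  set Z := fx U (⊤ : Subgroup Y) with hZ
  have hfin : Finite (W Y V →+ Z) := Finite.of_injective (fun f : W Y V →+ Z => (f : W Y V → Z)) DFunLike.coe_injective
  have hQW : ∀ t ∈ QQ A, ∀ w ∈ W Y V, t • w - w ∈ Z := fun t ht w hw => h.comm_QQ ht hw
  have hQZ : ∀ t ∈ QQ A, ∀ z ∈ Z, t • z = z := fun t _ z hz => Q.Z_smul hz t
  have hB' : cj g B ≤ QQ A := by
    intro t ht
    have h1 := QQ_conj (hB (mem_cj.1 ht)) g⁻¹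
    have e : g⁻¹⁻¹ * (g⁻¹ * t * g) * g⁻¹ = t := by group
    rwa [e] at h1
  let T₁ := TH (W := W Y V) (Z := Z) (Q := B) (fun t ht => hQW t (hB ht)) (fun t ht => hQZ t (hB ht))
  let T₂ := TH (W := W Y V) (Z := Z) (Q := cj g B) (fun t ht => hQW t (hB' ht)) (fun t ht => hQZ t (hB' ht))
  let T := TH (W := W Y V) (Z := Z) (Q := QQ A) hQW hQZ
  have hT₁ : T₁ ≤ T := by
    rintro _ ⟨t, rfl⟩
    exact ⟨⟨t, hB t.2⟩, rfl⟩
  have hT₂ : T₂ ≤ T := by
    rintro _ ⟨t, rfl⟩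
    exact ⟨⟨t, hB' t.2⟩, rfl⟩
  have c₁ : Nat.card B = Nat.card T₁ * Nat.card ↥(B ⊓ cf Y (W Y V)) := card_TH _ _
  have c₂ : Nat.card (cj g B) = Nat.card T₂ * Nat.card ↥(cj g B ⊓ cf Y (W Y V)) := card_TH _ _
  have c : Nat.card (QQ A) = Nat.card T * Nat.card ↥(QQ A ⊓ cf Y (W Y V)) := card_TH _ _
  have e2 : Nat.card ↥(cj g B ⊓ cf Y (W Y V)) = Nat.card ↥(B ⊓ cf Y (W Y V)) := by
    have e3 : cj g B ⊓ cf Y (W Y V) = cj g (B ⊓ cf Y (W Y V)) := by
      ext a
      rw [Subgroup.mem_inf, mem_cj, mem_cj, Subgroup.mem_inf]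
      refine and_congr_right fun _ => ?_
      constructor
      · intro h1 w hw
        have h2 := h1 _ (W_inv V g hw)
        rw [mul_smul, mul_smul, h2, inv_smul_smul]
      · intro h1 w hw
        have h2 := h1 _ (W_inv V g⁻¹ hw)
        rw [mul_smul, mul_smul, smul_inv_smul, inv_smul_eq_iff, smul_inv_smul] at h2
        exact h2
    rw [e3, card_cj]
  rw [card_cj, e2] at c₂
  have hinf : T₁ ⊓ T₂ = ⊥ := by
    rw [AddSubgroup.eq_bot_iff_forall]
    rintro θ ⟨⟨s, hs⟩, ⟨t, ht⟩⟩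
    have hs' : ∀ w : W Y V, ((θ w : Z) : U) = (s : Y) • (w : U) - w := fun w => by rw [← hs]; rfl
    have ht' : ∀ w : W Y V, ((θ w : Z) : U) = (t : Y) • (w : U) - w := fun w => by rw [← ht]; rfl
    have hθZ : ∀ w : W Y V, (w : U) ∈ Z → θ w = 0 := by
      intro w hw
      apply Subtype.ext
      rw [hs', Q.Z_smul hw, sub_self]; rfl
    -- `θ ∘ y = θ`
    have hinv : ∀ (y : Y) (w : W Y V), θ ⟨y • (w : U), W_inv V y w.2⟩ = θ w := by
      let K : Subgroup Y :=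
        { carrier := {y | ∀ w : W Y V, θ ⟨y • (w : U), W_inv V y w.2⟩ = θ w}
          one_mem' := fun w => by
            congr 1
            exact Subtype.ext (one_smul _ _)
          mul_mem' := fun {x y} hx hy w => by
            have h1 := hx ⟨y • (w : U), W_inv V y w.2⟩
            have h2 := hy w
            rw [← h2, ← h1]
            congr 1
            exact Subtype.ext (mul_smul _ _ _)
          inv_mem' := fun {x} hx w => by
            have h1 := hx ⟨x⁻¹ • (w : U), W_inv V x⁻¹ w.2⟩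
            rw [← h1]
            congr 1
            exact Subtype.ext (smul_inv_smul _ _) }
      have h1 : A ≤ K := by
        intro a ha w
        apply Subtype.ext
        rw [hs', hs']
        show (s : Y) • a • (w : U) - a • (w : U) = (s : Y) • (w : U) - w
        have h2 := hc s s.2 a ha
        rw [smul_smul, ← h2, mul_smul, ← smul_sub]
        have h3 : (s : Y) • (w : U) - w ∈ Z := hQW s (hB s.2) w w.2
        exact Q.Z_smul h3 a
      have h2 : MulAut.conj g • A ≤ K := by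
        intro a ha w
        have ha' := MinFF.mem_cj.1 ha
        apply Subtype.ext
        rw [ht', ht']
        show (t : Y) • a • (w : U) - a • (w : U) = (t : Y) • (w : U) - w
        have h2 := hc _ (mem_cj.1 t.2) _ ha'
        have h3 : a * (t : Y) = t * a := by
          have e1 : g⁻¹ * a * g * (g⁻¹ * (t : Y) * g) = g⁻¹ * (a * t) * g := by group
          have e2 : g⁻¹ * (t : Y) * g * (g⁻¹ * a * g) = g⁻¹ * (t * a) * g := by group
          rw [e1, e2] at h2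
          exact mul_left_cancel (mul_right_cancel h2)
        rw [smul_smul, ← h3, mul_smul, ← smul_sub]
        have h4 : (t : Y) • (w : U) - w ∈ Z := hQW t (hB' t.2) w w.2
        exact Q.Z_smul h4 a
      have h3 := sup_le h1 h2
      rw [h.ti.sup_eq_top hg] at h3
      intro y
      exact h3 (Subgroup.mem_top y)
    -- `θ = 0` on `W ∩ C`
    obtain ⟨a, ha, haO⟩ := SetLike.not_le_iff_exists.1 h.ti.not_le_pCore
    have hC : ∀ w : W Y V, (w : U) ∈ fx U A → θ w = 0 := by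
      intro w hw
      obtain ⟨v, hv, -, h1⟩ := h.secW.surj h.toQ hg ha haO (c := (w : U)) ⟨w.2, hw⟩
      have h2 : θ (⟨a • v, W_inv V a hv⟩ - ⟨v, hv⟩ - w) = 0 := hθZ _ h1
      rw [map_sub, map_sub, hinv a ⟨v, hv⟩, sub_self, zero_sub, neg_eq_zero] at h2
      exact h2
    apply AddMonoidHom.ext
    intro w
    have hw : (w : U) ∈ (W Y V ⊓ fx U A) ⊔ g • (W Y V ⊓ fx U A) := by
      rw [h.secW.sup_eq h.toQ hg]; exact w.2
    obtain ⟨c₁, h₁, c₂, h₂, e⟩ := AddSubgroup.mem_sup.1 hw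
    rw [mem_smul] at h₂
    have e' : w = ⟨c₁, h₁.1⟩ + ⟨g • (g⁻¹ • c₂), W_inv V g h₂.1⟩ := by
      apply Subtype.ext
      show (w : U) = c₁ + g • g⁻¹ • c₂
      rw [smul_inv_smul, e]
    rw [e', map_add, hC _ h₁.2, hinv g ⟨g⁻¹ • c₂, h₂.1⟩, hC _ h₂.2, add_zero]
    rfl
  have hcard := card_sup_inf T₁ T₂
  rw [hinf] at hcard
  have h1 : Nat.card (⊥ : AddSubgroup (W Y V →+ Z)) = 1 := AddSubgroup.card_bot
  rw [h1, mul_one] at hcard
  have h2 := card_le (sup_le hT₁ hT₂)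
  have h3 : Nat.card T₁ = Nat.card T₂ := by
    have p : 0 < Nat.card ↥(B ⊓ cf Y (W Y V)) := Nat.card_pos
    exact Nat.eq_of_mul_eq_mul_right p (by rw [← c₁, ← c₂])
  rw [c, c₁]
  calc Nat.card T₁ * Nat.card ↥(B ⊓ cf Y (W Y V)) * (Nat.card T₁ * Nat.card ↥(B ⊓ cf Y (W Y V))) *
        Nat.card ↥(QQ A ⊓ cf Y (W Y V))
      = (Nat.card T₁ * Nat.card T₁) * (Nat.card ↥(QQ A ⊓ cf Y (W Y V)) *
        (Nat.card ↥(B ⊓ cf Y (W Y V)) * Nat.card ↥(B ⊓ cf Y (W Y V)))) := by ring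
    _ ≤ Nat.card T * (Nat.card ↥(QQ A ⊓ cf Y (W Y V)) *
        (Nat.card ↥(B ⊓ cf Y (W Y V)) * Nat.card ↥(B ⊓ cf Y (W Y V)))) := by
        refine Nat.mul_le_mul_right _ ?_
        calc Nat.card T₁ * Nat.card T₁ = Nat.card T₁ * Nat.card T₂ := by rw [← h3]
          _ = Nat.card ↥(T₁ ⊔ T₂) := hcard.symm
          _ ≤ Nat.card T := h2
    _ = _ := by ring

end Hyp

end Cfsg.Agent.Omega.NO3b.BasePt.LW1
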