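import Cfsg.Agent.Omega.NO3b.BasePt.EndFam
import Cfsg.Agent.Omega.NO3b.BasePt.FamG

/-!
# NotFFG (3L-T): `BasePoint`

* `existsFam : ExistsFam` (helper823's `exists_famG`), **`basePoint : BasePoint`** (helper235's `basePoint_of`).
-/

set_option autoImplicit false

namespace Cfsg.Agent.Omega.NO3b.BasePt

open Subgroup Cfsg

universe u

/-- **the family of blocks exists** -/
theorem existsFam : ExistsFam.{u} := by
  intro G _ _ S M B hc hSne g
  have l := g.adm.lines
  obtain ⟨𝒴, h1, h2, h3⟩ := exists_famG g hc hSne (N := normalizer (Exit.VB (S : Subgroup G) B : Set G)) le_rfl l.comm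
    l.NJ
  exact ⟨_, le_rfl, l.comm, 𝒴, l.NJ, h1, h2, h3⟩

/-- **`BasePoint`** -/
theorem basePoint : BasePoint.{u} := basePoint_of existsFam

end Cfsg.Agent.Omega.NO3b.BasePt
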