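import Cfsg.Agent.Omega.NO3b.BasePt.MoveTop

/-!
# END5 (#23013), part 3: an element of `RR` normalising all `T ∩ Y` normalises `Z₁ = C_W(T ∩ RR)`

Notation of `MoveTop.lean`.

* `fix_of_norm`, `smul_mem` : `x ∈ RR`, `x⁻¹ (T ∩ Y) x ≤ T` for all `Y ∈ 𝒴`: `x Z₁ ≤ Z₁`;
* `cm_ne_bot` : `[W, Y] ≠ 0`.
-/

set_option autoImplicit false

namespace Cfsg.Agent.Omega.NO3b.BasePt.MoveTop

open Subgroup
open Cfsg.Agent.Omega.NO3b.Exit Cfsg.Agent.Omega.NO3b.Exit.Ten Cfsg.Agent.Omega.NO3b.Exit.Descent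
open Cfsg.Agent.Omega.FF.Basic (fx)

universe u v

variable {Γ : Type u} [Group Γ] {W : Type v} [AddCommGroup W] [DistribMulAction Γ W] {M : Subgroup Γ}
  {𝒴 : Set (Subgroup Γ)}

/-- `[W, Y] ≠ 0` -/
theorem cm_ne_bot {Y : Subgroup Γ} (hY : IsBlk W Y) : cm W Y ≠ ⊥ := by
  obtain ⟨A, _, _, _, hI, htv, two, himg, hA2, hE2⟩ := hY.ex
  have hf0 : ∃ f : HomY Y A W, f ≠ 0 := by
    by_contra hcon
    push Not at hcon
    have : Subsingleton (HomY Y A W) := ⟨fun f g => by rw [hcon f, hcon g]⟩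
    rw [Module.finrank_zero_of_subsingleton] at hE2
    omega
  obtain ⟨f₀, hf₀⟩ := hf0
  intro e
  apply hf₀
  apply Subtype.ext
  ext a
  have h1 : (f₀ : A →+ W) a ∈ cm W Y := by rw [himg]; exact mem_img f₀ a
  rw [e] at h1
  exact h1

variable (Fa : Fam W M 𝒴)
include Fa

variable (gas : ∀ w : W, ∃ a ∈ sm' W 𝒴, ∃ c : W, (∀ r ∈ RR 𝒴, r • c = c) ∧ w = a + c)
include gas

/-- **One block.** -/
theorem fix_of_norm [Finite W] {T : Subgroup Γ} (hT2 : IsPGroup 2 T) {Y : Subgroup Γ} (hY : Y ∈ 𝒴)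
    (odd : ¬ 2 ∣ T.relIndex Y) {x : Γ} (hxR : x ∈ RR 𝒴) (hn : ∀ t ∈ T, t ∈ Y → x⁻¹ * t * x ∈ T) :
    ∀ z ∈ fx W (T ⊓ RR 𝒴), ∀ d ∈ T ⊓ RR 𝒴, d • x • z - x • z ∈ fx W Y := by
  obtain ⟨A, _, _, _, hI, htv, two, himg, hA2, hE2⟩ := (Fa.blk Y hY).ex
  have hYR : Y ≤ RR 𝒴 := le_sSup hY
  have hf0 : ∃ f : HomY Y A W, f ≠ 0 := by
    by_contra hcon
    push Not at hcon
    have : Subsingleton (HomY Y A W) := ⟨fun f g => by rw [hcon f, hcon g]⟩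
    rw [Module.finrank_zero_of_subsingleton] at hE2
    omega
  obtain ⟨f₀, hf₀⟩ := hf0
  have hinj := HomY.inj hf₀
  have hfc : ∀ (f : HomY Y A W) (a : A), (f : A →+ W) a ∈ cm W Y := fun f a => by
    rw [himg]; exact mem_img f a
  obtain ⟨z₀, ⟨n, rfl⟩, hz0, hz⟩ := exists_fix (S := T ⊓ RR 𝒴) (A := (f₀ : A →+ W).range) (hT2.to_le inf_le_left)
    Fa.two (by
      rintro s hs _ ⟨a, rfl⟩
      obtain ⟨y, hy, h1⟩ := act_RR Fa hY hs.2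
      rw [h1 _ (hfc f₀ a)]
      exact ⟨(⟨y, hy⟩ : Y) • a, f₀.2 _ _⟩) (by
      intro e
      apply hf₀
      apply Subtype.ext
      ext a
      have h1 : (f₀ : A →+ W) a ∈ (f₀ : A →+ W).range := ⟨a, rfl⟩
      rw [e] at h1
      exact h1)
  have hn0 : n ≠ 0 := by
    rintro rfl
    exact hz0 (map_zero _)
  have hfn : ∀ d ∈ T ⊓ RR 𝒴, ∀ y : Y, (∀ v ∈ cm W Y, d • v = (y : Γ) • v) → y • n = n := by
    intro d hd y hy
    apply hinj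
    rw [f₀.2]
    change (y : Γ) • (f₀ : A →+ W) n = _
    rw [← hy _ (hfc f₀ n), hz d hd]
  have hTn : ∀ t ∈ T.subgroupOf Y, t • n = n := fun t ht => hfn t ⟨ht, hYR t.2⟩ t fun _ _ => rfl
  have hZ : ∀ z ∈ fx W (T ⊓ RR 𝒴), ∃ (f : HomY Y A W) (c : W), c ∈ fx W Y ∧ z = (f : A →+ W) n + c := by
    intro z hz1
    obtain ⟨a, ha, c, hc, rfl⟩ := dec Fa gas hY z
    have h1 : ∀ t ∈ T.subgroupOf Y, t • a = a := by
      intro t ht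
      have h2 := hz1 t ⟨ht, hYR t.2⟩
      rw [smul_add, hc t t.2] at h2
      exact add_right_cancel h2
    obtain ⟨f, hf⟩ := exists_of_fix htv two odd hn0 hTn (himg ▸ ha) h1
    exact ⟨f, c, hc, by rw [hf]⟩
  obtain ⟨yx, hyx, hx⟩ := act_RR Fa hY hxR
  -- the point is fixed by `x`
  have hκ : ∃ κ : KK Y A, (⟨yx, hyx⟩ : Y) • n = κ • n := by
    refine fix_line htv two odd hn0 hTn fun t ht => ?_
    apply hinj
    rw [f₀.2]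
    change (t : Γ) • (f₀ : A →+ W) ((⟨yx, hyx⟩ : Y) • n) = _
    have h1 : (f₀ : A →+ W) ((⟨yx, hyx⟩ : Y) • n) = x • (f₀ : A →+ W) n := by
      rw [hx _ (hfc f₀ n)]
      exact f₀.2 (⟨yx, hyx⟩ : Y) n
    rw [h1]
    have h2 : x⁻¹ * (t : Γ) * x ∈ T ⊓ RR 𝒴 :=
      ⟨hn t ht t.2, (RR 𝒴).mul_mem ((RR 𝒴).mul_mem ((RR 𝒴).inv_mem hxR) (hYR t.2)) hxR⟩
    have h3 := hz _ h2
    rw [mul_smul, mul_smul, inv_smul_eq_iff] at h3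
    exact h3
  obtain ⟨κ, hκ⟩ := hκ
  intro z hz1 d hd
  obtain ⟨f, c, hc, rfl⟩ := hZ z hz1
  obtain ⟨yd, hyd, hd'⟩ := act_RR Fa hY hd.2
  have h1 : x • (f : A →+ W) n = ((κ • f : HomY Y A W) : A →+ W) n := by
    rw [hx _ (hfc f n), HomY.smul_apply, ← hκ]
    exact (f.2 (⟨yx, hyx⟩ : Y) n).symm
  have h2 : d • ((κ • f : HomY Y A W) : A →+ W) n = ((κ • f : HomY Y A W) : A →+ W) n := by
    rw [hd' _ (hfc _ n)]
    have h3 := hfn d hd ⟨yd, hyd⟩ hd'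
    conv_rhs => rw [← h3]
    exact ((κ • f : HomY Y A W).2 (⟨yd, hyd⟩ : Y) n).symm
  have h3 : x • c ∈ fx W Y := smul_fx Fa hY hxR hc
  have h4 : d • x • c ∈ fx W Y := smul_fx Fa hY hd.2 h3
  have e : d • x • ((f : A →+ W) n + c) - x • ((f : A →+ W) n + c) = d • x • c - x • c := by
    rw [smul_add, smul_add, h1, h2]
    abel
  rw [e]
  exact (fx W Y).sub_mem h4 h3

/-- `x Z₁ ≤ Z₁` -/
theorem smul_mem [Finite W] {T : Subgroup Γ} (hT2 : IsPGroup 2 T) (odd : ∀ Y ∈ 𝒴, ¬ 2 ∣ T.relIndex Y)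
    {x : Γ} (hxR : x ∈ RR 𝒴) (hn : ∀ Y ∈ 𝒴, ∀ t ∈ T, t ∈ Y → x⁻¹ * t * x ∈ T) {z : W}
    (hz : z ∈ fx W (T ⊓ RR 𝒴)) : x • z ∈ fx W (T ⊓ RR 𝒴) := by
  intro d hd
  rw [← sub_eq_zero]
  exact sm_eq_zero Fa (br_sm hd.2 _) fun Y hY => fix_of_norm Fa gas hT2 hY (odd Y hY) hxR (hn Y hY) z hz d hd

end Cfsg.Agent.Omega.NO3b.BasePt.MoveTop
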