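import Cfsg.Agent.Omega.NO3b.BasePt.NodeTv

/-!
# NotFFG (NO-3L), the base point, (E2), part 2: one block on `W`

`Y` a block on `W` (`IsBlk W Y`), faithful, `W = [W, Y] + C_W(Y)`; `T ≤ Y` of odd index.

* `lT W Y T` = `[W, Y] ∩ C_W(T)`, the point of `T`; `AT W Y T` = the transvections with centre `lT W Y T`
  (`[W, y] ≤ lT`, `[lT, y] = 0`), intrinsic;
* `AT_sq` : `AT` is elementary abelian; `AT_conj` : conjugation;
* `AT_le` : `T` a 2-group: `AT W Y T ≤ T`;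
* `lT_le` : `AT W Y T' ≤ T` implies `lT W Y T' ≤ lT W Y T`;
* **`AT_le_of`** : if `AT W Y T' ≤ P`, `T ≤ P` and `J ≥ T` contains all `y ∈ Y ∩ P` which fix `lT W Y T` and all
  `y ∈ Y ∩ P` with `[W, y, T] ≤ lT W Y T`, then `AT W Y T' ≤ J`.
-/

set_option autoImplicit false
set_option linter.unusedSectionVars false

namespace Cfsg.Agent.Omega.NO3b.BasePt.Node

open Subgroup
open Cfsg.Agent.Omega.NO3b.Exit Cfsg.Agent.Omega.NO3b.Exit.Ten Cfsg.Agent.Omega.NO3b.Exit.Descent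
open Cfsg.Agent.Omega.FF.Basic (fx mem_fx cj mem_cj mem_cj_of)

universe u v w

variable {Γ : Type u} [Group Γ] (W : Type v) [AddCommGroup W] [DistribMulAction Γ W]

/-- the point of `T` -/
def lT (Y T : Subgroup Γ) : AddSubgroup W := cm W Y ⊓ fx W T

/-- the transvections of `Y` with centre `lT W Y T` -/
def AT (Y T : Subgroup Γ) : Subgroup Γ where
  carrier := {y | y ∈ Y ∧ (∀ w : W, y • w - w ∈ lT W Y T) ∧ ∀ v ∈ lT W Y T, y • v = v}
  one_mem' := ⟨one_mem _, fun w => by rw [one_smul, sub_self]; exact zero_mem _, fun v _ => one_smul _ v⟩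
  mul_mem' := by
    rintro x y ⟨hx, hx1, hx2⟩ ⟨hy, hy1, hy2⟩
    refine ⟨mul_mem hx hy, fun w => ?_, fun v hv => by rw [mul_smul, hy2 v hv, hx2 v hv]⟩
    have e : (x * y) • w - w = x • (y • w - w) + (x • w - w) := by rw [mul_smul, smul_sub]; abel
    rw [e, hx2 _ (hy1 w)]
    exact add_mem (hy1 w) (hx1 w)
  inv_mem' := by
    rintro y ⟨hy, hy1, hy2⟩
    have h2 : ∀ v ∈ lT W Y T, y⁻¹ • v = v := fun v hv => by rw [inv_smul_eq_iff, hy2 v hv]
    refine ⟨inv_mem hy, fun w => ?_, h2⟩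
    have e : y⁻¹ • w - w = - (y • (y⁻¹ • w) - y⁻¹ • w) := by rw [smul_inv_smul]; abel
    rw [e]
    exact neg_mem (hy1 _)

variable {W}
variable {Y T T' P J : Subgroup Γ}

theorem mem_AT {y : Γ} : y ∈ AT W Y T ↔ y ∈ Y ∧ (∀ w : W, y • w - w ∈ lT W Y T) ∧ ∀ v ∈ lT W Y T, y • v = v :=
  Iff.rfl

theorem AT_Y : AT W Y T ≤ Y := fun _ hy => hy.1

/-! ### conjugation -/

theorem mem_cm_of {y : Γ} (hy : y ∈ Y) (w : W) : y • w - w ∈ cm W Y := AddSubgroup.subset_closure ⟨y, hy, w, rfl⟩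

theorem smul_cm {y : Γ} (hy : y ∈ Y) {v : W} (hv : v ∈ cm W Y) : y • v ∈ cm W Y := by
  have e : y • v = (y • v - v) + v := by abel
  rw [e]
  exact add_mem (mem_cm_of hy v) hv

theorem mem_cm_cj {g : Γ} {v : W} : v ∈ cm W (cj g Y) ↔ g⁻¹ • v ∈ cm W Y := by
  have key : ∀ (g : Γ) (Y : Subgroup Γ) (v : W), v ∈ cm W Y → g • v ∈ cm W (cj g Y) := by
    intro g Y v hv
    induction hv using AddSubgroup.closure_induction with
    | mem v hv =>
      obtain ⟨y, hy, w, rfl⟩ := hv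
      refine AddSubgroup.subset_closure ⟨g * y * g⁻¹, mem_cj_of hy, g • w, ?_⟩
      rw [smul_sub, mul_smul, mul_smul, inv_smul_smul]
    | zero => rw [smul_zero]; exact zero_mem _
    | add a b _ _ ha hb => rw [smul_add]; exact add_mem ha hb
    | neg a _ ha => rw [smul_neg]; exact neg_mem ha
  refine ⟨fun h => ?_, fun h => ?_⟩
  · have h1 := key g⁻¹ _ _ h
    rwa [FF.Basic.cj_inv_cj] at h1
  · have h1 := key g _ _ h
    rwa [smul_inv_smul] at h1

theorem mem_lT_cj {g : Γ} {v : W} : v ∈ lT W (cj g Y) (cj g T) ↔ g⁻¹ • v ∈ lT W Y T := by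
  change v ∈ cm W (cj g Y) ∧ v ∈ fx W (cj g T) ↔ g⁻¹ • v ∈ cm W Y ∧ g⁻¹ • v ∈ fx W T
  rw [mem_cm_cj, FF.Basic.mem_fx_cj]

theorem mem_AT_cj {g x : Γ} : x ∈ AT W (cj g Y) (cj g T) ↔ g⁻¹ * x * g ∈ AT W Y T := by
  rw [mem_AT, mem_AT, mem_cj]
  refine and_congr_right fun _ => and_congr ?_ ?_
  · constructor
    · intro h w
      have h1 := mem_lT_cj.1 (h (g • w))
      rwa [smul_sub, inv_smul_smul, ← mul_smul, ← mul_smul] at h1
    · intro h w
      have h1 := h (g⁻¹ • w)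
      rw [mem_lT_cj, smul_sub]
      rwa [mul_smul, mul_smul, smul_inv_smul] at h1
  · constructor
    · intro h v hv
      have h1 := h (g • v) (mem_lT_cj.2 (by rwa [inv_smul_smul]))
      rw [mul_smul, mul_smul, h1, inv_smul_smul]
    · intro h v hv
      have h1 := h _ (mem_lT_cj.1 hv)
      rw [mul_smul, mul_smul, smul_inv_smul] at h1
      exact smul_left_cancel g⁻¹ h1

theorem AT_cj (g : Γ) : AT W (cj g Y) (cj g T) = cj g (AT W Y T) := by
  ext x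
  rw [mem_AT_cj, mem_cj]

theorem AT_sq (faith : ∀ g : Γ, (∀ w : W, g • w = w) → g = 1) (two : ∀ w : W, w + w = 0) {y : Γ}
    (hy : y ∈ AT W Y T) : y * y = 1 := by
  refine faith _ fun w => ?_
  have h1 := hy.2.2 _ (hy.2.1 w)
  have e : (y * y) • w = y • (y • w - w) + (y • w - w) + w := by rw [mul_smul, smul_sub]; abel
  rw [e, h1, two, zero_add]

/-- a 2-group over a subgroup of odd index -/
theorem le_of_odd [Finite Γ] {T K Y : Subgroup Γ} (hK : IsPGroup 2 K) (hTK : T ≤ K) (hKY : K ≤ Y)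
    (hT : ¬ 2 ∣ T.relIndex Y) : K ≤ T := by
  rw [← relIndex_eq_one]
  have h1 := relIndex_mul_relIndex T K Y hTK hKY
  have h2 : T.relIndex K ∣ Nat.card K := index_dvd_card _
  obtain ⟨k, hk⟩ := IsPGroup.iff_card.1 hK
  rw [hk] at h2
  obtain ⟨j, -, hj⟩ := (Nat.dvd_prime_pow Nat.prime_two).1 h2
  rcases j with _ | j
  · rw [hj, pow_zero]
  · exfalso
    apply hT
    rw [← h1, hj, pow_succ]
    exact (Dvd.intro_left _ rfl : 2 ∣ 2 ^ j * 2).mul_right _

theorem AT_le [Finite Γ] (faith : ∀ g : Γ, (∀ w : W, g • w = w) → g = 1) (two : ∀ w : W, w + w = 0)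
    (hT2 : IsPGroup 2 T) (hTY : T ≤ Y) (hTo : ¬ 2 ∣ T.relIndex Y) : AT W Y T ≤ T := by
  have h1 : IsPGroup 2 (AT W Y T) := FF.Basic.EA.isPGroup fun y hy => AT_sq faith two hy
  have h2 : T ≤ normalizer (AT W Y T : Set Γ) := by
    intro t ht
    rw [← FF.Basic.cj_eq_iff_mem_normalizer, ← AT_cj, FF.Basic.cj_eq_self_of_mem ht,
      FF.Basic.cj_eq_self_of_mem (hTY ht)]
  have h3 : IsPGroup 2 (T ⊔ AT W Y T : Subgroup Γ) := IsPGroup.to_sup_of_normal_right' hT2 h1 h2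
  exact le_sup_right.trans (le_of_odd h3 le_sup_left (sup_le hTY AT_Y) hTo)

/-! ### the module -/

section bridge

variable {A : Type w} [AddCommGroup A] [Finite A] [DistribMulAction Y A] [hI : IsIrr Y A]

theorem mem_lT [Finite W] (htv : AllTv Y A) (twoA : ∀ a : A, a + a = 0) (hcm : cm W Y = img Y A W)
    (hTY : T ≤ Y) (hTo : ¬ 2 ∣ T.relIndex Y) {n : A} (hn0 : n ≠ 0) (hn : ∀ t : Y, (t : Γ) ∈ T → t • n = n) {v : W} :
    v ∈ lT W Y T ↔ ∃ f : HomY Y A W, v = (f : A →+ W) n := by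
  constructor
  · rintro ⟨h1, h2⟩
    replace h1 : v ∈ cm W Y := h1
    rw [hcm] at h1
    exact exists_of_fix htv twoA (T := T.subgroupOf Y) hTo hn0 (fun t ht => hn t ht) h1 fun t ht => h2 (t : Γ) ht
  · rintro ⟨f, rfl⟩
    refine ⟨?_, fun t ht => ?_⟩
    · change _ ∈ cm W Y
      rw [hcm]
      exact mem_img f n
    · have h1 := f.2 ⟨t, hTY ht⟩ n
      rw [hn ⟨t, hTY ht⟩ ht] at h1
      exact h1.symm

theorem eq_of_triv (faith : ∀ g : Γ, (∀ w : W, g • w = w) → g = 1)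
    (hsp : ∀ w : W, ∃ c ∈ cm W Y, ∀ y ∈ Y, y • (w - c) = w - c) {y : Γ} (hy : y ∈ Y)
    (h : ∀ v ∈ cm W Y, y • v = v) : y = 1 := by
  refine faith _ fun w => ?_
  obtain ⟨c, hc, h1⟩ := hsp w
  have e : y • w = y • c + y • (w - c) := by rw [← smul_add]; congr 1; abel
  rw [e, h c hc, h1 y hy]
  abel

/-- `[·, y]` -/
def dd (W : Type v) [AddCommGroup W] [DistribMulAction Γ W] (y : Γ) : W →+ W :=
  DistribSMul.toAddMonoidHom W y - AddMonoidHom.id W

theorem dd_apply (y : Γ) (w : W) : dd W y w = y • w - w := rfl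

theorem map_img (hcm : cm W Y = img Y A W) {N : AddSubgroup W} (D : W →+ W)
    (h : ∀ (f : HomY Y A W) (a : A), D ((f : A →+ W) a) ∈ N) : ∀ v ∈ cm W Y, D v ∈ N := by
  intro v hv
  rw [hcm] at hv
  have h1 : img Y A W ≤ N.comap D := (AddSubgroup.closure_le _).2 (by
    rintro _ ⟨f, a, rfl⟩
    exact h f a)
  exact h1 hv

theorem dd_f (y : Y) (f : HomY Y A W) (a : A) : dd W (y : Γ) ((f : A →+ W) a) = (f : A →+ W) (y • a - a) := by
  rw [dd_apply, map_sub, f.2 y a]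
  rfl

theorem faithA (faith : ∀ g : Γ, (∀ w : W, g • w = w) → g = 1)
    (hsp : ∀ w : W, ∃ c ∈ cm W Y, ∀ y ∈ Y, y • (w - c) = w - c) (hcm : cm W Y = img Y A W) (y : Y)
    (h : ∀ a : A, y • a = a) : y = 1 := by
  apply Subtype.ext
  refine eq_of_triv faith hsp y.2 fun v hv => ?_
  have h1 := map_img hcm (N := ⊥) (dd W (y : Γ)) (fun f a => by
    rw [dd_f, h a, sub_self, map_zero]; exact zero_mem _) v hv
  exact sub_eq_zero.1 (AddSubgroup.mem_bot.1 h1)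

theorem mem_AT_iff [Finite W] (htv : AllTv Y A) (twoA : ∀ a : A, a + a = 0) (hcm : cm W Y = img Y A W)
    (hne : ∃ f : HomY Y A W, f ≠ 0) (hsp : ∀ w : W, ∃ c ∈ cm W Y, ∀ y ∈ Y, y • (w - c) = w - c)
    (hTY : T ≤ Y) (hTo : ¬ 2 ∣ T.relIndex Y) {n : A} (hn0 : n ≠ 0) (hn : ∀ t : Y, (t : Γ) ∈ T → t • n = n) {y : Y} :
    (y : Γ) ∈ AT W Y T ↔ ∃ φ : Module.Dual (KK Y A) A, φ n = 0 ∧ IsTv y φ n := by
  have hl : ∀ {v : W}, v ∈ lT W Y T ↔ ∃ f : HomY Y A W, v = (f : A →+ W) n :=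
    mem_lT htv twoA hcm hTY hTo hn0 hn
  constructor
  · rintro ⟨-, h1, h2⟩
    obtain ⟨f, hf⟩ := hne
    have hfi := HomY.inj hf
    -- `y x - x ∈ K n`
    have h3 : ∀ x : A, ∃ κ : KK Y A, y • x - x = κ • n := by
      intro x
      have h4 := h1 ((f : A →+ W) x)
      have h5 : (y : Γ) • (f : A →+ W) x - (f : A →+ W) x = (f : A →+ W) (y • x - x) := by
        rw [map_sub, f.2 y x]; rfl
      rw [h5] at h4
      obtain ⟨g, hg⟩ := hl.1 h4
      by_cases h0 : y • x - x = 0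
      · exact ⟨0, by rw [h0, zero_smul]⟩
      obtain ⟨κ, hκ⟩ := HomY.fact hg h0
      have hg0 : g ≠ 0 := by
        rintro rfl
        rw [smul_zero] at hκ
        exact hf hκ
      rw [hκ, HomY.smul_apply] at hg
      have h6 := HomY.inj hg0 hg
      have hκ0 : κ ≠ 0 := by
        rintro rfl
        rw [zero_smul] at h6
        exact hn0 h6.symm
      exact ⟨κ⁻¹, by rw [← h6, smul_smul, inv_mul_cancel₀ hκ0, one_smul]⟩
    -- `ψ n = 1`
    obtain ⟨ψ, hψ, -⟩ := exists_dual (Y := Y) (A := A) (X := ⊥) (a := n)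
      (fun h => hn0 ((Submodule.mem_bot _).1 h))
    refine ⟨ψ.comp (lin y - LinearMap.id), ?_, fun x => ?_⟩
    · have h4 : y • n = n := by
        have h5 := h2 _ (hl.2 ⟨f, rfl⟩)
        exact hfi ((f.2 y n).trans h5)
      rw [LinearMap.comp_apply, LinearMap.sub_apply, lin_apply, LinearMap.id_apply, h4, sub_self, map_zero]
    · obtain ⟨κ, hκ⟩ := h3 x
      rw [LinearMap.comp_apply, LinearMap.sub_apply, lin_apply, LinearMap.id_apply, hκ, map_smul, hψ, smul_eq_mul,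
        mul_one, ← hκ]
      abel
  · rintro ⟨φ, h0, h⟩
    refine ⟨y.2, ?_, fun v hv => ?_⟩
    · intro w
      obtain ⟨c, hc, h1⟩ := hsp w
      have e : (y : Γ) • w - w = (y : Γ) • c - c := by
        have h2 := h1 y y.2
        rw [smul_sub] at h2
        have h3 : (y : Γ) • w - w - ((y : Γ) • c - c) = ((y : Γ) • w - (y : Γ) • c) - (w - c) := by abel
        rw [← sub_eq_zero, h3, h2, sub_self]
      rw [e]
      refine map_img hcm (N := lT W Y T) (dd W (y : Γ)) (fun f a => ?_) c hc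
      rw [dd_f, h a, add_sub_cancel_left]
      exact hl.2 ⟨φ a • f, (HomY.smul_apply _ _ _).symm⟩
    · obtain ⟨f, rfl⟩ := hl.1 hv
      have h1 := f.2 y n
      rw [h n, h0, zero_smul, add_zero] at h1
      exact h1.symm

end bridge

/-! ### one block -/

/-- `Y` moves `[W, Y]` -/
theorem exists_move (B : IsBlk W Y) : ∃ y ∈ Y, ∃ v ∈ cm W Y, y • v ≠ v := by
  obtain ⟨A, i1, i2, i3, i4, htv, twoA, hcm, hA, hE⟩ := B.ex
  obtain ⟨a, ha⟩ := i4.ne
  have h1 : ∃ b : A, b ∉ Submodule.span (KK Y A) ({a} : Set A) := by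
    by_contra hcon
    push Not at hcon
    have h2 := finrank_le_one a fun w => Submodule.mem_span_singleton.1 (hcon w)
    omega
  obtain ⟨b, hb⟩ := h1
  obtain ⟨χ, hχ1, hχ2⟩ := exists_dual hb
  obtain ⟨y, hy⟩ := htv χ a (hχ2 a (Submodule.mem_span_singleton_self a))
  have hne : ∃ f : HomY Y A W, f ≠ 0 := by
    by_contra hcon
    push Not at hcon
    have : Subsingleton (HomY Y A W) := ⟨fun a b => by rw [hcon a, hcon b]⟩
    rw [Module.finrank_zero_of_subsingleton] at hE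
    omega
  obtain ⟨f, hf⟩ := hne
  refine ⟨y, y.2, (f : A →+ W) b, by rw [hcm]; exact mem_img f b, fun h => ?_⟩
  have h3 := (f.2 y b).trans h
  have h4 := HomY.inj hf h3
  rw [hy b, hχ1, one_smul] at h4
  exact ha (add_eq_left.1 h4)

/-- One block, faithful, split. -/
structure One (W : Type v) [AddCommGroup W] [DistribMulAction Γ W] (Y : Subgroup Γ) : Prop where
  blk : IsBlk W Y
  faith : ∀ g : Γ, (∀ w : W, g • w = w) → g = 1
  two : ∀ w : W, w + w = 0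
  sp : ∀ w : W, ∃ c ∈ cm W Y, ∀ y ∈ Y, y • (w - c) = w - c

/-- `T ≤ Y` is a Sylow 2-subgroup -/
structure Syl (Y T : Subgroup Γ) : Prop where
  le : T ≤ Y
  two : IsPGroup 2 T
  odd : ¬ 2 ∣ T.relIndex Y

theorem exists_n (hT : Syl Y T) {A : Type w} [AddCommGroup A] [Finite A] [DistribMulAction Y A] [hI : IsIrr Y A]
    (twoA : ∀ a : A, a + a = 0) : ∃ n : A, n ≠ 0 ∧ ∀ t : Y, (t : Γ) ∈ T → t • n = n := by
  obtain ⟨n, -, hn0, hn⟩ := exists_fix (V := A) (H := Y) (S := T.subgroupOf Y)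
    (hT.two.comap_of_injective Y.subtype Y.subtype_injective) twoA (A := ⊤) (fun _ _ _ _ => trivial) (by
      intro h
      obtain ⟨a, ha⟩ := hI.ne
      have : a ∈ (⊤ : AddSubgroup A) := trivial
      rw [h] at this
      exact ha this)
  exact ⟨n, hn0, fun t ht => hn t ht⟩

namespace One

variable (B : One W Y)
include B

/-- (F1) -/
theorem AT_le [Finite Γ] (hT : Syl Y T) : AT W Y T ≤ T := Node.AT_le B.faith B.two hT.two hT.le hT.odd

theorem eq_one {y : Γ} (hy : y ∈ Y) (h : ∀ v ∈ cm W Y, y • v = v) : y = 1 := eq_of_triv B.faith B.sp hy h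

/-- (F2) -/
theorem lT_le [Finite W] (hT : Syl Y T) (hT' : Syl Y T') (hAT : AT W Y T' ≤ T) : lT W Y T' ≤ lT W Y T := by
  obtain ⟨A, i1, i2, i3, i4, htv, twoA, hcm, -, hE⟩ := B.blk.ex
  obtain ⟨n, hn0, hn⟩ := exists_n hT twoA
  obtain ⟨m, hm0, hm⟩ := exists_n hT' twoA
  have hne : ∃ f : HomY Y A W, f ≠ 0 := by
    by_contra hcon
    push Not at hcon
    have : Subsingleton (HomY Y A W) := ⟨fun a b => by rw [hcon a, hcon b]⟩
    rw [Module.finrank_zero_of_subsingleton] at hE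
    omega
  have hlT : ∀ {v : W}, v ∈ lT W Y T ↔ ∃ f : HomY Y A W, v = (f : A →+ W) n :=
    mem_lT htv twoA hcm hT.le hT.odd hn0 hn
  have hlT' : ∀ {v : W}, v ∈ lT W Y T' ↔ ∃ f : HomY Y A W, v = (f : A →+ W) m :=
    mem_lT htv twoA hcm hT'.le hT'.odd hm0 hm
  by_cases h : n ∈ Submodule.span (KK Y A) ({m} : Set A)
  · obtain ⟨κ, hκ⟩ := Submodule.mem_span_singleton.1 h
    have hκ0 : κ ≠ 0 := by
      rintro rfl
      rw [zero_smul] at hκ
      exact hn0 hκ.symm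
    intro v hv
    obtain ⟨f, rfl⟩ := hlT'.1 hv
    refine hlT.2 ⟨κ⁻¹ • f, ?_⟩
    rw [HomY.smul_apply, ← hκ, smul_smul, inv_mul_cancel₀ hκ0, one_smul]
  · exfalso
    obtain ⟨χ, hχ1, hχ2⟩ := exists_dual h
    have hχm : χ m = 0 := hχ2 m (Submodule.mem_span_singleton_self m)
    obtain ⟨y, hy⟩ := htv χ m hχm
    have h1 : (y : Γ) ∈ AT W Y T' :=
      (mem_AT_iff htv twoA hcm hne B.sp hT'.le hT'.odd hm0 hm).2 ⟨χ, hχm, hy⟩
    have h2 := hn y (hAT h1)
    rw [hy n, hχ1, one_smul] at h2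
    exact hm0 (add_eq_left.1 h2)

/-- (F3) -/
theorem AT_le_of [Finite Γ] [Finite W] (hT : Syl Y T) (hT' : Syl Y T') (hTP : T ≤ P) (hTJ : T ≤ J)
    (hP : AT W Y T' ≤ P) (hJ1 : ∀ y ∈ Y, y ∈ P → (∀ v ∈ lT W Y T, y • v = v) → y ∈ J)
    (hJ2 : ∀ y ∈ Y, y ∈ P → (∀ (w : W), ∀ t ∈ T, t • (y • w - w) - (y • w - w) ∈ lT W Y T) → y ∈ J) :
    AT W Y T' ≤ J := by
  obtain ⟨A, i1, i2, i3, i4, htv, twoA, hcm, -, hE⟩ := B.blk.ex
  obtain ⟨n, hn0, hn⟩ := exists_n hT twoA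
  obtain ⟨m, hm0, hm⟩ := exists_n hT' twoA
  have hne : ∃ f : HomY Y A W, f ≠ 0 := by
    by_contra hcon
    push Not at hcon
    have : Subsingleton (HomY Y A W) := ⟨fun a b => by rw [hcon a, hcon b]⟩
    rw [Module.finrank_zero_of_subsingleton] at hE
    omega
  have hlT : ∀ {v : W}, v ∈ lT W Y T ↔ ∃ f : HomY Y A W, v = (f : A →+ W) n :=
    mem_lT htv twoA hcm hT.le hT.odd hn0 hn
  have hf : ∀ y : Y, (∀ a : A, y • a = a) → y = 1 := faithA B.faith B.sp hcm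
  have key := tv_mem (P := P.subgroupOf Y) (J := J.subgroupOf Y) (T := T.subgroupOf Y) htv twoA hf
    (hT.two.comap_of_injective Y.subtype Y.subtype_injective) (fun t ht => hTP ht) (n := n) (fun t ht => hn t ht)
    (fun y φ h0 h => B.AT_le hT ((mem_AT_iff htv twoA hcm hne B.sp hT.le hT.odd hn0 hn).2 ⟨φ, h0, h⟩))
    (fun t ht => hTJ ht)
    (fun y hy h => hJ1 y y.2 hy fun v hv => by
      obtain ⟨f, rfl⟩ := hlT.1 hv
      have h1 := f.2 y n
      rw [h] at h1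
      exact h1.symm)
    (fun y hy h => hJ2 y y.2 hy fun w t ht => by
      obtain ⟨c, hc, h1⟩ := B.sp w
      have e : (y : Γ) • w - w = (y : Γ) • c - c := by
        have h2 := h1 y y.2
        rw [smul_sub] at h2
        have h3 : (y : Γ) • w - w - ((y : Γ) • c - c) = ((y : Γ) • w - (y : Γ) • c) - (w - c) := by abel
        rw [← sub_eq_zero, h3, h2, sub_self]
      rw [e]
      refine map_img hcm (N := lT W Y T) ((dd W t).comp (dd W (y : Γ))) (fun f a => ?_) c hc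
      rw [AddMonoidHom.comp_apply, dd_f]
      obtain ⟨κ, hκ⟩ := h a ⟨t, hT.le ht⟩ ht
      rw [dd_f (⟨t, hT.le ht⟩ : Y), hκ]
      exact hlT.2 ⟨κ • f, (HomY.smul_apply _ _ _).symm⟩)
    (m := m)
    (fun y φ h0 h => hP ((mem_AT_iff htv twoA hcm hne B.sp hT'.le hT'.odd hm0 hm).2 ⟨φ, h0, h⟩))
  intro y hy
  obtain ⟨φ, h0, h⟩ := (mem_AT_iff htv twoA hcm hne B.sp hT'.le hT'.odd hm0 hm (y := ⟨y, AT_Y hy⟩)).1 hy
  exact key _ φ h0 h

end One

end Cfsg.Agent.Omega.NO3b.BasePt.Node
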