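import Cfsg.Agent.Omega.NO3b.BasePt.NodeOne
import Cfsg.Agent.Omega.NO3b.BasePt.End
import Cfsg.Agent.Omega.NOThreeL.EndFiveKey

/-!
# (E2), group level: the field `e2` of `BaseDat` for `R = RG h B 𝒴`

`H` with `N_G(B) ≤ H ≤ N_G(V)`, `W = MU hc` (`V` additively), `𝒴` a family of blocks (`Fam`) invariant under the image
of `N_G(B)`.

* `irr_im` : "not generated by two proper subgroups over `S`" passes to the image;
* `mem_V2_iff` : `V2` is `V2g S (RG h B 𝒴) V`;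
* **`e2_gen`**, **`e2_of`** : `P ∈ P*(S)`, `P ≤ N_G(B)`, `P ≰ C_G(Z)` implies `P ≤ N_G(V₍₂₎)`.
-/

set_option autoImplicit false

namespace Cfsg.Agent.Omega.NO3b.BasePt.NodeGrp

open Subgroup Cfsg
open Cfsg.Agent.ZN (o2 zc zl)
open Cfsg.Agent.ZN.ChoiceSit (Syl syl_not_dvd)
open Cfsg.Agent.MinSimple.EmptyTI (syl_of_le)
open Cfsg.Agent.MinSimple.MinParabolic (IsMinPar)
open Cfsg.Agent.MinSimple.VModule (mem_zc le_centralizer_zc)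
open Cfsg.Agent.Omega.MinPar Cfsg.Agent.Omega.FrameNOFF
open Cfsg.Agent.Omega.NO3b.Wc (WC)
open Cfsg.Agent.Omega.FF.Basic (fx)
open Cfsg.Agent.Omega.FFBr (XX pr im mem_im pr_eq_one pr_surjective)
open Cfsg.Agent.Omega.NO3b.Exit.Bridge (MU val mk val_mk val_mem val_inj val_smul val_sub pr_smul_eq_iff')
open Cfsg.Agent.Omega.NO3b.BasePt
open Cfsg.Agent.Omega.NO3b.BasePt.MoveTop (sm')
open Cfsg.Agent.Omega.NO3b.ClosedPow (NN mem_NN)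
open Cfsg.Agent.Omega.NOThreeL.EndFive (Zo)
open Cfsg.Agent.Omega.NOThreeL.EndFiveKey (RG mem_RG)

universe u

variable {G : Type u} [Group G] {H V : Subgroup G}

/-- `P` is not generated by two proper subgroups over `S`: the image -/
theorem irr_im (h : H ≤ normalizer (V : Set G)) {S P : Subgroup G} (PH : P ≤ H) (SP : S ≤ P)
    (hP : ∀ Q₁ Q₂ : Subgroup G, S ≤ Q₁ → S ≤ Q₂ → Q₁ ⊔ Q₂ = P → Q₁ = P ∨ Q₂ = P) :
    ∀ Q₁ Q₂ : Subgroup (XX h), im h S ≤ Q₁ → im h S ≤ Q₂ → Q₁ ⊔ Q₂ = im h P → Q₁ = im h P ∨ Q₂ = im h P := by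
  intro Q₁ Q₂ h1 h2 h12
  let pe : Subgroup (XX h) → Subgroup G := fun Q => (Q.comap (pr h)).map H.subtype ⊓ P
  have hpe : ∀ (Q : Subgroup (XX h)) (g : G), g ∈ pe Q ↔ g ∈ P ∧ ∃ hg : g ∈ H, pr h ⟨g, hg⟩ ∈ Q := by
    intro Q g
    constructor
    · rintro ⟨⟨x, hx, rfl⟩, h3⟩
      exact ⟨h3, x.2, hx⟩
    · rintro ⟨h3, hg, h4⟩
      exact ⟨⟨⟨g, hg⟩, h4, rfl⟩, h3⟩
  have hS : ∀ Q : Subgroup (XX h), im h S ≤ Q → S ≤ pe Q := fun Q hQ s hs =>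
    (hpe Q s).2 ⟨SP hs, PH (SP hs), hQ ⟨⟨s, PH (SP hs)⟩, hs, rfl⟩⟩
  have him : ∀ Q : Subgroup (XX h), Q ≤ im h P → Q ≤ im h (pe Q) := by
    intro Q hQ x hx
    obtain ⟨a, ha, rfl⟩ := hQ hx
    exact ⟨a, (hpe Q a).2 ⟨ha, a.2, hx⟩, rfl⟩
  have hQ1 : Q₁ ≤ im h P := le_sup_left.trans h12.le
  have hQ2 : Q₂ ≤ im h P := le_sup_right.trans h12.le
  have hle : P ≤ pe Q₁ ⊔ pe Q₂ := by
    intro x hx
    have h3 : im h P ≤ im h (pe Q₁ ⊔ pe Q₂) := by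
      rw [← h12]
      exact sup_le ((him _ hQ1).trans (Exit.LocBar.im_mono h le_sup_left))
        ((him _ hQ2).trans (Exit.LocBar.im_mono h le_sup_right))
    obtain ⟨k, hk, hkx⟩ := h3 (⟨⟨x, PH hx⟩, hx, rfl⟩ : pr h ⟨x, PH hx⟩ ∈ im h P)
    have h4 : pr h (k⁻¹ * ⟨x, PH hx⟩) = 1 := by rw [map_mul, map_inv, hkx, inv_mul_cancel]
    have h5 : (k : G)⁻¹ * x ∈ pe Q₁ := by
      refine (hpe Q₁ _).2 ⟨?_, mul_mem (inv_mem k.2) (PH hx), ?_⟩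
      · have h6 : (k : G) ∈ P := (sup_le inf_le_right inf_le_right : pe Q₁ ⊔ pe Q₂ ≤ P) hk
        exact P.mul_mem (P.inv_mem h6) hx
      · have e : pr h ⟨(k : G)⁻¹ * x, mul_mem (inv_mem k.2) (PH hx)⟩ = 1 := h4
        rw [e]
        exact one_mem _
    have hk' : (k : G) ∈ pe Q₁ ⊔ pe Q₂ := hk
    have h6 := mul_mem hk' ((le_sup_left : pe Q₁ ≤ pe Q₁ ⊔ pe Q₂) h5)
    rwa [mul_inv_cancel_left] at h6
  have hback : ∀ Q : Subgroup (XX h), Q ≤ im h P → pe Q = P → Q = im h P := by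
    intro Q hQ hPQ
    refine le_antisymm hQ ?_
    rintro _ ⟨a, ha, rfl⟩
    have h3 : (a : G) ∈ pe Q := by rw [hPQ]; exact ha
    obtain ⟨-, hg, h4⟩ := (hpe Q _).1 h3
    exact h4
  rcases hP (pe Q₁) (pe Q₂) (hS _ h1) (hS _ h2) (le_antisymm (sup_le inf_le_right inf_le_right) hle) with h3 | h3
  · exact Or.inl (hback _ hQ1 h3)
  · exact Or.inr (hback _ hQ2 h3)

theorem irr_of_isMinPar {S P : Subgroup G} (hP : IsMinPar S P) :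
    ∀ Q₁ Q₂ : Subgroup G, S ≤ Q₁ → S ≤ Q₂ → Q₁ ⊔ Q₂ = P → Q₁ = P ∨ Q₂ = P := by
  intro Q₁ Q₂ h1 h2 h12
  by_contra hcon
  push Not at hcon
  obtain ⟨M, hM, h3⟩ := hP.exists_max
  have h4 := h3 Q₁ h1 (lt_of_le_of_ne (le_sup_left.trans h12.le) hcon.1)
  have h5 := h3 Q₂ h2 (lt_of_le_of_ne (le_sup_right.trans h12.le) hcon.2)
  exact absurd (h12.ge.trans (sup_le h4 h5)) (not_le_of_gt hM)

variable {h : H ≤ normalizer (V : Set G)} {hc : V ≤ centralizer (V : Set G)} {B S : Subgroup G}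
  {𝒴 : Set (Subgroup (XX h))}

theorem mem_Z1_iff (hSB : S ≤ normalizer (B : Set G)) (w : MU hc) :
    w ∈ Z1 (MU hc) (im h S) 𝒴 ↔ val w ∈ Zo S (RG h B 𝒴) V := by
  constructor
  · intro hw
    refine ⟨val_mem w, mem_centralizer_iff.2 ?_⟩
    rintro s ⟨hs, hs1, hs2, hs3⟩
    have h1 := hw _ ⟨⟨⟨s, hs2⟩, hs, rfl⟩, hs3⟩
    exact (pr_smul_eq_iff' h).1 h1
  · rintro hw t ⟨⟨a, ha, rfl⟩, ht⟩
    refine (pr_smul_eq_iff' h).2 ?_
    exact mem_centralizer_iff.1 hw.2 _ ⟨ha, hSB ha, a.2, ht⟩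

/-- `V2` in the group -/
theorem mem_V2_iff (hSB : S ≤ normalizer (B : Set G)) (hSV : S ≤ normalizer (V : Set G)) (w : MU hc) :
    w ∈ V2 (MU hc) (im h S) 𝒴 ↔ val w ∈ V2g S (RG h B 𝒴) V := by
  have h0 := mem_NN (B := S ⊓ RG h B 𝒴) (L := centralizer ((S ⊓ RG h B 𝒴 : Subgroup G) : Set G)) (x := val w) hc
    (inf_le_left.trans hSV)
  change _ ↔ val w ∈ NN V (S ⊓ RG h B 𝒴) (centralizer ((S ⊓ RG h B 𝒴 : Subgroup G) : Set G))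
  rw [h0]
  constructor
  · intro hw
    refine ⟨val_mem w, ?_⟩
    rintro s ⟨hs, hs1, hs2, hs3⟩
    have h1 := hw _ ⟨⟨⟨s, hs2⟩, hs, rfl⟩, hs3⟩
    have h2 := ((mem_Z1_iff hSB _).1 h1).2
    rw [val_sub, val_smul] at h2
    exact h2
  · rintro ⟨-, hw⟩ t ⟨⟨a, ha, rfl⟩, ht⟩
    refine (mem_Z1_iff hSB _).2 ⟨val_mem _, ?_⟩
    rw [val_sub, val_smul]
    exact hw a ⟨ha, hSB ha, a.2, ht⟩

/-- **(E2), general seed.** -/
theorem e2_gen [Finite G] {P Z : Subgroup G} (syl : Syl S (normalizer (B : Set G)))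
    (hBH : normalizer (B : Set G) ≤ H) (Fa : Fam (MU hc) (im h (normalizer (B : Set G))) 𝒴)
    (gas : ∀ w : MU hc, ∃ a ∈ sm' (MU hc) 𝒴, ∃ c : MU hc, (∀ r ∈ RR 𝒴, r • c = c) ∧ w = a + c)
    (ZV : Z ≤ V) (ZS : Z ≤ centralizer (S : Set G)) (hP : IsMinPar S P) (PB : P ≤ normalizer (B : Set G))
    (hPZ : ¬ P ≤ centralizer (Z : Set G)) : P ≤ normalizer (V2g S (RG h B 𝒴) V : Set G) := by
  have hSB : S ≤ normalizer (B : Set G) := syl.1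
  have hSV : S ≤ normalizer (V : Set G) := (hSB.trans hBH).trans h
  have sp : (⨆ Y ∈ 𝒴, cm (MU hc) Y) ⊔ fx (MU hc) (RR 𝒴) = ⊤ := by
    refine eq_top_iff.2 fun w _ => ?_
    obtain ⟨a, ha, c, hcr, rfl⟩ := gas w
    refine add_mem (AddSubgroup.mem_sup_left ?_) (AddSubgroup.mem_sup_right hcr)
    have h1 : sm' (MU hc) 𝒴 ≤ ⨆ Y ∈ 𝒴, cm (MU hc) Y := (AddSubgroup.closure_le _).2 (by
      rintro v ⟨Y, hY, hv⟩
      exact (le_iSup₂ (f := fun Y (_ : Y ∈ 𝒴) => cm (MU hc) Y) Y hY) hv)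
    exact h1 ha
  have F : FamS (MU hc) (im h (normalizer (B : Set G))) 𝒴 (im h S) :=
    ⟨Fa, sp, Exit.LocBar.isPGroup_im h syl.2.1, Exit.LocBar.im_mono h hSB,
      syl_not_dvd (Exit.LocBar.syl_im h syl hBH)⟩
  have key := F.node_one (P := im h P) (Exit.LocBar.im_mono h hP.le) (Exit.LocBar.im_mono h PB)
    (irr_im h (PB.trans hBH) hP.le (irr_of_isMinPar hP)) (by
      intro hcon
      apply hPZ
      intro p hp
      refine mem_centralizer_iff.2 fun z hz => ?_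
      have h1 := hcon (pr h ⟨p, hBH (PB hp)⟩) ⟨⟨p, hBH (PB hp)⟩, hp, rfl⟩ (mk hc (ZV hz)) (by
        rintro _ ⟨a, ha, rfl⟩
        exact (pr_smul_eq_iff' h).2 (mem_centralizer_iff.1 (ZS hz) a ha))
      exact ((pr_smul_eq_iff' h).1 h1).symm)
  have hfw : ∀ p ∈ P, ∀ g ∈ V2g S (RG h B 𝒴) V, p * g * p⁻¹ ∈ V2g S (RG h B 𝒴) V := by
    intro p hp g hg
    have hgV : g ∈ V := ((mem_NN (B := S ⊓ RG h B 𝒴) (L := centralizer ((S ⊓ RG h B 𝒴 : Subgroup G) : Set G)) hc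
      (inf_le_left.trans hSV)).1 hg).1
    have h1 := key (pr h ⟨p, hBH (PB hp)⟩) ⟨⟨p, hBH (PB hp)⟩, hp, rfl⟩ (mk hc hgV) ((mem_V2_iff hSB hSV _).2 hg)
    exact (mem_V2_iff hSB hSV _).1 h1
  intro p hp
  rw [mem_normalizer_iff]
  refine fun g => ⟨fun hg => hfw p hp g hg, fun hg => ?_⟩
  have h1 := hfw p⁻¹ (inv_mem hp) _ hg
  have e : p⁻¹ * (p * g * p⁻¹) * p⁻¹⁻¹ = g := by group
  rwa [e] at h1

/-- **(E2)**: the field `e2` of `BaseDat`. -/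
theorem e2_of [Finite G] {S : Sylow 2 G} (wc : WC (S : Subgroup G) B) (hBH : normalizer (B : Set G) ≤ H)
    (Fa : Fam (MU hc) (im h (normalizer (B : Set G))) 𝒴)
    (gas : ∀ w : MU hc, ∃ a ∈ sm' (MU hc) 𝒴, ∃ c : MU hc, (∀ r ∈ RR 𝒴, r • c = c) ∧ w = a + c)
    (ZV : zc (S : Subgroup G) ≤ V) {P : Subgroup G} (hP : IsParS (S : Subgroup G) P)
    (PB : P ≤ normalizer (B : Set G)) (hPC : ¬ P ≤ CZ (S : Subgroup G)) :
    P ≤ normalizer (V2g (S : Subgroup G) (RG h B 𝒴) V : Set G) :=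
  e2_gen (syl_of_le (Exit.wc_S_le wc)) hBH Fa gas ZV
    (fun _ hz => mem_centralizer_iff.2 fun s hs => (mem_zc.1 hz).2.1 s hs) hP.toIsMinPar PB hPC

end Cfsg.Agent.Omega.NO3b.BasePt.NodeGrp
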