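import Cfsg.Agent.Omega.NO3b.BasePt.Def

/-!
# NotFFG (NO-3L), the base point, (E2), part 1: transvections on one irreducible module

`Y` acts faithfully and irreducibly on `A`, `K = KK Y A`, and induces all transvections.

* `IsTv y φ a` : `y = 1 + φ ⊗ a` on `A`;
* `full P` : the centres `a` such that all transvections with centre `a` are in `P` (a subspace);
* `tv_mem` : `T ≤ P` a 2-group, fixing `n`, all transvections with centre `n` are in `T`; `m` a full centre of `P`.
  If `J ≥ T` contains all `y ∈ P` fixing `n` and all `y ∈ P` with `[A, y, T] ≤ K n`, then all transvections with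
  centre `m` are in `J`.
-/

set_option autoImplicit false

namespace Cfsg.Agent.Omega.NO3b.BasePt.Node

open Subgroup
open Cfsg.Agent.Omega.NO3b.Exit Cfsg.Agent.Omega.NO3b.Exit.Ten Cfsg.Agent.Omega.NO3b.Exit.Descent

universe u v w

section pure

variable {Y : Type u} {A : Type v} [Group Y] [AddCommGroup A] [DistribMulAction Y A] [Finite A] [hI : IsIrr Y A]

/-- `y = 1 + φ ⊗ a` on `A` -/
def IsTv (y : Y) (φ : Module.Dual (KK Y A) A) (a : A) : Prop := ∀ x : A, y • x = x + φ x • a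

/-- the action of `y`, linear -/
noncomputable def lin (y : Y) : A →ₗ[KK Y A] A where
  toFun x := y • x
  map_add' x x' := smul_add y x x'
  map_smul' κ x := smul_comm y κ x

theorem lin_apply (y : Y) (x : A) : lin y x = y • x := rfl

/-- conjugation -/
theorem IsTv.conj {y : Y} {φ : Module.Dual (KK Y A) A} {a : A} (h : IsTv y φ a) (k : Y) :
    IsTv (k⁻¹ * y * k) (φ.comp (lin k)) (k⁻¹ • a) := by
  intro x
  rw [mul_smul, mul_smul, h (k • x), smul_add, inv_smul_smul, LinearMap.comp_apply, lin_apply,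
    smul_comm k⁻¹ (φ (k • x)) a]

theorem IsTv.smul {y : Y} {φ : Module.Dual (KK Y A) A} {a : A} {κ : KK Y A} (h : IsTv y φ (κ • a)) :
    IsTv y (κ • φ) a := by
  intro x
  rw [h x, LinearMap.smul_apply, smul_smul, smul_eq_mul, mul_comm]

/-- the full centres of `P` -/
def full (htv : AllTv Y A) (hf : ∀ y : Y, (∀ a : A, y • a = a) → y = 1) (P : Subgroup Y) :
    Submodule (KK Y A) A where
  carrier := {a | ∀ (y : Y) (φ : Module.Dual (KK Y A) A), φ a = 0 → IsTv y φ a → y ∈ P}
  zero_mem' := by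
    intro y φ _ h
    rw [hf y fun a => by rw [h a, smul_zero, add_zero]]
    exact one_mem P
  smul_mem' := by
    intro κ a ha y φ h0 h
    refine ha y (κ • φ) ?_ h.smul
    rw [LinearMap.smul_apply, smul_eq_mul, ← h0, map_smul, smul_eq_mul]
  add_mem' := by
    intro a b ha hb
    have hsm : ∀ (κ : KK Y A) (a : A), (∀ (y : Y) (φ : Module.Dual (KK Y A) A), φ a = 0 → IsTv y φ a → y ∈ P) →
        ∀ (y : Y) (φ : Module.Dual (KK Y A) A), φ (κ • a) = 0 → IsTv y φ (κ • a) → y ∈ P := by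
      intro κ a ha y φ h0 h
      refine ha y (κ • φ) ?_ h.smul
      rw [LinearMap.smul_apply, smul_eq_mul, ← h0, map_smul, smul_eq_mul]
    by_cases hab : a ∈ Submodule.span (KK Y A) ({b} : Set A)
    · obtain ⟨κ, rfl⟩ := Submodule.mem_span_singleton.1 hab
      have e : κ • b + b = (κ + 1) • b := by rw [add_smul, one_smul]
      change ∀ (y : Y) (φ : Module.Dual (KK Y A) A), φ (κ • b + b) = 0 → IsTv y φ (κ • b + b) → y ∈ P
      rw [e]
      exact hsm _ _ hb
    · obtain ⟨χ, hχ1, hχ2⟩ := Submodule.exists_dual_map_eq_bot_of_notMem hab inferInstance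
      have hχb : χ b = 0 := by
        have h : χ b ∈ (Submodule.span (KK Y A) ({b} : Set A)).map χ :=
          ⟨b, Submodule.mem_span_singleton_self b, rfl⟩
        rw [hχ2, Submodule.mem_bot] at h
        exact h
      have hχb' : ((χ a)⁻¹ • χ) b = 0 := by rw [LinearMap.smul_apply, hχb, smul_zero]
      have hχa' : ((χ a)⁻¹ • χ) a = 1 := by rw [LinearMap.smul_apply, smul_eq_mul, inv_mul_cancel₀ hχ1]
      obtain ⟨k, hk⟩ := htv ((χ a)⁻¹ • χ) b hχb'
      have hkP : k ∈ P := hb k _ hχb' hk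
      have hka : k • a = a + b := by rw [hk a, hχa', one_smul]
      intro y φ h0 h
      have h1 : IsTv (k⁻¹ * y * k) (φ.comp (lin k)) a := by
        have h2 := h.conj k
        rwa [← hka, inv_smul_smul] at h2
      have h2 : k⁻¹ * y * k ∈ P := ha _ _ (by rw [LinearMap.comp_apply, lin_apply, hka, h0]) h1
      have h3 : y = k * (k⁻¹ * y * k) * k⁻¹ := by group
      rw [h3]
      exact mul_mem (mul_mem hkP h2) (inv_mem hkP)

theorem mem_full {htv : AllTv Y A} {hf : ∀ y : Y, (∀ a : A, y • a = a) → y = 1} {P : Subgroup Y} {a : A} :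
    a ∈ full htv hf P ↔ ∀ (y : Y) (φ : Module.Dual (KK Y A) A), φ a = 0 → IsTv y φ a → y ∈ P := Iff.rfl

theorem smul_mem_full {htv : AllTv Y A} {hf : ∀ y : Y, (∀ a : A, y • a = a) → y = 1} {P : Subgroup Y} {a : A}
    (ha : a ∈ full htv hf P) {k : Y} (hk : k ∈ P) : k • a ∈ full htv hf P := by
  intro y φ h0 h
  have h1 := h.conj k
  rw [inv_smul_smul] at h1
  have h2 : k⁻¹ * y * k ∈ P := ha _ _ (by rw [LinearMap.comp_apply, lin_apply, h0]) h1
  have h3 : y = k * (k⁻¹ * y * k) * k⁻¹ := by group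
  rw [h3]
  exact mul_mem (mul_mem hk h2) (inv_mem hk)

/-- a functional with given values -/
theorem exists_dual {X : Submodule (KK Y A) A} {a : A} (ha : a ∉ X) :
    ∃ χ : Module.Dual (KK Y A) A, χ a = 1 ∧ ∀ x ∈ X, χ x = 0 := by
  obtain ⟨χ, hχ1, hχ2⟩ := Submodule.exists_dual_map_eq_bot_of_notMem ha inferInstance
  refine ⟨(χ a)⁻¹ • χ, by rw [LinearMap.smul_apply, smul_eq_mul, inv_mul_cancel₀ hχ1], fun x hx => ?_⟩
  have h : χ x ∈ X.map χ := ⟨x, hx, rfl⟩
  rw [hχ2, Submodule.mem_bot] at h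
  rw [LinearMap.smul_apply, h, smul_zero]

/-- the commutator of two transvections -/
theorem comm_tv (two : ∀ a : A, a + a = 0) {u v : Y} {φ ψ : Module.Dual (KK Y A) A} {l m : A} (hu : IsTv u ψ m)
    (hv : IsTv v φ l) (hψm : ψ m = 0) (hφl : φ l = 0) (hψl : ψ l = 1) (hφm : φ m = 0) :
    IsTv (u * v * u * v) φ m := by
  have hum : u • m = m := by rw [hu, hψm, zero_smul, add_zero]
  have hvm : v • m = m := by rw [hv, hφm, zero_smul, add_zero]
  have hul : u • l = l + m := by rw [hu, hψl, one_smul]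
  have hvl : v • l = l := by rw [hv, hφl, zero_smul, add_zero]
  intro x
  have hux : u • x = x + ψ x • m := hu x
  have hvx : v • x = x + φ x • l := hv x
  have two' : ∀ c : KK Y A, ∀ a b : A, b + c • a + c • a = b := fun c a b => by rw [add_assoc, two, add_zero]
  have e1 : u • v • x = x + ψ x • m + (φ x • l + φ x • m) := by
    rw [hvx, smul_add, hux, smul_comm u (φ x) l, hul, smul_add]
  have e2 : v • (x + ψ x • m + (φ x • l + φ x • m)) = x + ψ x • m + φ x • m := by
    rw [smul_add, smul_add, smul_add, hvx, smul_comm v (ψ x) m, smul_comm v (φ x) l, smul_comm v (φ x) m, hvm, hvl]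
    have h := two' (φ x) l (x + ψ x • m + φ x • m)
    calc x + φ x • l + ψ x • m + (φ x • l + φ x • m) = x + ψ x • m + φ x • m + φ x • l + φ x • l := by abel
      _ = x + ψ x • m + φ x • m := h
  rw [mul_smul, mul_smul, mul_smul, e1, e2, smul_add, smul_add, hux, smul_comm u (ψ x) m, smul_comm u (φ x) m, hum,
    two']

/-- **The transvections with full centre.** -/
theorem tv_mem (htv : AllTv Y A) (two : ∀ a : A, a + a = 0) (hf : ∀ y : Y, (∀ a : A, y • a = a) → y = 1)
    {T P J : Subgroup Y} (hT2 : IsPGroup 2 T) (hTP : T ≤ P) {n : A} (hn : ∀ t ∈ T, t • n = n)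
    (hnF : ∀ (y : Y) (φ : Module.Dual (KK Y A) A), φ n = 0 → IsTv y φ n → y ∈ T) (hTJ : T ≤ J)
    (hJ1 : ∀ y ∈ P, y • n = n → y ∈ J)
    (hJ2 : ∀ y ∈ P, (∀ x : A, ∀ t ∈ T, ∃ κ : KK Y A, t • (y • x - x) - (y • x - x) = κ • n) → y ∈ J)
    {m : A} (hm : ∀ (y : Y) (φ : Module.Dual (KK Y A) A), φ m = 0 → IsTv y φ m → y ∈ P) :
    ∀ (y : Y) (φ : Module.Dual (KK Y A) A), φ m = 0 → IsTv y φ m → y ∈ J := by
  intro y φ hφm h
  have hyP := hm y φ hφm h
  by_cases hmn : m ∈ Submodule.span (KK Y A) ({n} : Set A)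
  · obtain ⟨κ, rfl⟩ := Submodule.mem_span_singleton.1 hmn
    refine hTJ (hnF y (κ • φ) ?_ h.smul)
    rw [LinearMap.smul_apply, smul_eq_mul, ← hφm, map_smul, smul_eq_mul]
  by_cases hφn : φ n = 0
  · exact hJ1 y hyP (by rw [h n, hφn, zero_smul, add_zero])
  -- the plane
  set E := full htv hf P with hE
  have hmE : m ∈ E := hm
  have hnE : n ∈ E := fun y φ h0 h => hTP (hnF y φ h0 h)
  obtain ⟨l0, hl0E, hl0n, hl0T⟩ := FF.Basic.exists_fixed (X := Y) (V := A) hT2 (H := E.toAddSubgroup)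
    (K := (Submodule.span (KK Y A) ({n} : Set A)).toAddSubgroup) two
    (by
      intro t ht v hv
      obtain ⟨κ, rfl⟩ := Submodule.mem_span_singleton.1 hv
      exact Submodule.mem_span_singleton.2 ⟨κ, by rw [smul_comm t κ n, hn t ht]⟩)
    (fun t ht v hv => smul_mem_full (htv := htv) (hf := hf) hv (hTP ht))
    (by
      intro v hv
      obtain ⟨κ, rfl⟩ := Submodule.mem_span_singleton.1 hv
      exact E.smul_mem κ hnE)
    (fun h1 => hmn (h1 hmE))
  replace hl0n : l0 ∉ Submodule.span (KK Y A) ({n} : Set A) := hl0n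
  replace hl0E : l0 ∈ E := hl0E
  set l := φ n • l0 - φ l0 • n with hl
  have hlE : l ∈ E := E.sub_mem (E.smul_mem _ hl0E) (E.smul_mem _ hnE)
  have hφl : φ l = 0 := by
    rw [hl, map_sub, map_smul, map_smul, smul_eq_mul, smul_eq_mul, mul_comm, sub_self]
  have hln : l ∉ Submodule.span (KK Y A) ({n} : Set A) := by
    intro h1
    have h2 : φ n • l0 ∈ Submodule.span (KK Y A) ({n} : Set A) := by
      have e : φ n • l0 = l + φ l0 • n := by rw [hl, sub_add_cancel]
      rw [e]
      exact Submodule.add_mem _ h1 (Submodule.smul_mem _ _ (Submodule.mem_span_singleton_self n))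
    exact hl0n ((Submodule.smul_mem_iff _ hφn).1 h2)
  have hlT : ∀ κ : KK Y A, ∀ t ∈ T, ∃ κ' : KK Y A, t • (κ • l) - κ • l = κ' • n := by
    intro κ t ht
    obtain ⟨κ', hκ'⟩ := Submodule.mem_span_singleton.1
      (show t • l0 - l0 ∈ Submodule.span (KK Y A) ({n} : Set A) from hl0T t ht)
    refine ⟨κ * (φ n * κ'), ?_⟩
    have e : t • l - l = φ n • (t • l0 - l0) := by
      rw [hl, smul_sub, smul_comm t (φ n) l0, smul_comm t (φ l0) n, hn t ht, smul_sub]
      abel
    rw [smul_comm t κ l, ← smul_sub, e, ← hκ', smul_smul, smul_smul, mul_assoc]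
  by_cases hm2 : ∀ t ∈ T, t • m - m ∈ Submodule.span (KK Y A) ({n} : Set A)
  · refine hJ2 y hyP fun x t ht => ?_
    obtain ⟨κ, hκ⟩ := Submodule.mem_span_singleton.1 (hm2 t ht)
    refine ⟨φ x * κ, ?_⟩
    have e : y • x - x = φ x • m := by rw [h x, add_sub_cancel_left]
    rw [e, smul_comm t (φ x) m, ← smul_sub, ← hκ, smul_smul]
  -- `l ∉ ⟨m, n⟩`
  have hlmn : l ∉ Submodule.span (KK Y A) ({m, n} : Set A) := by
    intro h1
    obtain ⟨α, β, hαβ⟩ := Submodule.mem_span_pair.1 h1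
    have h2 : β = 0 := by
      have h3 := congrArg φ hαβ
      rw [map_add, map_smul, map_smul, hφm, hφl, smul_zero, zero_add, smul_eq_mul] at h3
      exact (mul_eq_zero.1 h3).resolve_right hφn
    rw [h2, zero_smul, add_zero] at hαβ
    have hα : α ≠ 0 := by
      rintro rfl
      rw [zero_smul] at hαβ
      exact hln (hαβ ▸ Submodule.zero_mem _)
    apply hm2
    intro t ht
    obtain ⟨κ', hκ'⟩ := hlT α⁻¹ t ht
    have e : α⁻¹ • l = m := by rw [← hαβ, smul_smul, inv_mul_cancel₀ hα, one_smul]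
    rw [e] at hκ'
    rw [hκ']
    exact Submodule.smul_mem _ _ (Submodule.mem_span_singleton_self n)
  obtain ⟨ψ, hψl, hψ⟩ := exists_dual hlmn
  have hψm : ψ m = 0 := hψ m (Submodule.subset_span (Set.mem_insert _ _))
  have hψn : ψ n = 0 := hψ n (Submodule.subset_span (Set.mem_insert_of_mem _ rfl))
  obtain ⟨u, hu⟩ := htv ψ m hψm
  obtain ⟨v, hv⟩ := htv φ l hφl
  have huJ : u ∈ J := hJ1 u (hm u ψ hψm hu) (by rw [hu n, hψn, zero_smul, add_zero])
  have hvJ : v ∈ J := by
    refine hJ2 v (hlE v φ hφl hv) fun x t ht => ?_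
    have e : v • x - x = φ x • l := by rw [hv x, add_sub_cancel_left]
    rw [e]
    exact hlT (φ x) t ht
  have h1 := comm_tv two hu hv hψm hφl hψl hφm
  have h2 : y = u * v * u * v := by
    have h3 : y⁻¹ * (u * v * u * v) = 1 := hf _ fun a => by
      rw [mul_smul, h1 a, inv_smul_eq_iff, h a]
    rw [← mul_one y, ← h3, mul_inv_cancel_left]
  rw [h2]
  exact mul_mem (mul_mem (mul_mem huJ hvJ) huJ) hvJ

end pure

end Cfsg.Agent.Omega.NO3b.BasePt.Node
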