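import Cfsg.Agent.Omega.NO3b.BasePt.GamJB
import Cfsg.Agent.Omega.NO3b.BasePt.BlkFix

/-!
# 3L-T (B): two panels have the same flat up to `N_G(B)`, or they are independent (helper506 #21336 (B),
helper556 #22497 (a))

`LocG S M₀ B`, `M = N_G(B)`, `V = VB S B`; a panel `(F, T, X)` over `Z` has its blocks `Blk0` in the module
`U = zl S (M ⊔ X)` (`exists_blkOf`).  At the level of `G`: `WB b` = the sum of the blocks (`≤ V`),
`RB b = {m ∈ M | pr m ∈ YM}`.

* `core` : the module part;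
* `oneR` : for two panels over `Z`: `∃ m ∈ M, F = cj m F'`, or `[WB b', RB b] = [WB b, RB b'] = 1`,
  `WB b ⊓ WB b' = 1`;
* `exists_reps` : representatives of the flats of the panels over `Z`; every `D`, `Z ≤ D ≤ V`, `C_G(D) ≰ N_G(V)`, lies in
  an `M`-conjugate of the flat of a representative.
-/

set_option autoImplicit false
set_option linter.unusedSectionVars false

namespace Cfsg.Agent.Omega.NO3b.BasePt

open Subgroup Cfsg
open Cfsg.Agent.ZN (o2 zc zl)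
open Cfsg.Agent.ZN.ChoiceBase hiding mem_zc
open Cfsg.Agent.ZN.ChoiceSit (Syl exists_syl syl_conj o2_le_syl)
open Cfsg.Agent.MinSimple.EmptyTI (syl_of_le)
open Cfsg.Agent.Omega.NO3b.EZero (NotFF Par cent_symm cj_cent)
open Cfsg.Agent.Omega.NO3b.Alpha (Fl)
open Cfsg.Agent.Omega.NO3b.Exit hiding frattini
open Cfsg.Agent.Omega.NO3b.Exit.Bridge
open Cfsg.Agent.Omega.NO3b.Exit.TDat (sbc FFq KV le_sbc mem_FFq)
open Cfsg.Agent.Omega.NO3b.Exit.BlkZ (Blk0 exists_Q)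
open Cfsg.Agent.Omega.NO3b.Exit.Ten (br br_def)
open Cfsg.Agent.Omega.NO3b.Exit.TBlk (V1)
open Cfsg.Agent.Omega.NO3b.BetaTwo (JB)
open Cfsg.Agent.Omega.NOThreeL.Star (Opt zl_mono)
open Cfsg.Agent.Omega.NOThreeL.HypGFrame (LocG)
open Cfsg.Agent.Omega.FFBr (XX pr im mem_im)
open Cfsg.Agent.MinSimple.VModule (le_normalizer_zl)
open scoped Pointwise

universe u

variable {G : Type u} [Group G]

/-! ### the sum of the blocks and the group generated by them, at the level of `G` -/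

section grp

variable {H U V F M : Subgroup G} {hN : H ≤ normalizer (U : Set G)} {hU : U ≤ centralizer (U : Set G)}
  {Y Q BB K S' : Subgroup (XX hN)} {Lw C : AddSubgroup (MU hU)} {x : XX hN}

/-- the sum of the blocks -/
def WB (b : Blk0 Y Q BB (ad hU V) (ad hU F) Lw C x (im hN M) K S') : Subgroup G := un b.all

/-- the group generated by the blocks -/
def RB (b : Blk0 Y Q BB (ad hU V) (ad hU F) Lw C x (im hN M) K S') : Subgroup G :=
  (b.YM.comap (pr hN)).map H.subtype ⊓ M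

variable (b : Blk0 Y Q BB (ad hU V) (ad hU F) Lw C x (im hN M) K S')

theorem mem_RB {g : G} : g ∈ RB b ↔ g ∈ M ∧ ∃ hg : g ∈ H, pr hN ⟨g, hg⟩ ∈ b.YM := by
  constructor
  · rintro ⟨⟨a, ha, rfl⟩, h2⟩
    exact ⟨h2, a.2, ha⟩
  · rintro ⟨h1, hg, h2⟩
    exact ⟨⟨⟨g, hg⟩, h2, rfl⟩, h1⟩

theorem RB_le : RB b ≤ M := inf_le_right

theorem WB_le : WB b ≤ V := by
  rintro _ ⟨w, hw, rfl⟩
  exact b.all_le hw

theorem ad_WB : ad hU (WB b) = b.all := ad_un _

theorem WB_norm (hM : M ≤ H) : M ≤ normalizer (WB b : Set G) := by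
  have key : ∀ m ∈ M, ∀ w ∈ WB b, m * w * m⁻¹ ∈ WB b := by
    rintro m hm _ ⟨w, hw, rfl⟩
    exact ⟨pr hN ⟨m, hM hm⟩ • w, b.all_M (LocBar.pr_mem_im hN hm (hM hm)) hw, rfl⟩
  intro m hm
  rw [mem_normalizer_iff]
  intro w
  refine ⟨key m hm w, fun hw => ?_⟩
  have h2 := key m⁻¹ (inv_mem hm) _ hw
  have e : m⁻¹ * (m * w * m⁻¹) * m⁻¹⁻¹ = w := by group
  rwa [e] at h2

theorem RB_norm (hM : M ≤ H) : M ≤ normalizer (RB b : Set G) := by
  have key : ∀ m ∈ M, ∀ r ∈ RB b, m * r * m⁻¹ ∈ RB b := by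
    intro m hm r hr
    obtain ⟨h1, hg, h2⟩ := (mem_RB b).1 hr
    refine (mem_RB b).2 ⟨mul_mem (mul_mem hm h1) (inv_mem hm), mul_mem (mul_mem (hM hm) hg) (inv_mem (hM hm)), ?_⟩
    have e : pr hN ⟨m * r * m⁻¹, mul_mem (mul_mem (hM hm) hg) (inv_mem (hM hm))⟩ =
        pr hN ⟨m, hM hm⟩ * pr hN ⟨r, hg⟩ * (pr hN ⟨m, hM hm⟩)⁻¹ := by
      rw [← map_inv, ← map_mul, ← map_mul]; rfl
    rw [e]
    exact b.YM_conj (LocBar.pr_mem_im hN hm (hM hm)) h2
  intro m hm
  rw [mem_normalizer_iff]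
  intro r
  refine ⟨key m hm r, fun hr => ?_⟩
  have h2 := key m⁻¹ (inv_mem hm) _ hr
  have e : m⁻¹ * (m * r * m⁻¹) * m⁻¹⁻¹ = r := by group
  rwa [e] at h2

/-- a subgroup of `U` fixed by `YM` is centralised by `RB` -/
theorem le_cent_RB {W : Subgroup G} (hW : W ≤ U)
    (h : ∀ y ∈ b.YM, ∀ w ∈ ad hU W, y • w = w) : W ≤ centralizer (RB b : Set G) := by
  intro w hw
  rw [mem_centralizer_iff]
  intro r hr
  obtain ⟨-, hg, h2⟩ := (mem_RB b).1 hr
  exact (pr_smul_eq_iff' hN (g := ⟨r, hg⟩) (w := mk hU (hW hw))).1 (h _ h2 _ hw)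

variable [Finite G]

/-- `[V, RB] ≤ WB` -/
theorem br_RB (hVU : V ≤ U) {v r : G} (hv : v ∈ V) (hr : r ∈ RB b) : r * v * r⁻¹ * v⁻¹ ∈ WB b := by
  obtain ⟨-, hg, h2⟩ := (mem_RB b).1 hr
  refine ⟨_, b.br_YM h2 (v := mk hU (hVU hv)) hv, ?_⟩
  rw [br_def, val_sub]
  rfl

/-- `WB ⊓ C(RB) = 1` -/
theorem WB_sep : WB b ⊓ centralizer (RB b : Set G) = ⊥ := by
  rw [eq_bot_iff]
  rintro _ ⟨⟨w, hw, rfl⟩, h2⟩
  rw [mem_bot]
  have h3 : w = 0 := b.all_sep hw fun m hm y hy => by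
    have h4 := b.conj_mem_YM hm hy
    have h5 : m * y * m⁻¹ ∈ im hN M := b.KM (b.YM_le h4)
    obtain ⟨r, hr, e⟩ := mem_im.1 h5
    rw [← e] at h4 ⊢
    have h6 : (r : G) ∈ RB b := (mem_RB b).2 ⟨hr, r.2, h4⟩
    exact (pr_smul_eq_iff' hN).2 (mem_centralizer_iff.1 h2 _ h6)
  rw [h3, val_zero]

/-- `V = WB · C_V(RB)` -/
theorem WB_dec (hVU : V ≤ U) {v : G} (hv : v ∈ V) :
    ∃ a ∈ WB b, ∃ c ∈ V, c ∈ centralizer (RB b : Set G) ∧ v = a * c := by
  obtain ⟨a, ha, c, hc, hcY, e⟩ := b.gen_dec (v := mk hU (hVU hv)) hv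
  refine ⟨val a, ⟨a, ha, rfl⟩, val c, hc, ?_, ?_⟩
  · rw [mem_centralizer_iff]
    intro r hr
    obtain ⟨-, hg, h2⟩ := (mem_RB b).1 hr
    exact (pr_smul_eq_iff' hN (g := ⟨r, hg⟩) (w := c)).1 (hcY _ h2)
  · rw [← val_add, ← e, val_mk]

/-- `C_V(RB) ≤ F` -/
theorem cent_le_F (hVU : V ≤ U) : V ⊓ centralizer (RB b : Set G) ≤ F := by
  rintro v ⟨hv, h2⟩
  refine mem_F_of_fix b.dat (v := mk hU (hVU hv)) hv fun d hd => ?_
  have h4 : d ∈ b.YM := by
    have := b.conj_mem_YM (one_mem _) (b.dat.QY hd)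
    rwa [one_mul, inv_one, mul_one] at this
  obtain ⟨r, hr, e⟩ := mem_im.1 (b.KM (b.YM_le h4))
  rw [← e] at h4 ⊢
  exact (pr_smul_eq_iff' hN).2 (mem_centralizer_iff.1 h2 _ ((mem_RB b).2 ⟨hr, r.2, h4⟩))

variable {H' U' F' : Subgroup G} {hN' : H' ≤ normalizer (U' : Set G)} {hU' : U' ≤ centralizer (U' : Set G)}
  {Y' Q' BB' K' S'' : Subgroup (XX hN')} {Lw' C' : AddSubgroup (MU hU')} {x' : XX hN'}
  (b' : Blk0 Y' Q' BB' (ad hU' V) (ad hU' F') Lw' C' x' (im hN' M) K' S'')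

/-- **The module part.**  `t ∈ M` centralises `F`, moves `V`, lies in `Y` (on `U`) and in `K'` (on `U'`). -/
theorem core (hM : M ≤ H) (hM' : M ≤ H') (hVU : V ≤ U) (hVU' : V ≤ U') (hFV : F ≤ V) {t : G} (ht : t ∈ M)
    (htY : pr hN ⟨t, hM ht⟩ ∈ Y) (htK : pr hN' ⟨t, hM' ht⟩ ∈ K') (htF : t ∈ centralizer (F : Set G))
    (htV : t ∉ centralizer (V : Set G)) :
    (∃ m ∈ M, F ≤ cj m F') ∨
      (WB b' ≤ centralizer (RB b : Set G) ∧ WB b ≤ centralizer (RB b' : Set G) ∧ WB b ⊓ WB b' = ⊥) := by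
  by_cases hW : ∀ w ∈ b'.all, pr hN' ⟨t, hM' ht⟩ • w = w
  · right
    have hWV : WB b' ≤ V := WB_le b'
    obtain ⟨v, hv, htv⟩ : ∃ v ∈ V, ¬ t * v = v * t := by
      by_contra hcon
      push Not at hcon
      exact htV (mem_centralizer_iff.2 fun v hv => (hcon v hv).symm)
    obtain ⟨w₁, hw₁, hmv⟩ := exists_V1_move b.dat (d := pr hN ⟨t, hM ht⟩) (v := mk hU (hVU hv))
      (fun f hf => (pr_smul_eq_iff' hN).2 (mem_centralizer_iff.1 htF _ hf).symm) hv
      (fun h0 => htv ((pr_smul_eq_iff' hN).1 h0))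
    have key : ∀ m ∈ im hN M, ∀ y ∈ Y, ∀ w ∈ ad hU (WB b'), (m * y * m⁻¹) • w = w := by
      intro m hm y hy w hw
      refine cent_YM b (W := ad hU (WB b')) (ad_mono hWV)
        (fun m hm w hw => LocBar.im_smul hN (WB_norm b' hM') hm hw) htY hw₁ hmv (fun w hw => ?_) hm hy hw
      obtain ⟨w', hw', e⟩ : val w ∈ un b'.all := hw
      have h1 := (pr_smul_eq_iff' hN').1 (hW w' hw')
      rw [e] at h1
      exact (pr_smul_eq_iff' hN).2 h1
    have h1 : WB b' ≤ centralizer (RB b : Set G) :=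
      le_cent_RB b (hWV.trans hVU) fun y hy w hw => b.fix_YM (fun m hm k hk => key m hm k hk w hw) hy
    have h2 : WB b ⊓ WB b' = ⊥ := by
      rw [eq_bot_iff, ← WB_sep b]
      exact inf_le_inf_left _ h1
    refine ⟨h1, fun w hw => mem_centralizer_iff.2 fun r hr => ?_, h2⟩
    have h4 : r * w * r⁻¹ ∈ WB b := (mem_normalizer_iff.1 (WB_norm b hM (RB_le b' hr)) w).1 hw
    have h3 : r * w * r⁻¹ * w⁻¹ ∈ WB b ⊓ WB b' :=
      ⟨(WB b).mul_mem h4 ((WB b).inv_mem hw), br_RB b' hVU' (WB_le b hw) hr⟩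
    rw [h2, mem_bot, mul_inv_eq_one, mul_inv_eq_iff_eq_mul] at h3
    exact h3
  · left
    push Not at hW
    obtain ⟨w, hw, hne⟩ := hW
    obtain ⟨m, hm, h1⟩ := fix_le b' htK hw hne
    obtain ⟨m₀, hm₀, rfl⟩ := mem_im.1 hm
    refine ⟨m₀, hm₀, fun f hf => ?_⟩
    have h2 := h1 (mk hU' (hVU' (hFV hf))) (hFV hf)
      ((pr_smul_eq_iff' hN').2 (mem_centralizer_iff.1 htF _ hf).symm)
    rw [mem_ad, val_smul_inv] at h2
    exact mem_cj.2 h2

end grp

/-! ### the frame -/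

section frame

variable [Finite G] {S : Sylow 2 G} {M₀ B : Subgroup G} (h : LocG S M₀ B) (hc : IsCharacteristicTwoType G)
  (hSne : (S : Subgroup G) ≠ ⊥)

/-- `⟨N_G(B), X⟩` -/
abbrev HX (B X : Subgroup G) : Subgroup G := normalizer (B : Set G) ⊔ X

section one

variable {F T X : Subgroup G} (f : Fl S (VB (S : Subgroup G) B) F T) (hZ : zc (S : Subgroup G) ≤ F)
  (p : Par (VB (S : Subgroup G) B) F T X)
include h hc hSne f hZ p

omit hc hSne in
/-- `V_H` is abelian -/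
theorem cHX : zl (S : Subgroup G) (HX B X) ≤ centralizer (zl (S : Subgroup G) (HX B X) : Set G) :=
  cH h.adm le_sup_left (h.fr F T X f hZ p).char2

/-- the blocks of a panel over `Z` -/
theorem exists_blkOf : BlkOf (S : Subgroup G) B F (HX B X) (cHX h f hZ p) := by
  obtain ⟨A, hA, hAB, hAX, -⟩ := (h.fr F T X f hZ p).gamma h.adm (h.gam hc hSne f hZ p)
  exact blkH h.adm hc f p le_sup_left le_sup_right (h.fr F T X f hZ p).char2 hA hAB hAX (h.two hc hSne f hZ p)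

end one

section two

variable {F T X F' T' X' : Subgroup G} (f : Fl S (VB (S : Subgroup G) B) F T)
  (hZ : zc (S : Subgroup G) ≤ F) (p : Par (VB (S : Subgroup G) B) F T X)
  (f' : Fl S (VB (S : Subgroup G) B) F' T')
  (hZ' : zc (S : Subgroup G) ≤ F') (p' : Par (VB (S : Subgroup G) B) F' T' X')

/-- `t ∈ N_G(B)` with `[V_J, t] ≤ F`, `[F, t] = 1`, `[V, t] ≠ 1` -/
theorem exists_t (a : Adm S M₀ B) (hc : IsCharacteristicTwoType G)
    (f : Fl S (VB (S : Subgroup G) B) F T) (p : Par (VB (S : Subgroup G) B) F T X)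
    {J A : Subgroup G} (hMJ : normalizer (B : Set G) ≤ J) (hXJ : X ≤ J)
    (hJ : J ⊓ centralizer (o2 J : Set G) ≤ o2 J) (hA : Opt (zl (S : Subgroup G) J) A) (hAB : A ≤ B)
    (hAX : ¬ A ≤ o2 X) (h2 : K0.Mix.Two (VB (S : Subgroup G) B) X) :
    ∃ t ∈ normalizer (B : Set G), (∀ u ∈ zl (S : Subgroup G) J, t * u * t⁻¹ * u⁻¹ ∈ F) ∧
      t ∈ centralizer (F : Set G) ∧ t ∉ centralizer (VB (S : Subgroup G) B : Set G) := by
  obtain ⟨BB, Lw, C, x, hV, b⟩ := blkH a hc f p hMJ hXJ hJ hA hAB hAX h2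
  obtain ⟨d, hd, v, hv, hdv⟩ := exists_Q b.dat
  obtain ⟨hdM, hdU, hdF⟩ := mem_FFq.1 hd
  obtain ⟨t, ht, rfl⟩ := mem_im.1 hdM
  have hVJ := V_le_H hMJ (S : Subgroup G)
  refine ⟨t, ht, fun u hu => ?_, ?_, fun h0 => hdv ?_⟩
  · have h1 := hdU (mk (cH a hMJ hJ) hu)
    rw [br_def, mem_ad, val_sub] at h1
    exact h1
  · rw [mem_centralizer_iff]
    intro y hy
    have h1 := hdF (mk (cH a hMJ hJ) (hVJ (f.le hy))) hy
    exact ((pr_smul_eq_iff' _).1 h1).symm
  · exact (pr_smul_eq_iff' _).2 (mem_centralizer_iff.1 h0 _ hv).symm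

include h hc hSne f hZ p f' hZ' p'

omit hSne in
theorem oneR_aux
    {BB : Subgroup (XX (nH (S : Subgroup G) (HX B X)))} {Lw C : AddSubgroup (MU (cHX h f hZ p))}
    {x : XX (nH (S : Subgroup G) (HX B X))}
    {hV : ∀ m ∈ im (nH (S : Subgroup G) (HX B X)) (normalizer (B : Set G)), ∀ v ∈ ad (cHX h f hZ p) (VB (S : Subgroup G) B),
      m • v ∈ ad (cHX h f hZ p) (VB (S : Subgroup G) B)}
    (b : Blk0 (sbc (im (nH (S : Subgroup G) (HX B X)) (normalizer (B : Set G)))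
        (FFq (im (nH (S : Subgroup G) (HX B X)) (normalizer (B : Set G))) (ad (cHX h f hZ p) F)))
      (FFq (im (nH (S : Subgroup G) (HX B X)) (normalizer (B : Set G))) (ad (cHX h f hZ p) F)) BB
      (ad (cHX h f hZ p) (VB (S : Subgroup G) B)) (ad (cHX h f hZ p) F) Lw C x
      (im (nH (S : Subgroup G) (HX B X)) (normalizer (B : Set G)))
      (KV (im (nH (S : Subgroup G) (HX B X)) (normalizer (B : Set G))) (ad (cHX h f hZ p) (VB (S : Subgroup G) B)) hV)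
      (im (nH (S : Subgroup G) (HX B X)) (S : Subgroup G)))
    {BB' : Subgroup (XX (nH (S : Subgroup G) (HX B X')))} {Lw' C' : AddSubgroup (MU (cHX h f' hZ' p'))}
    {x' : XX (nH (S : Subgroup G) (HX B X'))}
    {hV' : ∀ m ∈ im (nH (S : Subgroup G) (HX B X')) (normalizer (B : Set G)), ∀ v ∈ ad (cHX h f' hZ' p') (VB (S : Subgroup G) B),
      m • v ∈ ad (cHX h f' hZ' p') (VB (S : Subgroup G) B)}
    (b' : Blk0 (sbc (im (nH (S : Subgroup G) (HX B X')) (normalizer (B : Set G)))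
        (FFq (im (nH (S : Subgroup G) (HX B X')) (normalizer (B : Set G))) (ad (cHX h f' hZ' p') F')))
      (FFq (im (nH (S : Subgroup G) (HX B X')) (normalizer (B : Set G))) (ad (cHX h f' hZ' p') F')) BB'
      (ad (cHX h f' hZ' p') (VB (S : Subgroup G) B)) (ad (cHX h f' hZ' p') F') Lw' C' x'
      (im (nH (S : Subgroup G) (HX B X')) (normalizer (B : Set G)))
      (KV (im (nH (S : Subgroup G) (HX B X')) (normalizer (B : Set G))) (ad (cHX h f' hZ' p') (VB (S : Subgroup G) B)) hV')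
      (im (nH (S : Subgroup G) (HX B X')) (S : Subgroup G)))
    {J A : Subgroup G} (hMJ : normalizer (B : Set G) ≤ J) (hXJ : X ≤ J) (hXJ' : X' ≤ J)
    (hJ : J ⊓ centralizer (o2 J : Set G) ≤ o2 J) (hA : Opt (zl (S : Subgroup G) J) A) (hAB : A ≤ B)
    (hAX : ¬ A ≤ o2 X) (h2 : K0.Mix.Two (VB (S : Subgroup G) B) X) :
    (∃ m ∈ normalizer (B : Set G), F = cj m F') ∨
      (WB b' ≤ centralizer (RB b : Set G) ∧ WB b ≤ centralizer (RB b' : Set G) ∧ WB b ⊓ WB b' = ⊥) := by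
  obtain ⟨t, ht, htU, htF, htV⟩ := exists_t h.adm hc f p hMJ hXJ hJ hA hAB hAX h2
  have hUJ : zl (S : Subgroup G) (HX B X) ≤ zl (S : Subgroup G) J := zl_mono _ (sup_le hMJ hXJ)
  have hUJ' : zl (S : Subgroup G) (HX B X') ≤ zl (S : Subgroup G) J := zl_mono _ (sup_le hMJ hXJ')
  have hVU : VB (S : Subgroup G) B ≤ zl (S : Subgroup G) (HX B X) := V_le_H le_sup_left _
  have hVU' : VB (S : Subgroup G) B ≤ zl (S : Subgroup G) (HX B X') := V_le_H le_sup_left _
  have hMH : normalizer (B : Set G) ≤ HX B X := le_sup_left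
  have hMH' : normalizer (B : Set G) ≤ HX B X' := le_sup_left
  rcases core b b' hMH hMH' hVU hVU' f.le ht (by
      refine le_sbc (fun m hm => (mem_FFq.1 hm).1) (mem_FFq.2 ⟨LocBar.pr_mem_im _ ht (hMH ht), fun u => ?_, fun w hw => ?_⟩)
      · rw [br_def, mem_ad, val_sub]
        exact htU _ (hUJ (val_mem u))
      · exact (pr_smul_eq_iff' _).2 (mem_centralizer_iff.1 htF _ hw).symm) (by
      refine ⟨LocBar.pr_mem_im _ ht (hMH' ht), fun u => ?_⟩
      rw [br_def, mem_ad, val_sub]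
      exact f.le (htU _ (hUJ' (val_mem u)))) htF htV with ⟨m, hm, hle⟩ | h1
  · left
    have hm' : m ∈ normalizer (VB (S : Subgroup G) B : Set G) := le_normalizer_zl _ _ hm
    refine ⟨m, hm, (f.max (cj m F') hle ?_ ?_).symm⟩
    · have h3 := cj_mono m f'.le
      rwa [cj_eq_of_mem_normalizer hm'] at h3
    · intro h0
      apply f'.nle
      intro y hy
      have e : m⁻¹ * (m * y * m⁻¹) * m = y := by group
      have h3 : m * y * m⁻¹ ∈ centralizer (cj m F' : Set G) := by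
        rw [← cj_centralizer, mem_cj, e]; exact hy
      have h4 := mul_mem (mul_mem (inv_mem hm') (h0 h3)) hm'
      rwa [e] at h4
  · exact Or.inr h1

/-- **Two panels over `Z`: the same flat up to `N_G(B)`, or independent.** -/
theorem oneR
    {BB : Subgroup (XX (nH (S : Subgroup G) (HX B X)))} {Lw C : AddSubgroup (MU (cHX h f hZ p))}
    {x : XX (nH (S : Subgroup G) (HX B X))}
    {hV : ∀ m ∈ im (nH (S : Subgroup G) (HX B X)) (normalizer (B : Set G)), ∀ v ∈ ad (cHX h f hZ p) (VB (S : Subgroup G) B),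
      m • v ∈ ad (cHX h f hZ p) (VB (S : Subgroup G) B)}
    (b : Blk0 (sbc (im (nH (S : Subgroup G) (HX B X)) (normalizer (B : Set G)))
        (FFq (im (nH (S : Subgroup G) (HX B X)) (normalizer (B : Set G))) (ad (cHX h f hZ p) F)))
      (FFq (im (nH (S : Subgroup G) (HX B X)) (normalizer (B : Set G))) (ad (cHX h f hZ p) F)) BB
      (ad (cHX h f hZ p) (VB (S : Subgroup G) B)) (ad (cHX h f hZ p) F) Lw C x
      (im (nH (S : Subgroup G) (HX B X)) (normalizer (B : Set G)))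
      (KV (im (nH (S : Subgroup G) (HX B X)) (normalizer (B : Set G))) (ad (cHX h f hZ p) (VB (S : Subgroup G) B)) hV)
      (im (nH (S : Subgroup G) (HX B X)) (S : Subgroup G)))
    {BB' : Subgroup (XX (nH (S : Subgroup G) (HX B X')))} {Lw' C' : AddSubgroup (MU (cHX h f' hZ' p'))}
    {x' : XX (nH (S : Subgroup G) (HX B X'))}
    {hV' : ∀ m ∈ im (nH (S : Subgroup G) (HX B X')) (normalizer (B : Set G)), ∀ v ∈ ad (cHX h f' hZ' p') (VB (S : Subgroup G) B),
      m • v ∈ ad (cHX h f' hZ' p') (VB (S : Subgroup G) B)}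
    (b' : Blk0 (sbc (im (nH (S : Subgroup G) (HX B X')) (normalizer (B : Set G)))
        (FFq (im (nH (S : Subgroup G) (HX B X')) (normalizer (B : Set G))) (ad (cHX h f' hZ' p') F')))
      (FFq (im (nH (S : Subgroup G) (HX B X')) (normalizer (B : Set G))) (ad (cHX h f' hZ' p') F')) BB'
      (ad (cHX h f' hZ' p') (VB (S : Subgroup G) B)) (ad (cHX h f' hZ' p') F') Lw' C' x'
      (im (nH (S : Subgroup G) (HX B X')) (normalizer (B : Set G)))
      (KV (im (nH (S : Subgroup G) (HX B X')) (normalizer (B : Set G))) (ad (cHX h f' hZ' p') (VB (S : Subgroup G) B)) hV')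
      (im (nH (S : Subgroup G) (HX B X')) (S : Subgroup G))) :
    (∃ m ∈ normalizer (B : Set G), F = cj m F') ∨
      (WB b' ≤ centralizer (RB b : Set G) ∧ WB b ≤ centralizer (RB b' : Set G) ∧ WB b ⊓ WB b' = ⊥) := by
  have h2 := h.two hc hSne f hZ p
  have h2' := h.two hc hSne f' hZ' p'
  have fs : ∀ i : Bool, Fl S (VB (S : Subgroup G) B) (cond i F F') (cond i T T') := fun i => by
    cases i
    · exact f'
    · exact f
  have zs : ∀ i : Bool, zc (S : Subgroup G) ≤ cond i F F' := fun i => by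
    cases i
    · exact hZ'
    · exact hZ
  have ps : ∀ i : Bool, Par (VB (S : Subgroup G) B) (cond i F F') (cond i T T') (cond i X X') := fun i => by
    cases i
    · exact p'
    · exact p
  have twos : ∀ i : Bool, K0.Mix.Two (VB (S : Subgroup G) B) (cond i X X') := fun i => by
    cases i
    · exact h2'
    · exact h2
  have hff := h.gam_fam hc hSne (ι := Bool) (fun i => cond i F F') (fun i => cond i T T') (fun i => cond i X X') fs zs ps
  have hloc : ∃ R : Subgroup G, R ≠ ⊥ ∧ IsPGroup 2 R ∧ JB B (fun i : Bool => cond i X X') ≤ normalizer (R : Set G) := by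
    obtain ⟨R, hR, hR2, h3, h4⟩ := NO3b.Exit.exists_loc_fam FFBr.aStmt hc h.adm.lines (fun i : Bool => cond i F F')
      (fun i => cond i T T') (fun i => cond i X X') fs ps twos
    rw [h.adm.cs] at h3
    exact ⟨R, hR, hR2, sup_le h3 (iSup_le h4)⟩
  have hchar := BetaTwo.char2_JB h.adm hc hloc
  have hMJ : normalizer (B : Set G) ≤ JB B (fun i : Bool => cond i X X') := BetaTwo.NB_le_JB
  have hXJ : X ≤ JB B (fun i : Bool => cond i X X') := BetaTwo.X_le_JB (X := fun i : Bool => cond i X X') true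
  have hXJ' : X' ≤ JB B (fun i : Bool => cond i X X') := BetaTwo.X_le_JB (X := fun i : Bool => cond i X X') false
  obtain ⟨A, hA, hAB, i, hAX⟩ := exists_opt_JB h.adm hc fs ps hloc hff
  cases i with
  | true => exact oneR_aux h hc f hZ p f' hZ' p' b b' hMJ hXJ hXJ' hchar hA hAB hAX h2
  | false =>
    rcases oneR_aux h hc f' hZ' p' f hZ p b' b hMJ hXJ' hXJ hchar hA hAB hAX h2' with ⟨m, hm, e⟩ | ⟨h3, h4, h5⟩
    · left
      refine ⟨m⁻¹, inv_mem hm, ?_⟩
      rw [e, cj_inv_cj]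
    · right
      exact ⟨h4, h3, by rw [inf_comm]; exact h5⟩

end two

/-! ### (P): representatives of the flats -/

omit h hc hSne in
/-- `F ≥ F₀ ≥ Z` exists, up to `N_G(V) ∩ C_G(Z)` -/
theorem exists_fl_ge {V J : Subgroup G} (l : NoEmp.Lines S J V) {F₀ : Subgroup G} (hZF : zc (S : Subgroup G) ≤ F₀)
    (hle : F₀ ≤ V) (hnz : ¬ centralizer (F₀ : Set G) ≤ normalizer (V : Set G)) :
    ∃ (F T : Subgroup G) (c : G), Fl S V F T ∧ zc (S : Subgroup G) ≤ F ∧ c ∈ normalizer (V : Set G) ∧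
      c ∈ centralizer (zc (S : Subgroup G) : Set G) ∧ F₀ ≤ cj c F := by
  have hnz' : ¬ centralizer (zc (S : Subgroup G) : Set G) ≤ normalizer (V : Set G) := fun h0 =>
    hnz ((centralizer_le hZF).trans h0)
  obtain ⟨F, hF, hmax⟩ := Set.exists_max_image
    {F : Subgroup G | F₀ ≤ F ∧ F ≤ V ∧ ¬ centralizer (F : Set G) ≤ normalizer (V : Set G)}
    (fun F => Nat.card F) (Set.toFinite _) ⟨_, le_rfl, hle, hnz⟩
  have hJ : J ≤ centralizer (F : Set G) := l.JV.trans (centralizer_le hF.2.1)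
  obtain ⟨T, hT, hJT⟩ := exists_syl (S.isPGroup'.to_le l.JS) hJ
  have hTV : T ≤ normalizer (V : Set G) := by
    have h1 := l.le_norm_of hT.2.1 (a := 1) (by rw [cj_one]; exact hJT)
    rwa [cj_one] at h1
  have hTZ : T ≤ centralizer (zc (S : Subgroup G) : Set G) := hT.1.trans (centralizer_le (hZF.trans hF.1))
  obtain ⟨T₁, hT₁, hTT₁⟩ := exists_syl hT.2.1 (le_inf hTZ hTV)
  obtain ⟨c, hc, hcT⟩ := syl_conj hT₁ (syl_of_le (le_inf (Alpha.zc_cent (S := S)) l.S_le))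
  have hcV : cj c V = V := mem_normalizer_iff_cj.1 hc.2
  have hciV : cj c⁻¹ V = V := mem_normalizer_iff_cj.1 (inv_mem hc.2)
  have hcZ : cj c (zc (S : Subgroup G)) = zc (S : Subgroup G) :=
    cj_eq_of_mem_normalizer (centralizer_le_normalizer _ hc.1)
  have hN : cj c (normalizer (V : Set G)) = normalizer (V : Set G) :=
    cj_eq_of_mem_normalizer (Subgroup.le_normalizer hc.2)
  have hZ : zc (S : Subgroup G) ≤ cj c F := by
    have h1 := cj_mono c (hZF.trans hF.1)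
    rwa [hcZ] at h1
  refine ⟨cj c F, cj c T, c⁻¹, ⟨?_, ?_, ?_, ?_, ?_, ?_⟩, hZ, inv_mem hc.2, inv_mem hc.1, ?_⟩
  · intro h0
    exact MinSimple.Basic.zc_ne_bot S.isPGroup' (Alpha.S_ne l hnz') (le_bot_iff.1 (hZ.trans h0.le))
  · have h1 := cj_mono c hF.2.1
    rwa [hcV] at h1
  · intro h0
    apply hF.2.2
    rw [← cj_centralizer, ← hN] at h0
    have h1 := cj_mono c⁻¹ h0
    rwa [cj_inv_cj, cj_inv_cj] at h1
  · intro D hFD hD hn
    have h1 : F ≤ cj c⁻¹ D := by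
      have h2 := cj_mono c⁻¹ hFD
      rwa [cj_inv_cj] at h2
    have h2 : cj c⁻¹ D ≤ V := by
      have h3 := cj_mono c⁻¹ hD
      rwa [hciV] at h3
    have h3 : ¬ centralizer ((cj c⁻¹ D : Subgroup G) : Set G) ≤ normalizer (V : Set G) := by
      intro h0
      apply hn
      have h4 := cj_mono c h0
      rwa [cj_centralizer, cj_cj_inv, hN] at h4
    have h4 := eq_of_le_of_card_ge h1 (hmax (cj c⁻¹ D) ⟨hF.1.trans h1, h2, h3⟩)
    rw [h4, cj_cj_inv]
  · refine (cj_mono c hTT₁).trans hcT.le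
  · have hC : centralizer ((cj c F : Subgroup G) : Set G) = cj c (centralizer (F : Set G)) :=
      (cj_centralizer _ _).symm
    rw [hC]
    refine ⟨cj_mono _ hT.1, isPGroup_cj _ hT.2.1, fun Q hQ hp hle => ?_⟩
    have h2 := hT.2.2 (cj c⁻¹ Q) (by
      rw [cj_le_iff, inv_inv]; exact hQ) (isPGroup_cj _ hp) (by
      have h3 := cj_mono c⁻¹ hle
      rwa [cj_inv_cj] at h3)
    rw [← h2, cj_cj_inv]
  · rw [cj_inv_cj]; exact hF.1

include h in
omit hc hSne in
/-- an element of `N_G(V)` is an element of `N_G(B)` times an element of `C_G(V)` -/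
theorem cj_eq_NB {n : G} (hn : n ∈ normalizer (VB (S : Subgroup G) B : Set G)) {D : Subgroup G}
    (hD : D ≤ VB (S : Subgroup G) B) : ∃ m ∈ normalizer (B : Set G), cj n D = cj m D := by
  obtain ⟨c, hc, h1⟩ := Exit.frattini (S := S) h.adm.lines.S_le hn
  rw [h.adm.cs] at h1
  refine ⟨_, h1, ?_⟩
  have hm : c⁻¹ * n ∈ normalizer (VB (S : Subgroup G) B : Set G) := le_normalizer_zl _ _ h1
  have h2 : cj (c⁻¹ * n) D ≤ VB (S : Subgroup G) B := by
    have h3 := cj_mono (c⁻¹ * n) hD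
    rwa [cj_eq_of_mem_normalizer hm] at h3
  have h3 : cj c (cj (c⁻¹ * n) D) = cj (c⁻¹ * n) D :=
    cj_eq_of_mem_normalizer (centralizer_le_normalizer _ (centralizer_le h2 hc))
  rw [cj_cj, mul_inv_cancel_left] at h3
  exact h3

include h in
omit hc hSne in
/-- **(P)** Every `D`, `Z ≤ D ≤ V`, `C_G(D) ≰ N_G(V)`, lies in `F^m` for a panel `(F, T, X)` over `Z`, `m ∈ N_G(B)`. -/
theorem exists_panel_ge {D : Subgroup G} (hZD : zc (S : Subgroup G) ≤ D) (hD : D ≤ VB (S : Subgroup G) B)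
    (hn : ¬ centralizer (D : Set G) ≤ normalizer (VB (S : Subgroup G) B : Set G)) :
    ∃ (F T X : Subgroup G) (m : G), Fl S (VB (S : Subgroup G) B) F T ∧ zc (S : Subgroup G) ≤ F ∧
      Par (VB (S : Subgroup G) B) F T X ∧ m ∈ normalizer (B : Set G) ∧ D ≤ cj m F := by
  obtain ⟨F, T, c, f, hZ, hcV, -, hle⟩ := exists_fl_ge h.adm.lines hZD hD hn
  obtain ⟨X, p⟩ := f.exists_par
  obtain ⟨m, hm, e⟩ := cj_eq_NB h hcV f.le
  exact ⟨F, T, X, m, f, hZ, p, hm, e ▸ hle⟩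

include h in
omit hc hSne in
/-- **representatives** of the `N_G(B)`-classes of the flats of the panels over `Z` -/
theorem exists_reps : ∃ (ι : Type u) (_ : Finite ι) (_ : Nonempty ι) (F T X : ι → Subgroup G),
    (∀ i, Fl S (VB (S : Subgroup G) B) (F i) (T i)) ∧ (∀ i, zc (S : Subgroup G) ≤ F i) ∧
    (∀ i, Par (VB (S : Subgroup G) B) (F i) (T i) (X i)) ∧
    (∀ i j, i ≠ j → ∀ m ∈ normalizer (B : Set G), F i ≠ cj m (F j)) ∧
    (∀ F' T' X' : Subgroup G, Fl S (VB (S : Subgroup G) B) F' T' → zc (S : Subgroup G) ≤ F' →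
      Par (VB (S : Subgroup G) B) F' T' X' → ∃ i, ∃ m ∈ normalizer (B : Set G), F' = cj m (F i)) ∧
    ∀ D : Subgroup G, zc (S : Subgroup G) ≤ D → D ≤ VB (S : Subgroup G) B →
      ¬ centralizer (D : Set G) ≤ normalizer (VB (S : Subgroup G) B : Set G) →
      ∃ i, ∃ m ∈ normalizer (B : Set G), D ≤ cj m (F i) := by
  classical
  let A : Type u := {F : Subgroup G // ∃ T X, Fl S (VB (S : Subgroup G) B) F T ∧ zc (S : Subgroup G) ≤ F ∧
    Par (VB (S : Subgroup G) B) F T X}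
  let st : Setoid A :=
    { r := fun F F' => ∃ m ∈ normalizer (B : Set G), F.1 = cj m F'.1
      iseqv :=
        { refl := fun F => ⟨1, one_mem _, by rw [cj_one]⟩
          symm := by
            rintro F F' ⟨m, hm, e⟩
            exact ⟨m⁻¹, inv_mem hm, by rw [e, cj_inv_cj]⟩
          trans := by
            rintro F F' F'' ⟨m, hm, e⟩ ⟨n, hn, e'⟩
            exact ⟨m * n, mul_mem hm hn, by rw [e, e', cj_cj]⟩ } }
  have hall : ∀ i : Quotient st, ∃ T X, Fl S (VB (S : Subgroup G) B) (Quotient.out i).1 T ∧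
    zc (S : Subgroup G) ≤ (Quotient.out i).1 ∧ Par (VB (S : Subgroup G) B) (Quotient.out i).1 T X := fun i =>
      (Quotient.out i).2
  choose T X hTX using hall
  have hrep : ∀ F' T' X' : Subgroup G, Fl S (VB (S : Subgroup G) B) F' T' → zc (S : Subgroup G) ≤ F' →
      Par (VB (S : Subgroup G) B) F' T' X' → ∃ i : Quotient st, ∃ m ∈ normalizer (B : Set G),
        F' = cj m (Quotient.out i).1 := by
    intro F' T' X' f hZ p
    let a : A := ⟨F', T', X', f, hZ, p⟩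
    obtain ⟨m, hm, e⟩ := Quotient.exact (Quotient.out_eq (Quotient.mk st a))
    exact ⟨Quotient.mk st a, m⁻¹, inv_mem hm, by rw [e, cj_inv_cj]⟩
  refine ⟨Quotient st, inferInstance, ?_, fun i => (Quotient.out i).1, T, X, fun i => (hTX i).1, fun i => (hTX i).2.1,
    fun i => (hTX i).2.2, fun i j hij m hm e => hij ?_, hrep, fun D hZD hD hn => ?_⟩
  · obtain ⟨F, T, X, f, hZ, p⟩ := h.ex
    exact ⟨Quotient.mk st ⟨F, T, X, f, hZ, p⟩⟩
  · rw [← Quotient.out_eq i, ← Quotient.out_eq j]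
    exact Quotient.sound ⟨m, hm, e⟩
  · obtain ⟨F, T, X, m, f, hZ, p, hm, hle⟩ := exists_panel_ge h hZD hD hn
    obtain ⟨i, n, hn, e⟩ := hrep F T X f hZ p
    exact ⟨i, m * n, mul_mem hm hn, by rw [← cj_cj, ← e]; exact hle⟩

end frame

end Cfsg.Agent.Omega.NO3b.BasePt
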