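import Cfsg.Agent.Omega.NO3b.BasePt.Def
import Cfsg.Agent.Omega.NO3b.BasePt.ActPt

/-!
# (P3): `C_S(Z₁) ≤ RR` (bb 22310, 22497 (d), 22687), over helper957's `Fam`

`Fam W M 𝒴`, `RR = ∏ Y`, `W = Σ [W, Y] + C_W(RR)`, `S ≤ M` a 2-group of odd index.

* `comm` : different blocks commute; `RR_conj`; `RR_act` : `RR` acts on `[W, Y]` as `Y`;
* `fix_of` : a vector of `[W, Y]` fixed by `S ∩ Y` is fixed by `S ∩ RR`;
* `norm` : `s ∈ M` which fixes `C_W(S ∩ RR)` normalises every `Y`;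
* `exists_act` : ... and acts on `[W, Y]` as an element of `Y` if it is a 2-element;
* **`two_mem`** : a 2-element `s ∈ M` which fixes `C_W(S ∩ RR)` lies in `RR`.
-/

set_option autoImplicit false

namespace Cfsg.Agent.Omega.NO3b.BasePt.PThree

open Subgroup
open Cfsg.Agent.Omega.NO3b.Exit Cfsg.Agent.Omega.NO3b.Exit.Ten Cfsg.Agent.Omega.NO3b.Exit.Descent
open Cfsg.Agent.Omega.NO3b.BasePt.ActPt
open Cfsg.Agent.Omega.FF.Basic (fx)
open scoped Pointwise

universe u v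

/-- a subgroup of odd index meets a normal subgroup in a subgroup of odd index -/
theorem odd_of_normal {Γ : Type u} [Group Γ] [Finite Γ] {S N K : Subgroup Γ} (hNK : N ≤ K)
    (hn : ∀ k ∈ K, ∀ n ∈ N, k * n * k⁻¹ ∈ N) (h : ¬ 2 ∣ S.relIndex K) : ¬ 2 ∣ S.relIndex N := by
  have hN : (N.subgroupOf K).Normal := ⟨fun n hn' g => hn g g.2 n hn'⟩
  have h1 : S.relIndex N = (S.subgroupOf K).relIndex (N.subgroupOf K) := (relIndex_subgroupOf hNK).symm
  rw [h1]
  set S' := S.subgroupOf K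
  set N' := N.subgroupOf K
  have h2 : ¬ 2 ∣ S'.index := h
  intro h3
  apply h2
  have h4 : S'.relIndex N' * N'.relIndex (N' ⊔ S') = (S' ⊓ N').relIndex (N' ⊔ S') := by
    have := relIndex_inf_mul_relIndex S' N' (N' ⊔ S')
    rwa [inf_eq_left.2 (le_sup_left : N' ≤ N' ⊔ S')] at this
  have h5 : N'.relIndex S' * S'.relIndex (N' ⊔ S') = (N' ⊓ S').relIndex (N' ⊔ S') := by
    have := relIndex_inf_mul_relIndex N' S' (N' ⊔ S')
    rwa [inf_eq_left.2 (le_sup_right : S' ≤ N' ⊔ S')] at this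
  rw [relIndex_sup_left] at h4
  rw [inf_comm, ← h4] at h5
  have h6 : N'.relIndex S' ≠ 0 := index_ne_zero_of_finite
  have h7 : S'.relIndex (N' ⊔ S') = S'.relIndex N' := by
    refine Nat.eq_of_mul_eq_mul_left (Nat.pos_of_ne_zero h6) ?_
    rw [h5, mul_comm]
  rw [← h7] at h3
  exact h3.trans (relIndex_dvd_index_of_le le_sup_right)

/-- an irreducible module with all transvections has no fixed vectors -/
theorem exists_irr {Y : Type u} [Group Y] {A : Type v} [AddCommGroup A] [Finite A] [DistribMulAction Y A]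
    [IsIrr Y A] (hdim : 2 ≤ Module.finrank (KK Y A) A) (htv : AllTv Y A) (a : A) (ha : a ≠ 0) : ∃ y : Y, y • a ≠ a := by
  -- a functional with `φ a ≠ 0` and a vector `b ≠ 0` with `φ b = 0`
  by_contra hcon
  push Not at hcon
  let N : AddSubgroup A :=
    { carrier := {x | ∀ y : Y, y • x = x}
      zero_mem' := fun y => smul_zero y
      add_mem' := fun {x z} hx hz y => by rw [smul_add, hx y, hz y]
      neg_mem' := fun {x} hx y => by rw [smul_neg, hx y] }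
  have hN : N = ⊤ := by
    rcases IsIrr.irr (Y := Y) N (fun k n hn y => by rw [hn k, hn y]) with h | h
    · exfalso
      have : a ∈ N := hcon
      rw [h] at this
      exact ha this
    · exact h
  have htriv : ∀ (y : Y) (x : A), y • x = x := fun y x => by
    have : x ∈ N := by rw [hN]; trivial
    exact this y
  have hfin : Module.Finite (KK Y A) A := Module.Finite.of_finite
  -- `K a ≠ A`
  have h1 : Submodule.span (KK Y A) ({a} : Set A) ≠ ⊤ := by
    intro h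
    have h2 := finrank_span_le_card (R := KK Y A) ({a} : Set A)
    rw [h, finrank_top] at h2
    simp only [Set.toFinset_singleton, Finset.card_singleton] at h2
    omega
  obtain ⟨b, hb⟩ : ∃ b, b ∉ Submodule.span (KK Y A) ({a} : Set A) := by
    by_contra hcon
    push Not at hcon
    exact h1 (eq_top_iff.2 fun x _ => hcon x)
  obtain ⟨φ, hφ1, hφ2⟩ := Submodule.exists_dual_map_eq_bot_of_notMem hb inferInstance
  have hφa : φ a = 0 := by
    have h : φ a ∈ (Submodule.span (KK Y A) ({a} : Set A)).map φ := ⟨a, Submodule.mem_span_singleton_self a, rfl⟩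
    rw [hφ2, Submodule.mem_bot] at h
    exact h
  obtain ⟨k, hk⟩ := htv φ a hφa
  have h3 := hk b
  rw [htriv k b, left_eq_add] at h3
  exact ha ((smul_eq_zero.1 h3).resolve_left hφ1)

variable {Γ : Type u} [Group Γ] {W : Type v} [AddCommGroup W] [DistribMulAction Γ W] {M : Subgroup Γ}
  {𝒴 : Set (Subgroup Γ)}

theorem mem_cm {Y : Subgroup Γ} {y : Γ} (hy : y ∈ Y) (w : W) : y • w - w ∈ cm W Y :=
  AddSubgroup.subset_closure ⟨y, hy, w, rfl⟩

theorem smul_cm {Y : Subgroup Γ} {y : Γ} (hy : y ∈ Y) {v : W} (hv : v ∈ cm W Y) : y • v ∈ cm W Y := by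
  have e : y • v = (y • v - v) + v := by abel
  rw [e]
  exact add_mem (mem_cm hy v) hv

theorem cm_map {Y : Subgroup Γ} (g : Γ) {v : W} (hv : v ∈ cm W Y) :
    g • v ∈ cm W (Y.map (MulAut.conj g).toMonoidHom) := by
  induction hv using AddSubgroup.closure_induction with
  | mem v hv =>
    obtain ⟨y, hy, w, rfl⟩ := hv
    refine AddSubgroup.subset_closure ⟨g * y * g⁻¹, ⟨y, hy, rfl⟩, g • w, ?_⟩
    rw [smul_smul, inv_mul_cancel_right, smul_sub, mul_smul]
  | zero => rw [smul_zero]; exact zero_mem _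
  | add a b _ _ ha hb => rw [smul_add]; exact add_mem ha hb
  | neg a _ ha => rw [smul_neg]; exact neg_mem ha

section fam

variable (f : Fam W M 𝒴)
include f

theorem comm {Y Y' : Subgroup Γ} (hY : Y ∈ 𝒴) (hY' : Y' ∈ 𝒴) (hne : Y ≠ Y') {y y' : Γ} (hy : y ∈ Y)
    (hy' : y' ∈ Y') : y * y' = y' * y := by
  have h1 : (y' * y)⁻¹ * (y * y') = 1 := f.faith _ fun w => by
    rw [mul_smul, inv_smul_eq_iff, mul_smul, mul_smul]
    have e1 : y • y' • w = y • w + (y' • w - w) := by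
      have h2 := f.triv Y hY Y' hY' hne y hy _ (mem_cm hy' w)
      rw [smul_sub] at h2
      rw [← h2]; abel
    have e2 : y' • y • w = y' • w + (y • w - w) := by
      have h2 := f.triv Y' hY' Y hY (Ne.symm hne) y' hy' _ (mem_cm hy w)
      rw [smul_sub] at h2
      rw [← h2]; abel
    rw [e1, e2]; abel
  exact (inv_mul_eq_one.1 h1).symm

omit f in
theorem le_RR {Y : Subgroup Γ} (hY : Y ∈ 𝒴) : Y ≤ RR 𝒴 := le_sSup hY

omit [DistribMulAction Γ W] [AddCommGroup W] f in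
theorem RR_le' {L : Subgroup Γ} (h : ∀ Y ∈ 𝒴, Y ≤ L) : RR 𝒴 ≤ L := sSup_le h

theorem RR_le_M : RR 𝒴 ≤ M := sSup_le f.le

/-- `RR` is normal in `M` -/
theorem RR_conj {m x : Γ} (hm : m ∈ M) (hx : x ∈ RR 𝒴) : m * x * m⁻¹ ∈ RR 𝒴 := by
  have h1 : RR 𝒴 ≤ (RR 𝒴).comap (MulAut.conj m).toMonoidHom := by
    refine sSup_le fun Y hY y hy => ?_
    exact le_RR (f.conj Y hY m hm) ⟨y, hy, rfl⟩
  exact h1 hx

/-- `RR` normalises `Y` -/
theorem RR_norm {Y : Subgroup Γ} (hY : Y ∈ 𝒴) {x : Γ} (hx : x ∈ RR 𝒴) {y : Γ} (hy : y ∈ Y) : x * y * x⁻¹ ∈ Y := by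
  have h1 : RR 𝒴 ≤ normalizer (Y : Set Γ) := by
    refine sSup_le fun Y' hY' y' hy' => ?_
    by_cases h : Y = Y'
    · subst h
      exact le_normalizer hy'
    · rw [mem_normalizer_iff]
      intro z
      constructor
      · intro hz
        rw [← comm f hY hY' h hz hy', mul_inv_cancel_right]
        exact hz
      · intro hz
        have h2 := comm f hY hY' h hz hy'
        have e : z = y'⁻¹ * (y' * z * y'⁻¹) * y' := by group
        rw [e, mul_assoc, h2, ← mul_assoc, inv_mul_cancel, one_mul]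
        exact hz
  exact (mem_normalizer_iff.1 (h1 hx) y).1 hy

/-- `RR` acts on `[W, Y]` as `Y` -/
theorem RR_act {Y : Subgroup Γ} (hY : Y ∈ 𝒴) {x : Γ} (hx : x ∈ RR 𝒴) : ∃ y ∈ Y, ∀ v ∈ cm W Y, x • v = y • v := by
  let L : Subgroup Γ :=
    { carrier := {x | ∃ y ∈ Y, ∀ v ∈ cm W Y, x • v = y • v}
      one_mem' := ⟨1, one_mem _, fun _ _ => rfl⟩
      mul_mem' := by
        rintro a b ⟨y, hy, h1⟩ ⟨z, hz, h2⟩
        exact ⟨y * z, mul_mem hy hz, fun v hv => by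
          rw [mul_smul, mul_smul, h2 v hv, h1 _ (smul_cm hz hv)]⟩
      inv_mem' := by
        rintro a ⟨y, hy, h1⟩
        refine ⟨y⁻¹, inv_mem hy, fun v hv => ?_⟩
        rw [inv_smul_eq_iff, h1 _ (smul_cm (inv_mem hy) hv), smul_inv_smul] }
  have h1 : RR 𝒴 ≤ L := by
    refine sSup_le fun Y' hY' y' hy' => ?_
    by_cases h : Y' = Y
    · subst h
      exact ⟨y', hy', fun _ _ => rfl⟩
    · exact ⟨1, one_mem _, fun v hv => by rw [one_smul]; exact f.triv Y' hY' Y hY h y' hy' v hv⟩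
  exact h1 hx

/-- `W = Σ [W, Y] + C_W(RR)` -/
def Dec (W : Type v) [AddCommGroup W] [DistribMulAction Γ W] (𝒴 : Set (Subgroup Γ)) : Prop :=
  ∀ w : W, ∃ a ∈ (⨆ Y ∈ 𝒴, cm W Y : AddSubgroup W), ∃ c ∈ fx W (RR 𝒴), w = a + c

omit f in
theorem eq_of_dec (d : Dec W 𝒴) {g g' : Γ} (h1 : ∀ Y ∈ 𝒴, ∀ v ∈ cm W Y, g • v = g' • v)
    (h2 : ∀ c ∈ fx W (RR 𝒴), g • c = g' • c) (w : W) : g • w = g' • w := by
  obtain ⟨a, ha, c, hc, rfl⟩ := d w
  rw [smul_add, smul_add, h2 c hc]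
  congr 1
  have h3 : (⨆ Y ∈ 𝒴, cm W Y : AddSubgroup W) ≤
      ({ carrier := {v | g • v = g' • v}
         zero_mem' := by change g • (0 : W) = g' • (0 : W); rw [smul_zero, smul_zero]
         add_mem' := fun {a b} ha hb => by
           change g • (a + b) = g' • (a + b)
           rw [smul_add, smul_add, ha, hb]
         neg_mem' := fun {a} ha => by
           change g • (-a) = g' • (-a)
           rw [smul_neg, smul_neg, ha] } : AddSubgroup W) := iSup₂_le fun Y hY v hv => h1 Y hY v hv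
  exact h3 ha

/-- `Y` is faithful on `[W, Y]` -/
theorem eq_one (d : Dec W 𝒴) {Y : Subgroup Γ} (hY : Y ∈ 𝒴) {y : Γ} (hy : y ∈ Y) (h : ∀ v ∈ cm W Y, y • v = v) :
    y = 1 := by
  refine f.faith y fun w => ?_
  have h1 := eq_of_dec (g := y) (g' := 1) d (fun Y' hY' v hv => by
    rw [one_smul]
    by_cases h2 : Y = Y'
    · subst h2; exact h v hv
    · exact f.triv Y hY Y' hY' h2 y hy v hv) (fun c hc => by
    rw [one_smul]; exact hc y (le_RR hY hy)) w
  rwa [one_smul] at h1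

variable [Finite Γ] {S : Subgroup Γ}

/-- `S ∩ Y` has odd index in `Y` -/
theorem odd_Y (syl : ¬ 2 ∣ S.relIndex M) {Y : Subgroup Γ} (hY : Y ∈ 𝒴) : ¬ 2 ∣ S.relIndex Y := by
  have h1 : ¬ 2 ∣ S.relIndex (RR 𝒴) := odd_of_normal (RR_le_M f) (fun m hm x hx => RR_conj f hm hx) syl
  exact odd_of_normal (le_RR hY) (fun x hx y hy => RR_norm f hY hx hy) h1

/-- a vector of `[W, Y]` fixed by `S ∩ Y` is fixed by `S ∩ RR` -/
theorem fix_of (d : Dec W 𝒴) (hS : IsPGroup 2 S) (syl : ¬ 2 ∣ S.relIndex M) {Y : Subgroup Γ} (hY : Y ∈ 𝒴) {v : W}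
    (hv : v ∈ cm W Y) (h : ∀ t ∈ S, t ∈ Y → t • v = v) : v ∈ fx W (S ⊓ RR 𝒴) := by
  have hfact : Fact (Nat.Prime 2) := ⟨Nat.prime_two⟩
  let T : Subgroup Γ :=
    { carrier := {y | y ∈ Y ∧ ∃ x ∈ S ⊓ RR 𝒴, ∀ v ∈ cm W Y, x • v = y • v}
      one_mem' := ⟨one_mem _, 1, one_mem _, fun _ _ => rfl⟩
      mul_mem' := by
        rintro a b ⟨ha, x, hx, h1⟩ ⟨hb, z, hz, h2⟩
        exact ⟨mul_mem ha hb, x * z, mul_mem hx hz, fun v hv => by
          rw [mul_smul, mul_smul, h2 v hv, h1 _ (smul_cm hb hv)]⟩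
      inv_mem' := by
        rintro a ⟨ha, x, hx, h1⟩
        refine ⟨inv_mem ha, x⁻¹, inv_mem hx, fun v hv => ?_⟩
        rw [inv_smul_eq_iff, h1 _ (smul_cm (inv_mem ha) hv), smul_inv_smul] }
  have hT2 : IsPGroup 2 T := by
    rintro ⟨y, hy, x, hx, h1⟩
    obtain ⟨k, hk⟩ := hS ⟨x, hx.1⟩
    have hk' : x ^ 2 ^ k = 1 := congrArg Subtype.val hk
    refine ⟨k, Subtype.ext ?_⟩
    change y ^ 2 ^ k = 1
    refine eq_one f d hY (pow_mem hy _) fun v hv => ?_
    have h3 : ∀ n : ℕ, ∀ v ∈ cm W Y, x ^ n • v = y ^ n • v := by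
      intro n
      induction n with
      | zero => intro v _; rw [pow_zero, pow_zero]
      | succ n ih =>
        intro v hv
        rw [pow_succ, pow_succ, mul_smul, mul_smul, h1 v hv, ih _ (smul_cm hy hv)]
    rw [← h3 _ v hv, hk', one_smul]
  have hST : S ⊓ Y ≤ T := fun t ht => ⟨ht.2, t, ⟨ht.1, le_RR hY ht.2⟩, fun _ _ => rfl⟩
  have hTY : T ≤ Y := fun t ht => ht.1
  have h4 : (S ⊓ Y).relIndex T = 1 := by
    have h5 : ¬ 2 ∣ (S ⊓ Y).relIndex T := by
      intro h6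
      apply odd_Y f syl hY
      rw [← inf_relIndex_right]
      exact h6.trans ⟨_, (relIndex_mul_relIndex (S ⊓ Y) T Y hST hTY).symm⟩
    obtain ⟨k, hk⟩ := IsPGroup.iff_card.1 hT2
    have h6 : (S ⊓ Y).relIndex T ∣ 2 ^ k := by rw [← hk]; exact relIndex_dvd_card _ _
    obtain ⟨l, -, hl⟩ := (Nat.dvd_prime_pow Nat.prime_two).1 h6
    rcases Nat.eq_zero_or_pos l with h0 | h0
    · rw [hl, h0, pow_zero]
    · exact absurd (hl ▸ dvd_pow_self 2 h0.ne') h5
  intro x hx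
  obtain ⟨y, hy, h1⟩ := RR_act f hY hx.2
  rw [h1 v hv]
  have hyT : y ∈ S ⊓ Y := relIndex_eq_one.1 h4 ⟨hy, x, hx, h1⟩
  exact h y hyT.1 hy

variable [Finite W]

/-- `s ∈ M` which fixes `C_W(S ∩ RR)`: one block -/
theorem exists_act (d : Dec W 𝒴) (hS : IsPGroup 2 S) (syl : ¬ 2 ∣ S.relIndex M) {s : Γ} (hs : s ∈ M)
    (hfix : ∀ v ∈ fx W (S ⊓ RR 𝒴), s • v = v) {j : ℕ} (hj : s ^ 2 ^ j = 1) {Y : Subgroup Γ} (hY : Y ∈ 𝒴) :
    ∃ y ∈ Y, ∀ v ∈ cm W Y, s • v = y • v := by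
  obtain ⟨A, _, _, _, hI, htv, two, hcm, hdA, hdE⟩ := (f.blk Y hY).ex
  have hodd : ¬ 2 ∣ (S.subgroupOf Y).index := odd_Y f syl hY
  have hp : IsPGroup 2 (S.subgroupOf Y) := hS.comap_of_injective _ (subtype_injective Y)
  obtain ⟨n, -, hn0, hn⟩ := exists_fix (V := A) (H := Y) hp two (A := ⊤) (fun _ _ _ _ => trivial) (by
    intro h
    obtain ⟨a, ha⟩ := hI.ne
    have : a ∈ (⊤ : AddSubgroup A) := trivial
    rw [h] at this
    exact ha this)
  -- `s` fixes `n ⊗ E`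
  have hsn : ∀ g : HomY Y A W, s • (g : A →+ W) n = (g : A →+ W) n := by
    intro g
    refine hfix _ (fix_of f d hS syl hY (by rw [hcm]; exact mem_img g n) fun t ht htY => ?_)
    have h1 := hn ⟨t, htY⟩ (mem_subgroupOf.2 ht)
    have h2 := g.2 (⟨t, htY⟩ : Y) n
    rw [h1] at h2
    exact h2.symm
  -- `s` normalises `Y`
  obtain ⟨g₀, hg₀⟩ : ∃ g : HomY Y A W, g ≠ 0 := by
    by_contra hcon
    push Not at hcon
    have h1 : Module.finrank (KK Y A) (HomY Y A W) = 0 := by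
      have : Subsingleton (HomY Y A W) := ⟨fun a b => by rw [hcon a, hcon b]⟩
      exact Module.finrank_zero_of_subsingleton
    omega
  have hYs : Y.map (MulAut.conj s).toMonoidHom = Y := by
    by_contra hne
    obtain ⟨y, hy⟩ := exists_irr hdA htv n hn0
    apply hy
    have h1 : (g₀ : A →+ W) n ∈ cm W (Y.map (MulAut.conj s).toMonoidHom) := by
      rw [← hsn g₀]
      exact cm_map s (by rw [hcm]; exact mem_img g₀ n)
    have h2 := f.triv Y hY _ (f.conj Y hY s hs) (Ne.symm hne) y y.2 _ h1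
    apply HomY.inj hg₀
    rw [g₀.2]
    exact h2
  have hsY : ∀ y ∈ Y, s * y * s⁻¹ ∈ Y := fun y hy => by
    have : s * y * s⁻¹ ∈ Y.map (MulAut.conj s).toMonoidHom := ⟨y, hy, rfl⟩
    rwa [hYs] at this
  have hsY' : ∀ y ∈ Y, s⁻¹ * y * s ∈ Y := fun y hy => by
    rw [← hYs] at hy
    obtain ⟨z, hz, rfl⟩ := hy
    change s⁻¹ * (s * z * s⁻¹) * s ∈ Y
    have e : s⁻¹ * (s * z * s⁻¹) * s = z := by group
    rw [e]; exact hz
  obtain ⟨y, hy⟩ := act_two (U := W) htv two (DistribSMul.toAddMonoidHom W s)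
    (fun a b hab => smul_left_cancel s hab)
    (fun k => ⟨⟨_, hsY k k.2⟩, fun u => by
      change s • (k : Γ) • u = (s * (k : Γ) * s⁻¹) • s • u
      rw [smul_smul, smul_smul, inv_mul_cancel_right]⟩)
    (fun k => ⟨⟨_, hsY' k k.2⟩, fun u => by
      change s • (s⁻¹ * (k : Γ) * s) • u = (k : Γ) • s • u
      rw [smul_smul, smul_smul]
      congr 1
      group⟩) hn0 hsn (j := j) (fun v _ => by
      have h1 : ∀ m : ℕ, ∀ v : W, (DistribSMul.toAddMonoidHom W s)^[m] v = s ^ m • v := by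
        intro m
        induction m with
        | zero => intro v; rw [pow_zero, one_smul]; rfl
        | succ m ih =>
          intro v
          rw [Function.iterate_succ_apply', ih, pow_succ', mul_smul]
          rfl
      rw [h1, hj, one_smul])
  refine ⟨y, y.2, fun v hv => ?_⟩
  rw [hcm] at hv
  exact hy v hv

/-- **(P3)** -/
theorem two_mem (d : Dec W 𝒴) (hS : IsPGroup 2 S) (syl : ¬ 2 ∣ S.relIndex M) {s : Γ} (hs : s ∈ M)
    (hfix : ∀ v ∈ fx W (S ⊓ RR 𝒴), s • v = v) {j : ℕ} (hj : s ^ 2 ^ j = 1) : s ∈ RR 𝒴 := by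
  classical
  have hfin : Finite (Subgroup Γ) := Finite.of_injective (fun A : Subgroup Γ => (A : Set Γ)) SetLike.coe_injective
  have h𝒴 : 𝒴.Finite := Set.toFinite 𝒴
  have key : ∀ T : Finset (Subgroup Γ), (∀ Y ∈ T, Y ∈ 𝒴) → ∃ x ∈ RR 𝒴,
      (∀ Y ∈ T, ∀ v ∈ cm W Y, s • v = x • v) ∧ ∀ Y ∈ 𝒴, Y ∉ T → ∀ v ∈ cm W Y, x • v = v := by
    intro T
    induction T using Finset.induction with
    | empty =>
      intro _
      exact ⟨1, one_mem _, fun Y hY => absurd hY (Finset.notMem_empty _), fun Y _ _ v _ => one_smul _ v⟩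
    | insert Y T hYT ih =>
      intro hT
      obtain ⟨x, hx, h1, h2⟩ := ih fun Y' hY' => hT Y' (Finset.mem_insert_of_mem hY')
      have hY : Y ∈ 𝒴 := hT Y (Finset.mem_insert_self _ _)
      obtain ⟨y, hy, h3⟩ := exists_act f d hS syl hs hfix hj hY
      refine ⟨y * x, mul_mem (le_RR hY hy) hx, fun Y' hY' v hv => ?_, fun Y' hY' hn v hv => ?_⟩
      · rcases Finset.mem_insert.1 hY' with rfl | hY'
        · rw [mul_smul, h2 Y' hY hYT v hv, h3 v hv]
        · have hne : Y ≠ Y' := fun e => hYT (e ▸ hY')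
          have hY'' : Y' ∈ 𝒴 := hT Y' (Finset.mem_insert_of_mem hY')
          obtain ⟨z, hz, h4⟩ := RR_act f hY'' hx
          rw [mul_smul, h1 Y' hY' v hv, h4 v hv]
          exact (f.triv Y hY Y' hY'' hne y hy _ (smul_cm hz hv)).symm
      · rw [Finset.mem_insert, not_or] at hn
        rw [mul_smul, h2 Y' hY' hn.2 v hv]
        exact f.triv Y hY Y' hY' (Ne.symm hn.1) y hy v hv
  obtain ⟨x, hx, h1, -⟩ := key h𝒴.toFinset fun Y hY => h𝒴.mem_toFinset.1 hY
  have h2 : ∀ w : W, s • w = x • w := eq_of_dec d (fun Y hY => h1 Y (h𝒴.mem_toFinset.2 hY)) fun c hc => by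
    rw [hc x hx, hfix c fun t ht => hc t ht.2]
  have h3 : x⁻¹ * s = 1 := f.faith _ fun w => by rw [mul_smul, h2 w, inv_smul_smul]
  rw [← inv_mul_eq_one.1 h3]
  exact hx

/-- **(P3)** for `S`: `C_S(C_W(S ∩ RR)) = S ∩ RR`. -/
theorem inf_RR (d : Dec W 𝒴) (SM : S ≤ M) (hS : IsPGroup 2 S) (syl : ¬ 2 ∣ S.relIndex M) {s : Γ} :
    s ∈ S ⊓ RR 𝒴 ↔ s ∈ S ∧ ∀ v ∈ fx W (S ⊓ RR 𝒴), s • v = v := by
  constructor
  · exact fun h => ⟨h.1, fun v hv => hv s h⟩
  · rintro ⟨h, h1⟩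
    obtain ⟨k, hk⟩ := hS ⟨s, h⟩
    exact ⟨h, two_mem f d hS syl (SM h) h1 (congrArg Subtype.val hk)⟩

end fam

end Cfsg.Agent.Omega.NO3b.BasePt.PThree
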