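import Cfsg.Agent.Omega.NO3b.BasePt.PThree
import Cfsg.Agent.Omega.NO3b.Exit.MU

/-!
# (P3) in `G`: `S ∩ C(V ∩ C(S ∩ R)) = S ∩ R`

`V` abelian, `H ≤ N_G(V)`, `Γ = XX h` the group induced by `H` on `V`, `Fam (MU hc) M 𝒴` (helper957), `R ≤ H` the
preimage of `RR 𝒴`, `S ≤ H` a 2-group whose image has odd index in `M`.

* `RG h 𝒴` : the preimage of `RR 𝒴`; `mem_RG`; `cent_le_RG`;
* `mem_iff` : `w ∈ fx (S̄ ∩ RR)` iff `val w ∈ C(S ∩ R)`;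
* **`inf_eq`** : `S ∩ C(Z₁) = S ∩ R`, `Z₁ = V ∩ C(S ∩ R)`.
-/

set_option autoImplicit false

namespace Cfsg.Agent.Omega.NO3b.BasePt.PThree

open Subgroup Cfsg
open Cfsg.Agent.Omega.NO3b.Exit.Bridge
open Cfsg.Agent.Omega.FF.Basic (fx)
open Cfsg.Agent.Omega.FFBr (XX pr im mem_im pr_eq_one pr_surjective)

universe u

variable {G : Type u} [Group G] {V H : Subgroup G} (h : H ≤ normalizer (V : Set G)) {M : Subgroup (XX h)}
  (𝒴 : Set (Subgroup (XX h)))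

/-- the preimage of `RR 𝒴` in `H` -/
def RG : Subgroup G := ((RR 𝒴).comap (pr h)).map H.subtype

variable {h 𝒴}

theorem mem_RG {g : G} : g ∈ RG h 𝒴 ↔ ∃ hg : g ∈ H, pr h ⟨g, hg⟩ ∈ RR 𝒴 := by
  constructor
  · rintro ⟨x, hx, rfl⟩
    exact ⟨x.2, hx⟩
  · rintro ⟨hg, h1⟩
    exact ⟨⟨g, hg⟩, h1, rfl⟩

theorem RG_le : RG h 𝒴 ≤ H := fun _ hg => (mem_RG.1 hg).1

theorem cent_le_RG (hC : centralizer (V : Set G) ≤ H) : centralizer (V : Set G) ≤ RG h 𝒴 := fun g hg =>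
  mem_RG.2 ⟨hC hg, by
    rw [(pr_eq_one h).2 hg]
    exact one_mem _⟩

variable {hc : V ≤ centralizer (V : Set G)} {S : Subgroup G}

theorem mem_iff {w : MU hc} :
    w ∈ fx (MU hc) (im h S ⊓ RR 𝒴) ↔ val w ∈ centralizer ((S ⊓ RG h 𝒴 : Subgroup G) : Set G) := by
  rw [mem_centralizer_iff]
  constructor
  · intro hw t ht
    obtain ⟨htS, htR⟩ := ht
    obtain ⟨htH, ht'⟩ := mem_RG.1 htR
    have h1 := hw (pr h ⟨t, htH⟩) ⟨mem_im.2 ⟨⟨t, htH⟩, htS, rfl⟩, ht'⟩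
    have h2 : t * val w * t⁻¹ = val w := congrArg val h1
    rwa [mul_inv_eq_iff_eq_mul] at h2
  · rintro hw x ⟨hx, hxR⟩
    obtain ⟨a, haS, rfl⟩ := mem_im.1 hx
    have h1 := hw a ⟨haS, mem_RG.2 ⟨a.2, hxR⟩⟩
    apply val_inj
    rw [val_smul, h1, mul_inv_cancel_right]

theorem isPGroup_im (hS : IsPGroup 2 S) : IsPGroup 2 (im h S) := by
  rintro ⟨x, hx⟩
  obtain ⟨a, haS, rfl⟩ := mem_im.1 hx
  obtain ⟨k, hk⟩ := hS ⟨a, haS⟩
  refine ⟨k, Subtype.ext ?_⟩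
  change (pr h a) ^ 2 ^ k = 1
  have hk' : (a : G) ^ 2 ^ k = 1 := congrArg Subtype.val hk
  have h1 : a ^ 2 ^ k = 1 := Subtype.ext hk'
  rw [← map_pow, h1, map_one]

/-- **(P3) in `G`** -/
theorem inf_eq [Finite G] (f : Fam (MU hc) M 𝒴) (d : Dec (MU hc) 𝒴) (SH : S ≤ H) (hS : IsPGroup 2 S)
    (SM : im h S ≤ M) (syl : ¬ 2 ∣ (im h S).relIndex M) :
    S ⊓ centralizer ((V ⊓ centralizer ((S ⊓ RG h 𝒴 : Subgroup G) : Set G) : Subgroup G) : Set G) =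
      S ⊓ RG h 𝒴 := by
  apply le_antisymm
  · rintro s ⟨hs, hsC⟩
    refine ⟨hs, mem_RG.2 ⟨SH hs, ?_⟩⟩
    refine ((inf_RR f d SM (isPGroup_im hS) syl).2 ⟨mem_im.2 ⟨⟨s, SH hs⟩, hs, rfl⟩, fun w hw => ?_⟩).2
    have h1 := mem_iff.1 hw
    have h2 := mem_centralizer_iff.1 hsC (val w) ⟨val_mem w, h1⟩
    apply val_inj
    rw [val_smul]
    change s * val w * s⁻¹ = val w
    rw [← h2, mul_inv_cancel_right]
  · intro s hs
    refine ⟨hs.1, mem_centralizer_iff.2 fun v hv => ?_⟩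
    exact (mem_centralizer_iff.1 hv.2 s hs).symm

/-- a 2-element of `H` with image in `M` which centralises `Z₁` lies in `R` -/
theorem mem_of_two [Finite G] (f : Fam (MU hc) M 𝒴) (d : Dec (MU hc) 𝒴) (hS : IsPGroup 2 S)
    (syl : ¬ 2 ∣ (im h S).relIndex M) {s : G} (hs : s ∈ H) (hsM : pr h ⟨s, hs⟩ ∈ M) {j : ℕ} (hj : s ^ 2 ^ j = 1)
    (hsC : s ∈ centralizer ((V ⊓ centralizer ((S ⊓ RG h 𝒴 : Subgroup G) : Set G) : Subgroup G) : Set G)) :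
    s ∈ RG h 𝒴 := by
  refine mem_RG.2 ⟨hs, two_mem f d (isPGroup_im hS) syl hsM (fun w hw => ?_) (j := j) ?_⟩
  · have h1 := mem_iff.1 hw
    have h2 := mem_centralizer_iff.1 hsC (val w) ⟨val_mem w, h1⟩
    apply val_inj
    rw [val_smul]
    change s * val w * s⁻¹ = val w
    rw [← h2, mul_inv_cancel_right]
  · have h1 : (⟨s, hs⟩ : H) ^ 2 ^ j = 1 := Subtype.ext hj
    rw [← map_pow, h1, map_one]

end Cfsg.Agent.Omega.NO3b.BasePt.PThree
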