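import Cfsg.Agent.Omega.NO3b.BasePt.BlkOne
import Cfsg.Agent.Omega.NO3b.Exit.TightDat

/-!
# Two panels (NotFFG, base point, (B1); helper25, helper957): the core

`Ya ≤ Ka`, `Yb ≤ Kb` blocks on `V`, `Ka ≤ Kb` normal in `M`, `O₂(M) = 1`.

* `pair_core` : if `Ya` moves `[W, Yb]` then `Ya = Yb`;
* `pair_triv` : if all conjugates of `Ya` centralise `[W, Yb]` then all conjugates of `Yb` centralise `[W, Ya]`.
-/

set_option autoImplicit false

namespace Cfsg.Agent.Omega.NO3b.BasePt.Pr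

open Subgroup
open Cfsg.Agent.Omega.NO3b.Exit Cfsg.Agent.Omega.NO3b.Exit.Ten Cfsg.Agent.Omega.NO3b.Exit.Descent
open Cfsg.Agent.Omega.NO3b.Exit.TDat (Red)
open Cfsg.Agent.Omega.NO3b.OneR (exists_dual_one)
open Cfsg.Agent.Omega.FF.Basic (fx)
open scoped Pointwise

universe u v w

variable {Γ : Type u} [Group Γ] {W : Type v} [AddCommGroup W] [DistribMulAction Γ W]

theorem br_mem_cm {Y : Subgroup Γ} {y : Γ} (hy : y ∈ Y) (w : W) : y • w - w ∈ cm W Y :=
  AddSubgroup.subset_closure ⟨y, hy, w, rfl⟩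

theorem smul_cm {Y : Subgroup Γ} {y : Γ} (hy : y ∈ Y) {v : W} (hv : v ∈ cm W Y) : y • v ∈ cm W Y := by
  have e : y • v = (y • v - v) + v := by abel
  rw [e]
  exact add_mem (br_mem_cm hy v) hv

/-- an element of a normal subgroup `K` of `M` trivial on `V` and `W / V` is trivial if `O₂(M) = 1` -/
theorem eq_one_of_red [Finite Γ] {M K : Subgroup Γ} (faith : ∀ g : Γ, (∀ w : W, g • w = w) → g = 1)
    (two : ∀ w : W, w + w = 0) (red : Red M (⊤ : AddSubgroup W)) (KM : K ≤ M)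
    (nK : ∀ m ∈ M, ∀ k ∈ K, m * k * m⁻¹ ∈ K) {V : AddSubgroup W} (KV : ∀ k ∈ K, ∀ v ∈ V, k • v ∈ V) {k : Γ}
    (hk : k ∈ K) (h1 : ∀ v ∈ V, k • v = v) (h2 : ∀ w : W, k • w - w ∈ V) : k = 1 := by
  have hred : Red K (⊤ : AddSubgroup W) := red.normal (fun _ _ _ _ => trivial) KM nK
  let N : Subgroup Γ :=
    { carrier := {g | g ∈ K ∧ (∀ v ∈ V, g • v = v) ∧ ∀ w : W, g • w - w ∈ V}
      one_mem' := ⟨one_mem _, fun v _ => one_smul _ v, fun w => by rw [one_smul, sub_self]; exact zero_mem _⟩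
      mul_mem' := by
        rintro a b ⟨ha, ha1, ha2⟩ ⟨hb, hb1, hb2⟩
        refine ⟨mul_mem ha hb, fun v hv => by rw [mul_smul, hb1 v hv, ha1 v hv], fun w => ?_⟩
        have e : (a * b) • w - w = a • (b • w - w) + (a • w - w) := by rw [mul_smul, smul_sub]; abel
        rw [e, ha1 _ (hb2 w)]
        exact add_mem (hb2 w) (ha2 w)
      inv_mem' := by
        rintro a ⟨ha, ha1, ha2⟩
        have h3 : ∀ v ∈ V, a⁻¹ • v = v := fun v hv => by rw [inv_smul_eq_iff, ha1 v hv]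
        refine ⟨inv_mem ha, h3, fun w => ?_⟩
        have e : a⁻¹ • w - w = - (a⁻¹ • (a • w - w)) := by rw [smul_sub, inv_smul_smul]; abel
        rw [e, h3 _ (ha2 w)]
        exact neg_mem (ha2 w) }
  refine faith k fun w => hred N (fun g hg => hg.1) ?_ ?_ k ⟨hk, h1, h2⟩ w trivial
  · rintro g hg n ⟨hn, hn1, hn2⟩
    refine ⟨mul_mem (mul_mem hg hn) (inv_mem hg), fun v hv => ?_, fun w => ?_⟩
    · rw [mul_smul, mul_smul, hn1 _ (KV _ (inv_mem hg) v hv), smul_inv_smul]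
    · have e : (g * n * g⁻¹) • w - w = g • (n • (g⁻¹ • w) - g⁻¹ • w) := by
        rw [smul_sub, smul_inv_smul, mul_smul, mul_smul]
      rw [e]
      exact KV g hg _ (hn2 _)
  · rintro n ⟨hn, hn1, hn2⟩
    refine ⟨1, fun w _ => ?_⟩
    have e : n ^ 2 ^ 1 • w = w + ((n • w - w) + (n • w - w)) := by
      have e1 : n • (n • w) = n • (n • w - w) + n • w := by rw [smul_sub]; abel
      rw [pow_one, sq, mul_smul, e1, hn1 _ (hn2 w)]
      abel
    rw [e, two, add_zero]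

section

variable {Y : Subgroup Γ} {A : Type w} [AddCommGroup A] [Finite A] [DistribMulAction Y A] [hI : IsIrr Y A]

theorem exists_hom_ne (dE : 2 ≤ Module.finrank (KK Y A) (HomY Y A W)) : ∃ f : HomY Y A W, f ≠ 0 := by
  by_contra hcon
  push Not at hcon
  have : Subsingleton (HomY Y A W) := ⟨fun a b => by rw [hcon a, hcon b]⟩
  rw [Module.finrank_zero_of_subsingleton] at dE
  omega

/-- `y ∈ Y` acts as `θ ⊗ 1` -/
theorem exists_actY {y : Γ} (hy : y ∈ Y) : ∃ θ : A →ₗ[KK Y A] A, Ac W y θ :=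
  ⟨{ toFun := fun a => (⟨y, hy⟩ : Y) • a, map_add' := fun _ _ => smul_add _ _ _,
     map_smul' := fun _ _ => (KK.smul_smul_comm _ _ _).symm }, fun f a => (f.2 ⟨y, hy⟩ a).symm⟩

/-- `k`, `l` acting in the same way on `A` agree on `img` -/
theorem eq_on {k l : Γ} {θ η : A →ₗ[KK Y A] A} (hk : Ac W k θ) (hl : Ac W l η) (h : ∀ a, θ a = η a) {v : W}
    (hv : v ∈ img Y A W) : k • v = l • v := by
  induction hv using AddSubgroup.closure_induction with
  | mem v hv =>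
    obtain ⟨f, a, rfl⟩ := hv
    rw [hk, hl, h]
  | zero => rw [smul_zero, smul_zero]
  | add a b _ _ ha hb => rw [smul_add, smul_add, ha, hb]
  | neg a _ ha => rw [smul_neg, smul_neg, ha]

/-- an involution acting as `θ ⊗ 1` acts like an element of `N`, if `N` induces all transvections -/
theorem exists_of_invol (two : ∀ a : A, a + a = 0) (hE : ∃ f : HomY Y A W, f ≠ 0) {N : Subgroup Γ} (hN : AllT W N Y A)
    {k : Γ} {θ : A →ₗ[KK Y A] A} (hk : Ac W k θ) (h2 : k * k = 1) :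
    ∃ n ∈ N, Ac W n θ ∧ ∀ v ∈ img Y A W, k • v = n • v := by
  obtain ⟨f, hf⟩ := hE
  have hθ : ∀ a, θ (θ a) = a := fun a => HomY.inj hf (by rw [← hk, ← hk, smul_smul, h2, one_smul])
  obtain ⟨n, hn, h3⟩ := prod_tv hN (θ - LinearMap.id) (fun x => by
    rw [LinearMap.sub_apply, LinearMap.sub_apply, map_sub, hθ, LinearMap.id_apply, LinearMap.id_apply]
    have e : x - θ x - (θ x - x) = (x + x) - (θ x + θ x) := by abel
    rw [e, two, two, sub_zero])
  have h4 : Ac W n θ := h3.congr fun a => by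
    rw [LinearMap.add_apply, LinearMap.sub_apply, LinearMap.id_apply]; abel
  exact ⟨n, hn, h4, fun v hv => eq_on hk h4 (fun _ => rfl) hv⟩

end

section core

variable [Finite Γ] [Finite W] {M : Subgroup Γ} {Fa Fb : AddSubgroup W} {Ya Ka Yb Kb : Subgroup Γ}

omit [Finite Γ] [Finite W] in
theorem pb_KV {F : AddSubgroup W} {Y K : Subgroup Γ} (p : PB W M F Y K) : ∀ k ∈ K, ∀ v ∈ cm W Y, k • v ∈ cm W Y := by
  intro k hk v hv
  rw [← p.stab k hk]
  exact AddSubgroup.smul_mem_pointwise_smul _ _ _ hv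

/-- **The core.** -/
theorem pair_core (faith : ∀ g : Γ, (∀ w : W, g • w = w) → g = 1) (two : ∀ w : W, w + w = 0)
    (red : Red M (⊤ : AddSubgroup W)) (pa : PB W M Fa Ya Ka) (pb : PB W M Fb Yb Kb) (hK : Ka ≤ Kb)
    (hne : ∃ y ∈ Ya, ∃ v ∈ cm W Yb, y • v ≠ v) : Ya = Yb := by
  classical
  obtain ⟨A, _, _, _, hIA, tvA, twoA, hVA, dA, dEA⟩ := pa.blk.ex
  obtain ⟨B, _, _, _, hIB, tvB, twoB, hVB, dB, dEB⟩ := pb.blk.ex
  have hEA := exists_hom_ne dEA
  have hEB := exists_hom_ne dEB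
  have actA : ∀ k ∈ Ka, ∃ θ : A →ₗ[KK Ya A] A, Ac W k θ := fun k hk =>
    exists_act hVA hEA ((pb_KV pa) k hk) (pa.lin k hk)
  have actB : ∀ k ∈ Kb, ∃ θ : B →ₗ[KK Yb B] B, Ac W k θ := fun k hk =>
    exists_act hVB hEB ((pb_KV pb) k hk) (pb.lin k hk)
  have hYaKb : Ya ≤ Kb := pa.YK.trans hK
  -- an involution
  obtain ⟨t, htY, ht2, v₀, hv₀, htv⟩ : ∃ t ∈ Ya, t * t = 1 ∧ ∃ v ∈ cm W Yb, t • v ≠ v := by
    by_contra hcon
    push Not at hcon
    obtain ⟨y, hy, v, hv, hne⟩ := hne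
    apply hne
    have h1 := pa.blk.gen hy
    clear hy hne
    induction h1 using closure_induction with
    | mem x hx => exact hcon x hx.1 hx.2 v hv
    | one => exact one_smul _ _
    | mul a b _ _ ha hb => rw [mul_smul, hb, ha]
    | inv a _ ha => rw [inv_smul_eq_iff, ha]
  obtain ⟨θt, hθt⟩ := actB t (hYaKb htY)
  obtain ⟨fB, hfB⟩ := hEB
  have hKb : AllT W Ka Yb B := by
    refine ns twoB tvB (fun y hy n hn => pa.nK y (pb.KM (pb.YK hy)) n hn) (pa.YK htY) hθt ?_ ?_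
    · exact fun a => HomY.inj hfB (by rw [← hθt, ← hθt, smul_smul, ht2, one_smul])
    · by_contra hcon
      push Not at hcon
      apply htv
      rw [hVB] at hv₀
      have h1 : Ac W (1 : Γ) (LinearMap.id : B →ₗ[KK Yb B] B) := fun f a => by rw [one_smul]; rfl
      have h2 := eq_on hθt h1 hcon hv₀
      rwa [one_smul] at h2
  have hKa : AllT W Ka Ya A := (allT_self tvA).mono pa.YK
  -- `V_a ∩ V_b ≠ 0`
  have hKXa : ∀ n ∈ Ka, ∀ x ∈ cm W Ya ⊓ cm W Yb, n • x ∈ cm W Ya ⊓ cm W Yb := fun n hn x hx =>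
    ⟨(pb_KV pa) n hn x hx.1, (pb_KV pb) n (hK hn) x hx.2⟩
  have hw : t • v₀ - v₀ ∈ cm W Ya ⊓ cm W Yb :=
    ⟨br_mem_cm htY v₀, (cm W Yb).sub_mem ((pb_KV pb) t (hYaKb htY) v₀ hv₀) hv₀⟩
  obtain ⟨f, hf, hfX⟩ := exists_sub dB hKb hKXa hw (by rw [← hVB]; exact hw.2) (sub_ne_zero.2 htv)
  have hKf : ∀ n ∈ Ka, ∀ x ∈ (f : B →+ W).range, n • x ∈ (f : B →+ W).range := by
    rintro n hn _ ⟨b, rfl⟩
    obtain ⟨η, hη⟩ := actB n (hK hn)
    exact ⟨η b, (hη f b).symm⟩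
  obtain ⟨b₁, hb₁⟩ := hIB.ne
  obtain ⟨g, hg, hgf⟩ := exists_sub dA hKa hKf (w := (f : B →+ W) b₁) ⟨b₁, rfl⟩
    (by rw [← hVA]; exact (hfX b₁).1) (fun h0 => hb₁ (HomY.inj hf (h0.trans (map_zero _).symm)))
  -- `τ`
  have hτ : ∀ a : A, ∃ b : B, (f : B →+ W) b = (g : A →+ W) a := fun a => hgf a
  choose τ hτ using hτ
  have hτ0 : ∀ a, a ≠ 0 → τ a ≠ 0 := fun a ha h0 => ha (HomY.inj hg (by rw [← hτ, h0, map_zero, map_zero]))
  have hτa : ∀ a a', τ (a + a') = τ a + τ a' := fun a a' => HomY.inj hf (by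
    rw [hτ, map_add, map_add, hτ, hτ])
  have hτs : ∀ b : B, ∃ a : A, τ a = b := by
    obtain ⟨a₁, ha₁⟩ := hIA.ne
    intro b
    have h1 : ∀ b : B, b ∈ ((g : A →+ W).range.comap (f : B →+ W)) := by
      refine irr_tv dB (fun ψ c hc x hx => ?_) (a := τ a₁) (show (f : B →+ W) (τ a₁) ∈ (g : A →+ W).range from
        ⟨a₁, (hτ a₁).symm⟩) (hτ0 a₁ ha₁)
      obtain ⟨n, hn, hn'⟩ := hKb ψ c hc
      obtain ⟨a, ha⟩ := hx
      obtain ⟨θ, hθ⟩ := actA n hn
      change (f : B →+ W) (ψ x • c) ∈ (g : A →+ W).range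
      have e : (f : B →+ W) (ψ x • c) = n • (f : B →+ W) x - (f : B →+ W) x := by
        rw [hn', tm_apply, map_add]; abel
      rw [e, ← ha, hθ, ← map_sub]
      exact ⟨_, rfl⟩
    obtain ⟨a, ha⟩ := h1 b
    exact ⟨a, HomY.inj hf (by rw [hτ, ha])⟩
  -- `τ` intertwines `Ka`
  have hτK : ∀ n ∈ Ka, ∀ {θ : A →ₗ[KK Ya A] A} {η : B →ₗ[KK Yb B] B}, Ac W n θ → Ac W n η → ∀ a, η (τ a) = τ (θ a) := by
    intro n _ θ η h1 h2 a
    apply HomY.inj hf
    rw [← h2, hτ, hτ, h1]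
  -- `V_b ≤ V_a`
  have hba : cm W Yb ≤ cm W Ya := by
    rw [hVB]
    refine (AddSubgroup.closure_le _).2 ?_
    rintro _ ⟨h, b, rfl⟩
    obtain ⟨a, rfl⟩ := hτs b
    have hh : ∀ (y : Ya) (a : A), (h : B →+ W) (τ (y • a)) = y • (h : B →+ W) (τ a) := by
      intro y a
      obtain ⟨η, hη⟩ := actB y (hYaKb y.2)
      have h1 : η (τ a) = τ (y • a) := HomY.inj hf (by rw [← hη, hτ, hτ, g.2]; rfl)
      rw [← h1]
      exact (hη h (τ a)).symm
    let h' : HomY Ya A W := ⟨AddMonoidHom.mk' (fun a => (h : B →+ W) (τ a)) fun a a' => by rw [hτa, map_add], hh⟩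
    have e : (h : B →+ W) (τ a) = (h' : A →+ W) a := rfl
    change (h : B →+ W) (τ a) ∈ cm W Ya
    rw [e, hVA]
    exact mem_img h' a
  -- `V_a ≤ V_b`
  have hab : cm W Ya ≤ cm W Yb := by
    by_contra hcon
    obtain ⟨g', a', hg'⟩ : ∃ (g' : HomY Ya A W) (a : A), (g' : A →+ W) a ∉ cm W Yb := by
      by_contra h0
      push Not at h0
      apply hcon
      rw [hVA]
      refine (AddSubgroup.closure_le _).2 ?_
      rintro _ ⟨h, a, rfl⟩
      exact h0 h a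
    have hno : ∀ x : A, (g' : A →+ W) x ∈ cm W Yb → x = 0 := by
      intro x hx
      by_contra hx0
      apply hg'
      refine (irr_tv dA (B := (cm W Yb).comap (g' : A →+ W)) (fun ψ c hc x hx => ?_) (a := x) hx hx0 a' :
        a' ∈ (cm W Yb).comap (g' : A →+ W))
      obtain ⟨n, hn, hn'⟩ := hKa ψ c hc
      change (g' : A →+ W) (ψ x • c) ∈ cm W Yb
      have e : (g' : A →+ W) (ψ x • c) = n • (g' : A →+ W) x - (g' : A →+ W) x := by
        rw [hn', tm_apply, map_add]; abel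
      rw [e]
      exact (cm W Yb).sub_mem ((pb_KV pb) n (hK hn) _ hx) hx
    -- `Yb` commutes with `Ka` on `V_b`
    have hcomm : ∀ y ∈ Yb, ∀ n ∈ Ka, ∀ v ∈ cm W Yb, y • n • v = n • y • v := by
      intro y hy n hn v hv
      have hn' : y * n * y⁻¹ ∈ Ka := pa.nK y (pb.KM (pb.YK hy)) n hn
      obtain ⟨θ, hθ⟩ := actA n hn
      obtain ⟨θ', hθ'⟩ := actA _ hn'
      obtain ⟨η, hη⟩ := actB n (hK hn)
      obtain ⟨η', hη'⟩ := actB _ (hK hn')
      have h1 : ∀ x, θ x = θ' x := by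
        intro x
        rw [← sub_eq_zero]
        apply hno
        have h2 : y • n • (g' : A →+ W) x = (y * n * y⁻¹) • y • (g' : A →+ W) x := by
          rw [smul_smul, smul_smul, inv_mul_cancel_right]
        have h3 : y • (g' : A →+ W) x = (g' : A →+ W) x + (y • (g' : A →+ W) x - (g' : A →+ W) x) := by abel
        rw [hθ, h3, smul_add, hθ'] at h2
        have h4 : (g' : A →+ W) (θ x - θ' x) =
            (y * n * y⁻¹) • (y • (g' : A →+ W) x - (g' : A →+ W) x) - (y • (g' : A →+ W) (θ x) - (g' : A →+ W) (θ x)) := by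
          rw [h2, map_sub]; abel
        rw [h4]
        exact (cm W Yb).sub_mem ((pb_KV pb) _ (hK hn') _ (br_mem_cm hy _)) (br_mem_cm hy _)
      have h5 : ∀ b, η b = η' b := by
        intro b
        obtain ⟨a, rfl⟩ := hτs b
        rw [hτK n hn hθ hη, hτK _ hn' hθ' hη', h1]
      have h6 := eq_on hη hη' h5 (v := y • v) (by rw [← hVB]; exact smul_cm hy hv)
      rw [h6, smul_smul, smul_smul, inv_mul_cancel_right]
    -- two transvections which do not commute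
    obtain ⟨c, hc0⟩ := hIB.ne
    obtain ⟨b₀, hb₀⟩ := exists_indep dB c
    have hb₀0 : b₀ ≠ 0 := fun h => hb₀ 0 (by rw [zero_smul, h])
    obtain ⟨φ, hφ1, hφ2⟩ := exists_dual_one (K := KK Yb B) (a := b₀) (b := c) (fun κ e => by
      have hκ : κ ≠ 0 := by
        rintro rfl
        rw [zero_smul] at e
        exact hc0 e.symm
      exact hb₀ κ⁻¹ (by rw [← e, smul_smul, inv_mul_cancel₀ hκ, one_smul])) hb₀0
    obtain ⟨χ, hχ1, hχ2⟩ := exists_dual_one (K := KK Yb B) (a := c) (b := b₀) hb₀ hc0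
    obtain ⟨n, hn, hn'⟩ := hKb φ c hφ2
    obtain ⟨y, hy, hy'⟩ := (allT_self (W := W) tvB) χ b₀ hχ2
    have h1 := hcomm y hy n hn ((f : B →+ W) b₀) (hfX b₀).2
    have e1 : tm φ c b₀ = b₀ + c := by rw [tm_apply, hφ1, one_smul]
    have e2 : tm χ b₀ (b₀ + c) = c := by
      rw [tm_apply, map_add, hχ2, hχ1, zero_add, one_smul]
      calc b₀ + c + b₀ = c + (b₀ + b₀) := by abel
        _ = c := by rw [twoB, add_zero]
    have e3 : tm χ b₀ b₀ = b₀ := by rw [tm_apply, hχ2, zero_smul, add_zero]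
    rw [hn', hy', hy', hn', e1, e2, e3, e1] at h1
    have h2 := HomY.inj hf h1
    exact hb₀0 (right_eq_add.1 h2)
  have hVab : cm W Ya = cm W Yb := le_antisymm hab hba
  -- elements of `Ya`, `Yb` which agree on `V`
  have heq : ∀ x ∈ Ya, ∀ y ∈ Yb, (∀ v ∈ cm W Yb, y • v = x • v) → x = y := by
    intro x hx y hy h
    have h1 : x⁻¹ * y = 1 := by
      refine eq_one_of_red faith two red pb.KM pb.nK (pb_KV pb) (mul_mem (inv_mem (hYaKb hx)) (pb.YK hy)) ?_ ?_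
      · intro v hv
        rw [mul_smul, h v hv, inv_smul_smul]
      · intro w
        have e : (x⁻¹ * y) • w - w = x⁻¹ • (y • w - w) + (x⁻¹ • w - w) := by rw [mul_smul, smul_sub]; abel
        rw [e]
        refine add_mem ((pb_KV pb) _ (inv_mem (hYaKb hx)) _ (br_mem_cm hy w)) ?_
        rw [← hVab]
        exact br_mem_cm (inv_mem hx) w
    exact inv_mul_eq_one.1 h1
  refine le_antisymm ?_ ?_
  · refine pa.blk.gen.trans ((closure_le _).2 ?_)
    rintro x ⟨hx, hx2⟩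
    obtain ⟨η, hη⟩ := actB x (hYaKb hx)
    obtain ⟨y, hy, -, h1⟩ := exists_of_invol twoB ⟨fB, hfB⟩ (allT_self tvB) hη hx2
    have h2 := heq x hx y hy fun v hv => by
      rw [hVB] at hv
      exact (h1 v hv).symm
    rw [h2]
    exact hy
  · refine pb.blk.gen.trans ((closure_le _).2 ?_)
    rintro y ⟨hy, hy2⟩
    obtain ⟨η, hη⟩ := actB y (pb.YK hy)
    obtain ⟨n, hn, -, h1⟩ := exists_of_invol twoB ⟨fB, hfB⟩ hKb hη hy2
    rw [← hVB] at h1
    obtain ⟨θ, hθ⟩ := exists_act (k := y) hVA hEA (fun v hv => by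
      rw [hVab] at hv ⊢
      exact smul_cm hy hv) (fun e he v v' h => by
        have h2 : (v' : W) = n • (v : W) := by rw [h, h1 v (hVab ▸ v.2)]
        have h3 := pa.lin n hn e he v v' h2
        rw [h3, h1 _ (hVab ▸ (e v).2)])
    obtain ⟨x, hx, -, h2⟩ := exists_of_invol twoA hEA (allT_self tvA) hθ hy2
    have h3 := heq x hx y hy fun v hv => by
      rw [← hVab, hVA] at hv
      exact h2 v hv
    rw [← h3]
    exact hx

omit [Finite Γ] in
/-- **The disjoint case.** -/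
theorem pair_triv (pa : PB W M Fa Ya Ka) (hYM : Yb ≤ M)
    (h : ∀ m ∈ M, ∀ y ∈ Ya, ∀ v ∈ m • cm W Yb, y • v = v) : ∀ m ∈ M, ∀ y ∈ Yb, ∀ v ∈ m • cm W Ya, y • v = v := by
  obtain ⟨A, _, _, _, hIA, tvA, twoA, hVA, dA, dEA⟩ := pa.blk.ex
  have hsm : ∀ (m : Γ) (X : AddSubgroup W) (v : W), v ∈ m • X ↔ m⁻¹ • v ∈ X := fun m X v =>
    AddSubgroup.mem_pointwise_smul_iff_inv_smul_mem
  -- conjugates of `Ya` centralise `V_b`
  have h' : ∀ m ∈ M, ∀ y ∈ Ya, ∀ v ∈ cm W Yb, (m * y * m⁻¹) • v = v := by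
    intro m hm y hy v hv
    have h1 := h m⁻¹ (inv_mem hm) y hy (m⁻¹ • v) ((hsm _ _ _).2 (by rwa [inv_inv, smul_inv_smul]))
    rw [mul_smul, mul_smul, h1, smul_inv_smul]
  intro m hm y hy v hv
  have hv' := (hsm _ _ _).1 hv
  -- `y m V_a = m V_a`
  have hst : (m⁻¹ * y * m) • cm W Ya = cm W Ya := by
    by_contra hcon
    have hmM : m⁻¹ * y * m ∈ M := mul_mem (mul_mem (inv_mem hm) (hYM hy)) hm
    -- `m Ya m⁻¹` centralises `m V_a`
    have h2 : ∀ x ∈ Ya, ∀ u ∈ cm W Ya, x • u = u := by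
      intro x hx u hu
      have h3 := h' m hm x hx (y • m • u - m • u) (br_mem_cm hy _)
      have h4 : (m * x * m⁻¹) • (y • m • u) = y • m • u := by
        have h5 := pa.cen _ hmM hcon x hx ((m⁻¹ * y * m) • u) (AddSubgroup.smul_mem_pointwise_smul _ _ _ hu)
        have e : m⁻¹ • (y • m • u) = (m⁻¹ * y * m) • u := by rw [mul_smul, mul_smul]
        rw [mul_smul, mul_smul, e, h5, ← e, smul_inv_smul]
      rw [smul_sub, h4] at h3
      have h5 : (m * x * m⁻¹) • (m • u) = m • u := sub_right_injective h3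
      rw [mul_smul, inv_smul_smul, mul_smul] at h5
      exact smul_left_cancel m h5
    obtain ⟨f, hf⟩ := exists_hom_ne dEA
    obtain ⟨a, ha⟩ := hIA.ne
    have h6 : (f : A →+ W) a ∈ img Ya A W := mem_img f a
    have h7 := fix_eq_zero dA (allT_self tvA) h6 fun x hx => h2 x hx _ (by rw [hVA]; exact h6)
    exact ha (HomY.inj hf (h7.trans (map_zero _).symm))
  have h1 : m⁻¹ • (y • v - v) ∈ cm W Ya := by
    have e : m⁻¹ • (y • v - v) = (m⁻¹ * y * m) • (m⁻¹ • v) - m⁻¹ • v := by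
      rw [smul_sub, mul_smul, mul_smul, smul_inv_smul]
    rw [e]
    refine (cm W Ya).sub_mem ?_ hv'
    have h2 : (m⁻¹ * y * m) • (m⁻¹ • v) ∈ (m⁻¹ * y * m) • cm W Ya := AddSubgroup.smul_mem_pointwise_smul _ _ _ hv'
    rwa [hst] at h2
  have h2 : m⁻¹ • (y • v - v) = 0 := by
    rw [hVA] at h1
    refine fix_eq_zero dA (allT_self tvA) h1 fun x hx => ?_
    have h3 := h' m hm x hx (y • v - v) (br_mem_cm hy v)
    rw [mul_smul, mul_smul] at h3
    conv_rhs => rw [← h3]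
    rw [inv_smul_smul]
  have h3 : y • v - v = 0 := by rw [← smul_inv_smul m (y • v - v), h2, smul_zero]
  exact sub_eq_zero.1 h3

end core

end Cfsg.Agent.Omega.NO3b.BasePt.Pr
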