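import Cfsg.Agent.Omega.NO3b.BasePt.Pair

/-!
# Two panels: one orbit (NotFFG, base point, (B1); helper25)

* `IsBlk.conj`, `IsBlk.moves` : a block moves `[W, Y]`;
* **`PB.eq_of_cm`** : a conjugate of `Y` with the same block is `Y`;
* **`PB.triv_conj`** : different conjugates of `Y` centralise the blocks of each other.
-/

set_option autoImplicit false

namespace Cfsg.Agent.Omega.NO3b.BasePt

open Subgroup Pr
open Cfsg.Agent.Omega.NO3b.Exit Cfsg.Agent.Omega.NO3b.Exit.Ten Cfsg.Agent.Omega.NO3b.Exit.Descent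
open Cfsg.Agent.Omega.NO3b.Exit.TDat (Red)
open scoped Pointwise

universe u v

variable {Γ : Type u} [Group Γ] {W : Type v} [AddCommGroup W] [DistribMulAction Γ W]

theorem IsBlk.conj (m : Γ) {Y : Subgroup Γ} (h : IsBlk W Y) : IsBlk W (Y.map (MulAut.conj m).toMonoidHom) :=
  isBlk_conj h m

/-- a block moves `[W, Y]` -/
theorem IsBlk.moves [Finite W] {Y : Subgroup Γ} (h : IsBlk W Y) : ∃ y ∈ Y, ∃ v ∈ cm W Y, y • v ≠ v := by
  obtain ⟨A, _, _, _, hI, tv, two, hV, dA, dE⟩ := h.ex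
  obtain ⟨f, hf⟩ := exists_hom_ne dE
  by_contra hcon
  push Not at hcon
  -- every value of `f` is fixed by `Y`
  have h1 : ∀ a : A, (f : A →+ W) a = 0 := fun a =>
    fix_eq_zero dA (allT_self tv) (mem_img f a) fun y hy => hcon y hy _ (by rw [hV]; exact mem_img f a)
  obtain ⟨a, ha, -⟩ := exists_ker dA (0 : Module.Dual (KK Y A) A)
  exact hf (HomY.eq_zero (h1 a) ha)

theorem PB.eq_of_cm [Finite Γ] [Finite W] (faith : ∀ g : Γ, (∀ w : W, g • w = w) → g = 1)
    (two : ∀ w : W, w + w = 0) {M Y K : Subgroup Γ} {F : AddSubgroup W} (red : Red M (⊤ : AddSubgroup W))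
    (p : PB W M F Y K) {m : Γ} (hm : m ∈ M) (h : m • cm W Y = cm W Y) :
    Y.map (MulAut.conj m).toMonoidHom = Y := by
  refine pair_core faith two red (pb_conj p hm) p le_rfl ?_
  obtain ⟨y, hy, v, hv, hne⟩ := (isBlk_conj p.blk m).moves
  refine ⟨y, hy, v, ?_, hne⟩
  rwa [cm_cj, h] at hv

/-- different conjugates -/
theorem PB.triv_conj [Finite Γ] [Finite W] (faith : ∀ g : Γ, (∀ w : W, g • w = w) → g = 1)
    (two : ∀ w : W, w + w = 0) {M Y K : Subgroup Γ} {F : AddSubgroup W} (red : Red M (⊤ : AddSubgroup W))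
    (p : PB W M F Y K) {m : Γ} (hm : m ∈ M) (h : Y.map (MulAut.conj m).toMonoidHom ≠ Y) :
    ∀ y ∈ Y, ∀ v ∈ m • cm W Y, y • v = v :=
  p.cen m hm fun h1 => h (p.eq_of_cm faith two red hm h1)

end Cfsg.Agent.Omega.NO3b.BasePt
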