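import Cfsg.Agent.Omega.NO3b.BasePt.Def
import Cfsg.Agent.Omega.NO3b.Exit.LocBar

/-!
# NotFFG (NO-3L), the base point: `O₂(M) = 1` on `V` (helper957)

`Red M ⊤` (`TDat.Red`, `Exit/TightDat.lean`): a normal subgroup of `M` which acts on `W` as a 2-group acts trivially.

* `PB.red` : `k ∈ K`, trivial on `[W, Y]`, `[W, k] ≤ [W, Y]`: `k = 1`;
* `red_top` : `Red (im hN M₀) ⊤` on `MU hV`, from `S` Sylow in `M₀`, `V = ⟨Z^M₀⟩`, `Z ≤ C_V(S)`.
-/

set_option autoImplicit false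

namespace Cfsg.Agent.Omega.NO3b.BasePt

open Subgroup
open Cfsg.Agent.ZN.ChoiceSit (Syl)
open Cfsg.Agent.Omega.NO3b.Exit Cfsg.Agent.Omega.NO3b.Exit.Ten Cfsg.Agent.Omega.NO3b.Exit.Descent
open Cfsg.Agent.Omega.NO3b.Exit.TDat (Red)
open Cfsg.Agent.Omega.NO3b.Exit.Bridge
open Cfsg.Agent.Omega.FFBr (XX pr im)
open Cfsg.Agent.Omega.FF.Basic (fx)
open scoped Pointwise

universe u v

section

variable {Γ : Type u} [Group Γ] {W : Type v} [AddCommGroup W] [DistribMulAction Γ W]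

theorem smul_cm_sub {Y : Subgroup Γ} {y : Γ} (hy : y ∈ Y) (w : W) : y • w - w ∈ cm W Y :=
  AddSubgroup.subset_closure ⟨y, hy, w, rfl⟩

/-- `K` normalises `[W, Y]` -/
theorem PB.smul_mem {M : Subgroup Γ} {F : AddSubgroup W} {Y K : Subgroup Γ} (p : PB W M F Y K) {k : Γ} (hk : k ∈ K)
    {v : W} (hv : v ∈ cm W Y) : k • v ∈ cm W Y := by
  have h1 := AddSubgroup.smul_mem_pointwise_smul v k (cm W Y) hv
  rwa [p.stab k hk] at h1

/-- **`O₂(M) = 1` for one panel** -/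
theorem PB.red [Finite Γ] {M : Subgroup Γ} {F : AddSubgroup W} {Y K : Subgroup Γ} (p : PB W M F Y K)
    (hr : Red M (⊤ : AddSubgroup W)) (faith : ∀ g : Γ, (∀ w : W, g • w = w) → g = 1) (two : ∀ w : W, w + w = 0)
    {k : Γ} (hk : k ∈ K) (h1 : ∀ v ∈ cm W Y, k • v = v) (h2 : ∀ w : W, k • w - w ∈ cm W Y) : k = 1 := by
  have hK : Red K (⊤ : AddSubgroup W) := hr.normal (fun _ _ _ _ => trivial) p.KM p.nK
  let N : Subgroup Γ :=
    { carrier := {n | n ∈ K ∧ (∀ v ∈ cm W Y, n • v = v) ∧ ∀ w : W, n • w - w ∈ cm W Y}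
      one_mem' := ⟨one_mem _, fun v _ => one_smul _ v, fun w => by rw [one_smul, sub_self]; exact zero_mem _⟩
      mul_mem' := by
        rintro a b ⟨ha, ha1, ha2⟩ ⟨hb, hb1, hb2⟩
        refine ⟨mul_mem ha hb, fun v hv => by rw [mul_smul, hb1 v hv, ha1 v hv], fun w => ?_⟩
        have e : (a * b) • w - w = (a • (b • w) - b • w) + (b • w - w) := by rw [mul_smul]; abel
        rw [e]
        exact add_mem (ha2 _) (hb2 _)
      inv_mem' := by
        rintro a ⟨ha, ha1, ha2⟩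
        refine ⟨inv_mem ha, fun v hv => by rw [inv_smul_eq_iff, ha1 v hv], fun w => ?_⟩
        have e : a⁻¹ • w - w = -(a • (a⁻¹ • w) - a⁻¹ • w) := by rw [smul_inv_smul]; abel
        rw [e]
        exact neg_mem (ha2 _) }
  refine faith k fun w => hK N (fun n hn => hn.1) ?_ ?_ k ⟨hk, h1, h2⟩ w trivial
  · rintro g hg n ⟨hn, hn1, hn2⟩
    refine ⟨mul_mem (mul_mem hg hn) (inv_mem hg), fun v hv => ?_, fun w => ?_⟩
    · rw [mul_smul, mul_smul, hn1 _ (p.smul_mem (inv_mem hg) hv), smul_inv_smul]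
    · have e : (g * n * g⁻¹) • w - w = g • (n • (g⁻¹ • w) - g⁻¹ • w) := by
        rw [smul_sub, mul_smul, mul_smul, smul_inv_smul]
      rw [e]
      exact p.smul_mem hg (hn2 _)
  · rintro n ⟨hn, hn1, hn2⟩
    refine ⟨1, fun w _ => ?_⟩
    have e3 := hn1 _ (hn2 w)
    rw [smul_sub, sub_eq_sub_iff_add_eq_add, ← two_smul ℕ (n • w), two_smul, two] at e3
    rw [pow_one, pow_two, mul_smul]
    have e4 : n • n • w = -w := eq_neg_of_add_eq_zero_left e3
    rw [e4]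
    exact neg_eq_of_add_eq_zero_left (two w)

end

section

variable {G : Type u} [Group G] [Finite G] {V N M₀ S Z : Subgroup G} {hN : N ≤ normalizer (V : Set G)}
  {hV : V ≤ centralizer (V : Set G)}

/-- `O₂(M₀ / C(V)) = 1` -/
theorem red_top (hMN : M₀ ≤ N) (hS : Syl S M₀) (hZV : Z ≤ V) (hZ : S ≤ centralizer (Z : Set G))
    (hgen : ∀ W : Subgroup G, Z ≤ W → M₀ ≤ normalizer (W : Set G) → V ≤ W) :
    Red (im hN M₀) (⊤ : AddSubgroup (MU hV)) := by
  have h1 := LocBar.red_im (hc := hV) hN hMN hS le_rfl (hMN.trans hN) hZV hZ hgen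
  rwa [ad_U] at h1

end

end Cfsg.Agent.Omega.NO3b.BasePt
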