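import Cfsg.Agent.Omega.NO3b.BasePt.Main
import Cfsg.Agent.Omega.NO3b.EndX.Done

/-!
# NotFFG for a root `M` which is not generated by members of `P*(S)`

`NFRoot S M` : `S ≤ M`, `M` local, `C_S(V_M) ≤ O₂(M)`, `V_M = ⟨Z^M⟩ ≤ O₂(C_G(Z))` is not FF, `⟨M, C_G(Z)⟩` nonlocal.
`HypG` (`Merge.lean`) asks besides that `M` is generated by members of `P*(S)`; it is enough that some `M₁ ≤ M`
generated by members of `P*(S)` has `⟨M₁, C_G(Z)⟩` nonlocal.

* `exists_baseFlag` : the base flag;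
* **`false_of_root`** : such a root does not exist;
* **`false_of_all`** : `Full S`, `NFRoot S M` and `P ≤ M` for all `P ∈ P*(S)` is impossible (the case `PP₁ = ∅` of
  #24937 (3), #25573 (W-A)).
-/

set_option autoImplicit false

namespace Cfsg.Agent.Omega.NO3b.BasePt.RootG

open Subgroup Cfsg
open Cfsg.Agent.ZN (o2 zc zl)
open Cfsg.Agent.Omega.MinPar Cfsg.Agent.Omega.Frame Cfsg.Agent.Omega.FrameNOFF
open Cfsg.Agent.Omega.NO3b.Exit (VB)
open Cfsg.Agent.Omega.NOThreeL.MergeNF (NFRoot nonLoc_YS)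
open Cfsg.Agent.Omega.NOThreeL.HypGFrame (LocG exists_locG)
open Cfsg.Agent.Omega.NOThreeL.Star (YS)

universe u

variable {G : Type u} [Group G] [Finite G] {S : Sylow 2 G} {M M₁ : Subgroup G}

/-- **The base flag of a root.** -/
theorem exists_baseFlag (hG : Ctx G) (r : NFRoot (S : Subgroup G) M) (h1 : M₁ ≤ M)
    (gen : M₁ ≤ sSup {P : Subgroup G | IsParS (S : Subgroup G) P ∧ P ≤ M₁})
    (nonLoc : NonLoc M₁ (CZ (S : Subgroup G))) : ∃ S₁ Z₁ V₁ Lam : Subgroup G, BaseFlag S₁ Z₁ V₁ Lam := by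
  have hne := hG.sylow_ne_bot S
  obtain ⟨B, g⟩ := exists_locG hG.char2 hne r
  obtain ⟨H, h, hc, 𝒴, hBH, Fa, gas, fl⟩ := existsFam G S M B hG.char2 hne g
  exact ⟨_, _, _, _, baseFlag_of_fam g.adm.lines hBH Fa gas fl g.adm.cs
    (fun _ _ p => Base.exists_opt_of_locG g hG.char2 hne p) hG.char2 hne (h1.trans g.le) gen nonLoc⟩

/-- **There is no such root.** -/
theorem false_of_root (hG : Ctx G) (r : NFRoot (S : Subgroup G) M) (h1 : M₁ ≤ M)
    (gen : M₁ ≤ sSup {P : Subgroup G | IsParS (S : Subgroup G) P ∧ P ≤ M₁})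
    (nonLoc : NonLoc M₁ (CZ (S : Subgroup G))) : False := by
  obtain ⟨S₁, Z₁, V₁, Lam, f⟩ := exists_baseFlag hG r h1 gen nonLoc
  exact ExEnd.baseFlag_false hG ML.KnownAll.mlk EndX.absP f

/-- **A root which contains all of `P*(S)` does not exist.** -/
theorem false_of_all (hG : Ctx G) (hF : Full (S : Subgroup G)) (r : NFRoot (S : Subgroup G) M)
    (hall : ∀ P : Subgroup G, IsParS (S : Subgroup G) P → P ≤ M) : False := by
  have h1 : YS (S : Subgroup G) ≤ M := sSup_le fun P hP => hall P hP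
  refine false_of_root hG r h1 (sSup_le fun P hP => le_sSup ⟨hP, le_sSup hP⟩) (nonLoc_YS hG hF)

end Cfsg.Agent.Omega.NO3b.BasePt.RootG
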