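import Cfsg.Agent.Omega.NO3b.BasePt.TTwo

/-!
# NotFFG, the base point: the fixed points of `S` over a family of blocks (helper255, bb 23362)

`Fa : Fam W M 𝒴`, `gas`, `S ≤ M` a 2-group of odd index in `M`.

* `Fam.norm_RR` : `RR 𝒴` normalises every `Y ∈ 𝒴`; `Fam.odd_Y` : `S ∩ Y` has odd index in `Y`;
* `Fam.exists_comp` : every block carries a component `≠ 0` of some fixed point of `S`;
* **`Fam.fcl_fx`** : `fcl (C_W(S)) = C_W(S ∩ RR 𝒴)`.
-/

set_option autoImplicit false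
set_option linter.unusedSectionVars false

namespace Cfsg.Agent.Omega.NO3b.BasePt

open Subgroup
open Cfsg.Agent.Omega.NO3b.Exit Cfsg.Agent.Omega.NO3b.Exit.Ten Cfsg.Agent.Omega.NO3b.Exit.Descent
open Cfsg.Agent.Omega.NO3b.Exit.TBlk (Sn)
open Cfsg.Agent.Omega.NO3b.Exit.BlkZ (exists_of_sq sn_odd)
open Cfsg.Agent.Omega.FF.Basic (fx mem_fx)
open scoped Pointwise

universe u v w

variable {Γ : Type u} [Group Γ] {W : Type v} [AddCommGroup W] [DistribMulAction Γ W]

theorem IsBlk.exists_ne [Finite W] {Y : Subgroup Γ} (b : IsBlk W Y) : ∃ v ∈ cm W Y, v ≠ 0 := by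
  obtain ⟨A, _, _, _, _, htv, -, e, h2, h3⟩ := b.ex
  obtain ⟨y, a, ha⟩ := exists_move htv h2
  have : Nontrivial (HomY Y A W) := Module.nontrivial_of_finrank_pos (R := KK Y A) (by omega)
  obtain ⟨f, hf⟩ := _root_.exists_ne (0 : HomY Y A W)
  refine ⟨(f : A →+ W) (y • a - a), e ▸ mem_img f _, fun h0 => ha ?_⟩
  exact sub_eq_zero.1 (HomY.inj hf (h0.trans (map_zero _).symm))

namespace Fam

variable [Finite Γ] [Finite W] {M : Subgroup Γ} {𝒴 : Set (Subgroup Γ)} (Fa : Fam W M 𝒴)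
include Fa

/-- `RR` normalises every block group -/
theorem norm_RR {Y : Subgroup Γ} (hY : Y ∈ 𝒴) {r : Γ} (hr : r ∈ RR 𝒴) : Y.map (MulAut.conj r).toMonoidHom = Y := by
  by_contra hne
  obtain ⟨v, hv, hv0⟩ := (Fa.blk Y hY).exists_ne
  have h1 : r • v ∈ rst W 𝒴 Y := cm_le_rst (Fa.conj Y hY r (Fa.RR_le hr)) hne (smul_cm r hv)
  have h2 := Fa.indep hY (Fa.smul_cm_RR hr hY hv) h1
  exact hv0 (by rw [← inv_smul_smul r v, h2, smul_zero])

theorem sn {Y : Subgroup Γ} (hY : Y ∈ 𝒴) : Sn Y M := by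
  refine Sn.step (Sn.step (Sn.refl) (le_sSup hY : Y ≤ RR 𝒴) fun k hk n hn => ?_) Fa.RR_le fun k hk n hn =>
    Fa.RR_conj hk hn
  have h1 := Fa.norm_RR hY hk
  rw [← h1]
  exact ⟨n, hn, rfl⟩

variable {S : Subgroup Γ}

theorem odd_Y (syl : ¬ 2 ∣ S.relIndex M) {Y : Subgroup Γ} (hY : Y ∈ 𝒴) : ¬ 2 ∣ S.relIndex Y :=
  sn_odd (Fa.sn hY) syl

theorem smul_rst' {m : Γ} (hm : m ∈ M) {Y : Subgroup Γ} {v : W} (hv : v ∈ rst W 𝒴 Y) :
    m • v ∈ rst W 𝒴 (Y.map (MulAut.conj m).toMonoidHom) := by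
  induction hv using AddSubgroup.closure_induction with
  | mem v hv =>
    obtain ⟨Y', hY', hne, hv⟩ := hv
    exact AddSubgroup.subset_closure ⟨_, Fa.conj Y' hY' m hm,
      fun e => hne (Subgroup.map_injective (MulAut.conj m).injective e), smul_cm m hv⟩
  | zero => rw [smul_zero]; exact zero_mem _
  | add a b _ _ ha hb => rw [smul_add]; exact add_mem ha hb
  | neg a _ ha => rw [smul_neg]; exact neg_mem ha

/-- every block carries a component `≠ 0` of some fixed point of `S` -/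
theorem exists_comp (SM : S ≤ M) (S2 : IsPGroup 2 S) {Y : Subgroup Γ} (hY : Y ∈ 𝒴) :
    ∃ z ∈ sm W 𝒴, (∀ s ∈ S, s • z = z) ∧ z ∉ rst W 𝒴 Y := by
  let O : AddSubgroup W := AddSubgroup.closure {v | ∃ s ∈ S, v ∈ cm W (Y.map (MulAut.conj s).toMonoidHom)}
  have hOsm : O ≤ sm W 𝒴 := (AddSubgroup.closure_le _).2 (by
    rintro v ⟨s, hs, hv⟩
    exact cm_le_sm (Fa.conj Y hY s (SM hs)) hv)
  obtain ⟨z, hz, hz0, hzS⟩ := exists_fix S2 Fa.two (A := O) (fun s hs v hv => by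
      induction hv using AddSubgroup.closure_induction with
      | mem v hv =>
        obtain ⟨t, ht, hv⟩ := hv
        refine AddSubgroup.subset_closure ⟨s * t, mul_mem hs ht, ?_⟩
        have h1 := smul_cm s hv
        have e : (Y.map (MulAut.conj t).toMonoidHom).map (MulAut.conj s).toMonoidHom =
            Y.map (MulAut.conj (s * t)).toMonoidHom := by
          rw [Subgroup.map_map, map_mul]
          rfl
        rwa [e] at h1
      | zero => rw [smul_zero]; exact zero_mem _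
      | add a b _ _ ha hb => rw [smul_add]; exact add_mem ha hb
      | neg a _ ha => rw [smul_neg]; exact neg_mem ha) (by
    intro h0
    obtain ⟨v, hv, hv0⟩ := (Fa.blk Y hY).exists_ne
    have h1 : v ∈ O := AddSubgroup.subset_closure ⟨1, one_mem _, by
      have h2 := smul_cm (1 : Γ) hv
      rwa [one_smul] at h2⟩
    rw [h0, AddSubgroup.mem_bot] at h1
    exact hv0 h1)
  refine ⟨z, hOsm hz, hzS, fun h1 => hz0 (Fa.sep' (hOsm hz) fun Y' hY' => ?_)⟩
  by_cases hex : ∃ s ∈ S, Y.map (MulAut.conj s).toMonoidHom = Y'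
  · obtain ⟨s, hs, e⟩ := hex
    have h2 := Fa.smul_rst' (SM hs) h1
    rwa [hzS s hs, e] at h2
  · push Not at hex
    have h2 : O ≤ rst W 𝒴 Y' := (AddSubgroup.closure_le _).2 (by
      rintro v ⟨s, hs, hv⟩
      exact cm_le_rst (Fa.conj Y hY s (SM hs)) (hex s hs) hv)
    exact h2 hz

/-- **`fcl (C_W(S)) = C_W(S ∩ RR 𝒴)`** -/
theorem fcl_fx (gas : ∀ w : W, ∃ a ∈ sm W 𝒴, ∃ c : W, (∀ r ∈ RR 𝒴, r • c = c) ∧ w = a + c) (SM : S ≤ M)
    (S2 : IsPGroup 2 S) (syl : ¬ 2 ∣ S.relIndex M) {v : W} :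
    v ∈ fcl 𝒴 (fx W S) ↔ ∀ s ∈ S, s ∈ RR 𝒴 → s • v = v := by
  constructor
  · intro hv s hs hsR
    exact hv s hsR fun d hd => hd s hs
  intro hv r hr hrZ
  obtain ⟨a0, ha0, c, hc, rfl⟩ := gas v
  have h3 : r • a0 - a0 = 0 := by
    refine Fa.sep' (sub_mem (Fa.smul_sm_RR hr ha0) ha0) fun Y hY => ?_
    obtain ⟨a, ha, b, hb, rfl⟩ := sm_dec Y ha0
    have h4 : r • a = a := by
      obtain ⟨z, hz, hzS, hzn⟩ := Fa.exists_comp SM S2 hY
      obtain ⟨az, haz, bz, hbz, rfl⟩ := sm_dec Y hz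
      have haz0 : az ≠ 0 := by
        rintro rfl
        rw [zero_add] at hzn
        exact hzn hbz
      have hz0 : ∀ r' ∈ RR 𝒴, r' • (az + bz) = az + bz → r' • az = az := fun r' hr' h => by
        refine Fa.fix_comp gas hr' hY haz hbz (c := 0) (fun _ _ => smul_zero _) ?_
        rw [add_zero]
        exact h
      obtain ⟨A, _, _, _, _, htv, two, e, hd, hd'⟩ := (Fa.blk Y hY).ex
      have hT : ¬ 2 ∣ (S.subgroupOf Y).index := Fa.odd_Y syl hY
      have hT2 : IsPGroup 2 (S.subgroupOf Y) := S2.comap_of_injective _ (subtype_injective Y)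
      obtain ⟨n, -, hn0, hn⟩ := exists_fix (V := A) (H := Y) hT2 two (A := ⊤)
        (fun _ _ _ _ => trivial) (by
          intro h
          obtain ⟨y, a, ha⟩ := exists_move htv hd
          have h5 : ∀ x : A, x = 0 := fun x => by
            have h6 : x ∈ (⊤ : AddSubgroup A) := trivial
            rwa [h, AddSubgroup.mem_bot] at h6
          exact ha (by rw [h5 a, smul_zero]))
      rw [e] at ha haz
      obtain ⟨f, rfl⟩ := exists_of_fix htv two hT hn0 hn ha (fun t ht => by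
        have ht' : (t : Γ) ∈ S := mem_subgroupOf.1 ht
        have htR := Fa.mem_RR hY t.2
        exact Fa.fix_comp gas htR hY (by rw [e]; exact ha) hb hc (hv _ ht' htR))
      obtain ⟨f', rfl⟩ := exists_of_fix htv two hT hn0 hn haz (fun t ht => by
        have ht' : (t : Γ) ∈ S := mem_subgroupOf.1 ht
        exact hz0 _ (Fa.mem_RR hY t.2) (hzS _ ht'))
      have hf0 : f' ≠ 0 := by
        rintro rfl
        exact haz0 rfl
      obtain ⟨y, hy, hyr⟩ := Fa.RR_cm hr Y hY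
      have h5 := hz0 r hr (hrZ _ fun s hs => hzS s hs)
      rw [hyr _ (by rw [e]; exact haz)] at h5
      have h6 : (⟨y, hy⟩ : Y) • n = n := by
        apply HomY.inj hf0
        rw [f'.2]
        exact h5
      rw [hyr _ (by rw [e]; exact ha)]
      change (⟨y, hy⟩ : Y) • (f : A →+ W) n = _
      rw [← f.2, h6]
    have e2 : r • (a + b) - (a + b) = r • b - b := by
      rw [smul_add, h4]
      abel
    rw [e2]
    exact sub_mem (Fa.smul_rst_RR hr hb) hb
  rw [smul_add, hc r hr, sub_eq_zero.1 h3]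

end Fam

end Cfsg.Agent.Omega.NO3b.BasePt
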