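import Cfsg.Agent.Omega.NO3b.BasePt.Def
import Cfsg.Agent.Omega.NO3b.Exit.BlkBP

/-!
# NotFFG, the base point: LEMMA T2 over a family of blocks (helper255, bb 23362)

`Fa : Fam W M 𝒴` (helper957) and `gas` : `W = sm W 𝒴 + C_W(RR 𝒴)`.

* `sm W 𝒴 = Σ [W, Y]`, `rst W 𝒴 Y = Σ_{Y' ≠ Y} [W, Y']`; `Fam.sep`, `Fam.comp_ne`;
* `fcl 𝒴 D` : `C_W(C_{RR}(D))`; `bd 𝒴 D` : the sum of the blocks which are not contained in `fcl 𝒴 D`;
* **`Fam.tt`** : `t ∈ M`, `[W, t] ≤ D ≤ C_W(t)`: some `y ∈ RR 𝒴` is equal to `t` on `bd 𝒴 D` and trivial on `D`;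
* **`Fam.fcl_fx`** : `fcl (C_W(S)) = C_W(S ∩ RR 𝒴)`; `fcl_flat` : `fcl F = F` for `F = C_W(Q)`, `Q ≤ Y`.
-/

set_option autoImplicit false
set_option linter.unusedSectionVars false

namespace Cfsg.Agent.Omega.NO3b.BasePt

open Subgroup
open Cfsg.Agent.Omega.NO3b.Exit Cfsg.Agent.Omega.NO3b.Exit.Ten Cfsg.Agent.Omega.NO3b.Exit.Descent
open Cfsg.Agent.Omega.NO3b.Exit.TBlk (Sn)
open Cfsg.Agent.Omega.NO3b.Exit.BlkZ (exists_of_sq sn_odd)
open Cfsg.Agent.Omega.FF.Basic (fx mem_fx)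
open scoped Pointwise

universe u v w

section one

variable {Γ : Type u} [Group Γ] {W : Type v} [AddCommGroup W] [DistribMulAction Γ W]
variable {Y : Subgroup Γ} {A : Type w} [AddCommGroup A] [Finite A] [DistribMulAction Y A] [hI : IsIrr Y A]

theorem img_ind {P : W → Prop} (h0 : P 0) (hadd : ∀ a b, P a → P b → P (a + b)) (hneg : ∀ a, P a → P (-a))
    (hom : ∀ (f : HomY Y A W) (a : A), P ((f : A →+ W) a)) {v : W} (hv : v ∈ img Y A W) : P v := by
  induction hv using AddSubgroup.closure_induction with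
  | mem v hv =>
    obtain ⟨f, a, rfl⟩ := hv
    exact hom f a
  | zero => exact h0
  | add a b _ _ ha hb => exact hadd a b ha hb
  | neg a _ ha => exact hneg a ha

/-- One block: `t` normalises `Y`, `[A ⊗ E, t] ≤ X ≤ C(t)` and some `r ∈ Y` fixes `X` and moves `A`: `t` acts on
`A ⊗ E` as an element of `Y`. -/
theorem exists_blkT [Finite W] (htv : AllTv Y A) (hne : ∃ f : HomY Y A W, f ≠ 0) {t : Γ}
    (hn : ∀ k ∈ Y, t⁻¹ * k * t ∈ Y) {X : AddSubgroup W} (h1 : ∀ v ∈ img Y A W, t • v - v ∈ X)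
    (h2 : ∀ x ∈ X, t • x = x) {r : Y} (hrX : ∀ x ∈ X, r • x = x) (hrA : ∃ a : A, r • a ≠ a) :
    ∃ y : Y, ∀ v ∈ img Y A W, t • v = y • v := by
  classical
  obtain ⟨a0, ha0⟩ := hrA
  let tk : Y → Y := fun k => ⟨t⁻¹ * (k : Γ) * t, hn k k.2⟩
  have htk : ∀ (k : Y) (w : W), k • t • w = t • tk k • w := fun k w => by
    change (k : Γ) • t • w = t • (t⁻¹ * (k : Γ) * t) • w
    rw [smul_smul, smul_smul]
    congr 1
    group
  -- the lines
  have line : ∀ f : HomY Y A W, f ≠ 0 → ∀ a : A, ∃ a' : A, t • (f : A →+ W) a = (f : A →+ W) a' := by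
    intro f hf
    let N : AddSubgroup A :=
      { carrier := {a | ∃ a', t • (f : A →+ W) a' = (f : A →+ W) a}
        zero_mem' := ⟨0, by rw [map_zero, smul_zero]⟩
        add_mem' := by
          rintro a b ⟨a', ha⟩ ⟨b', hb⟩
          exact ⟨a' + b', by rw [map_add, smul_add, ha, hb, map_add]⟩
        neg_mem' := by
          rintro a ⟨a', ha⟩
          exact ⟨-a', by rw [map_neg, smul_neg, ha, map_neg]⟩ }
    have hN : N = ⊤ := by
      rcases hI.irr N (fun k n hn' => by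
        obtain ⟨n', hn'⟩ := hn'
        exact ⟨tk k • n', by rw [f.2, f.2, ← hn', htk]⟩) with h3 | h3
      · exfalso
        have h4 : r • a0 - a0 ∈ N := by
          refine ⟨tk r • a0 - a0, ?_⟩
          have h5 := hrX _ (h1 _ (mem_img f a0))
          rw [smul_sub, ← f.2, htk, ← f.2] at h5
          rw [map_sub, map_sub, smul_sub]
          exact sub_eq_sub_iff_sub_eq_sub.1 h5
        rw [h3, AddSubgroup.mem_bot, sub_eq_zero] at h4
        exact ha0 h4
      · exact h3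
    have h3 : ∀ a : A, ∃ a', t • (f : A →+ W) a' = (f : A →+ W) a := fun a => by
      have h4 : a ∈ N := by rw [hN]; trivial
      exact h4
    choose θ hθ using h3
    have hinj : Function.Injective θ := fun a b e => HomY.inj hf (by rw [← hθ a, ← hθ b, e])
    have hbij := Finite.injective_iff_bijective.1 hinj
    intro a
    obtain ⟨c, rfl⟩ := hbij.2 a
    exact ⟨c, hθ c⟩
  -- a fixed line
  obtain ⟨f, hf⟩ := hne
  choose g hg using line f hf
  have hfi := HomY.inj hf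
  have hgadd : ∀ a b, g (a + b) = g a + g b := fun a b => hfi (by rw [← hg, map_add, smul_add, hg, hg, map_add])
  have hginj : Function.Injective g := fun a b e => hfi (smul_left_cancel t (by rw [hg, hg, e]))
  have hgsurj := (Finite.injective_iff_bijective.1 hginj).2
  have hgr : ∀ a, r • (g a - a) = g a - a := by
    intro a
    apply hfi
    have h5 := hrX _ (h1 _ (mem_img f a))
    rw [hg, ← map_sub, ← f.2] at h5
    exact h5
  have hgk : ∀ (k : Y) (a : A), k • g a = g (tk k • a) := by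
    intro k a
    apply hfi
    rw [← hg, f.2, ← hg, htk, ← f.2]
  have hglin : ∀ (κ : KK Y A) (a : A), g (κ • a) = κ • g a := by
    intro κ
    have hgs := hgsurj
    choose gi hgi using hgs
    have hgi' : ∀ a, gi (g a) = a := fun a => hginj (hgi _)
    have hgiadd : ∀ a b, gi (a + b) = gi a + gi b := fun a b => hginj (by rw [hgi, hgadd, hgi, hgi])
    let κ' : KK Y A := KK.mk Y A
      (AddMonoidHom.mk' (fun a => g (κ • gi a)) fun a b => by rw [hgiadd, smul_add, hgadd]) (by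
        intro k a
        change g (κ • gi (k • a)) = k • g (κ • gi a)
        have h5 := hgk k (gi a)
        rw [hgi] at h5
        rw [h5, hgi', hgk, KK.smul_smul_comm])
    have hκ' : ∀ a, κ' • g a = g (κ • a) := fun a => by
      change g (κ • gi (g a)) = g (κ • a)
      rw [hgi']
    by_cases he : κ' = κ
    · intro a
      rw [← hκ', he]
    exfalso
    have h5 : ∀ a : A, r • ((κ' - κ) • g a) = (κ' - κ) • g a := by
      intro a
      have e : (κ' - κ) • g a = (g (κ • a) - κ • a) - κ • (g a - a) := by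
        rw [sub_smul, hκ', smul_sub]
        abel
      rw [e, smul_sub, hgr, ← KK.smul_smul_comm, hgr]
    have h6 : κ' - κ ≠ 0 := sub_ne_zero.2 he
    apply ha0
    obtain ⟨c, hc⟩ := hgsurj ((κ' - κ)⁻¹ • a0)
    have h7 := h5 c
    rw [hc, smul_smul, mul_inv_cancel₀ h6, one_smul] at h7
    exact h7
  let gl : A →ₗ[KK Y A] A :=
    { toFun := g
      map_add' := hgadd
      map_smul' := fun κ a => by rw [RingHom.id_apply]; exact hglin κ a }
  have all : ∀ (f' : HomY Y A W) (a : A), t • (f' : A →+ W) a = (f' : A →+ W) (g a) := by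
    intro f' a
    by_cases hf' : ∃ κ : KK Y A, f' = κ • f
    · obtain ⟨κ, rfl⟩ := hf'
      rw [HomY.smul_apply, HomY.smul_apply, hg, hglin]
    have hf'0 : f' ≠ 0 := by
      rintro rfl
      exact hf' ⟨0, by rw [zero_smul]⟩
    have hsum0 : f + f' ≠ 0 := by
      intro e
      apply hf'
      refine ⟨-1, ?_⟩
      rw [neg_smul, one_smul]
      exact (neg_eq_of_add_eq_zero_right e).symm
    obtain ⟨c, hc⟩ := line (f + f') hsum0 a
    obtain ⟨d, hd⟩ := line f' hf'0 a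
    have h5 : (f : A →+ W) (c - g a) = (f' : A →+ W) (d - c) := by
      have h6 : ((f + f' : HomY Y A W) : A →+ W) a = (f : A →+ W) a + (f' : A →+ W) a := rfl
      have h7 : ((f + f' : HomY Y A W) : A →+ W) c = (f : A →+ W) c + (f' : A →+ W) c := rfl
      rw [h6, smul_add, hg, hd, h7] at hc
      rw [map_sub, map_sub, sub_eq_sub_iff_add_eq_add, ← hc]
      abel
    have h8 : c - g a = 0 := by
      by_contra hne
      obtain ⟨κ, hκ⟩ := HomY.fact h5 hne
      have hκ0 : κ ≠ 0 := by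
        rintro rfl
        rw [zero_smul] at hκ
        exact hf hκ
      exact hf' ⟨κ⁻¹, by rw [hκ, smul_smul, inv_mul_cancel₀ hκ0, one_smul]⟩
    rw [h8, map_zero] at h5
    have h9 : d - c = 0 := by
      by_contra hne
      exact hf'0 (HomY.eq_zero h5.symm hne)
    rw [hd, sub_eq_zero.1 h9, sub_eq_zero.1 h8]
  obtain ⟨y, hy⟩ := exists_of_sq htv gl (by
    intro a
    change g (g a - a) = g a - a
    apply hfi
    rw [← hg]
    have h5 := h2 _ (h1 _ (mem_img f a))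
    rw [hg, ← map_sub] at h5
    exact h5)
  refine ⟨y, fun v hv => ?_⟩
  refine img_ind (P := fun v => t • v = y • v) (by rw [smul_zero, smul_zero])
    (fun a b ha hb => by rw [smul_add, smul_add, ha, hb]) (fun a ha => by rw [smul_neg, smul_neg, ha])
    (fun f' a => ?_) hv
  rw [all, ← f'.2, hy]
  rfl

/-- `Y` moves `A` -/
theorem exists_move (htv : AllTv Y A) (hd : 2 ≤ Module.finrank (KK Y A) A) : ∃ (y : Y) (a : A), y • a ≠ a := by
  classical
  have : Module.Finite (KK Y A) A := Module.Finite.of_finite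
  let b := Module.finBasis (KK Y A) A
  let i : Fin (Module.finrank (KK Y A) A) := ⟨0, by omega⟩
  let j : Fin (Module.finrank (KK Y A) A) := ⟨1, by omega⟩
  have hij : i ≠ j := by simp [i, j, Fin.ext_iff]
  obtain ⟨y, hy⟩ := htv (b.coord i) (b j) (by
    rw [Module.Basis.coord_apply, Module.Basis.repr_self, Finsupp.single_apply, if_neg hij.symm])
  refine ⟨y, b i, fun h => ?_⟩
  rw [hy, Module.Basis.coord_apply, Module.Basis.repr_self, Finsupp.single_apply, if_pos rfl, one_smul] at h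
  exact b.ne_zero j (left_eq_add.1 h.symm)

/-- an element of `A ⊗ E` fixed by `Y` is zero -/
theorem img_fix [Finite W] (htv : AllTv Y A) (hd : 2 ≤ Module.finrank (KK Y A) A) {v : W} (hv : v ∈ img Y A W)
    (hf : ∀ y : Y, y • v = v) : v = 0 := by
  classical
  obtain ⟨d, f, hfi, hco⟩ := exists_coord (Y := Y) (A := A) (U := W)
  obtain ⟨a, rfl⟩ := hco v hv
  have h1 : ∀ y : Y, ∀ i, y • a i = a i := by
    intro y i
    have h2 := hf y
    rw [Finset.smul_sum] at h2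
    have h3 := HomY.ind hfi Finset.univ (fun i => y • a i - a i) (by
      rw [← sub_eq_zero.2 h2, ← Finset.sum_sub_distrib]
      exact Finset.sum_congr rfl fun i _ => by rw [map_sub, (f i).2]) i (Finset.mem_univ _)
    exact sub_eq_zero.1 h3
  refine Finset.sum_eq_zero fun i _ => ?_
  let N : AddSubgroup A :=
    { carrier := {x | ∀ y : Y, y • x = x}
      zero_mem' := fun y => smul_zero y
      add_mem' := fun {x z} hx hz y => by rw [smul_add, hx y, hz y]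
      neg_mem' := fun {x} hx y => by rw [smul_neg, hx y] }
  rcases hI.irr N (fun k n hn y => by rw [hn k, hn y]) with h | h
  · have h3 : a i ∈ N := fun y => h1 y i
    rw [h, AddSubgroup.mem_bot] at h3
    rw [h3, map_zero]
  · exfalso
    obtain ⟨y, x, hx⟩ := exists_move htv hd
    have h3 : x ∈ N := by rw [h]; trivial
    exact hx (h3 y)

end one

/-! ### the family -/

variable {Γ : Type u} [Group Γ] {W : Type v} [AddCommGroup W] [DistribMulAction Γ W]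

variable (W) in
/-- the sum of the blocks -/
def sm (𝒴 : Set (Subgroup Γ)) : AddSubgroup W := AddSubgroup.closure {v | ∃ Y ∈ 𝒴, v ∈ cm W Y}

variable (W) in
/-- the sum of the blocks different from `[W, Y]` -/
def rst (𝒴 : Set (Subgroup Γ)) (Y : Subgroup Γ) : AddSubgroup W :=
  AddSubgroup.closure {v | ∃ Y' ∈ 𝒴, Y' ≠ Y ∧ v ∈ cm W Y'}

theorem br_mem_cm {Y : Subgroup Γ} {y : Γ} (hy : y ∈ Y) (w : W) : y • w - w ∈ cm W Y :=
  AddSubgroup.subset_closure ⟨y, hy, w, rfl⟩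

/-- `m [W, Y] = [W, m Y m⁻¹]` -/
theorem smul_cm {Y : Subgroup Γ} (m : Γ) {v : W} (hv : v ∈ cm W Y) :
    m • v ∈ cm W (Y.map (MulAut.conj m).toMonoidHom) := by
  induction hv using AddSubgroup.closure_induction with
  | mem v hv =>
    obtain ⟨y, hy, w, rfl⟩ := hv
    refine AddSubgroup.subset_closure ⟨m * y * m⁻¹, ⟨y, hy, rfl⟩, m • w, ?_⟩
    rw [smul_sub, smul_smul, smul_smul, inv_mul_cancel_right]
  | zero => rw [smul_zero]; exact zero_mem _
  | add a b _ _ ha hb => rw [smul_add]; exact add_mem ha hb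
  | neg a _ ha => rw [smul_neg]; exact neg_mem ha

theorem smul_cm_self {Y : Subgroup Γ} {y : Γ} (hy : y ∈ Y) {v : W} (hv : v ∈ cm W Y) : y • v ∈ cm W Y := by
  have e : y • v = (y • v - v) + v := by abel
  rw [e]
  exact add_mem (br_mem_cm hy v) hv

theorem cm_le_sm {𝒴 : Set (Subgroup Γ)} {Y : Subgroup Γ} (hY : Y ∈ 𝒴) : cm W Y ≤ sm W 𝒴 :=
  fun _ hv => AddSubgroup.subset_closure ⟨Y, hY, hv⟩

theorem cm_le_rst {𝒴 : Set (Subgroup Γ)} {Y Y' : Subgroup Γ} (hY : Y' ∈ 𝒴) (hne : Y' ≠ Y) :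
    cm W Y' ≤ rst W 𝒴 Y := fun _ hv => AddSubgroup.subset_closure ⟨Y', hY, hne, hv⟩

theorem rst_le_sm (𝒴 : Set (Subgroup Γ)) (Y : Subgroup Γ) : rst W 𝒴 Y ≤ sm W 𝒴 :=
  AddSubgroup.closure_mono (by rintro v ⟨Y', hY', -, hv⟩; exact ⟨Y', hY', hv⟩)

theorem sm_dec {𝒴 : Set (Subgroup Γ)} (Y : Subgroup Γ) {v : W} (hv : v ∈ sm W 𝒴) :
    ∃ a ∈ cm W Y, ∃ b ∈ rst W 𝒴 Y, v = a + b := by
  classical
  induction hv using AddSubgroup.closure_induction with
  | mem v hv =>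
    obtain ⟨Y', hY', hv⟩ := hv
    by_cases e : Y' = Y
    · exact ⟨v, e ▸ hv, 0, zero_mem _, (add_zero v).symm⟩
    · exact ⟨0, zero_mem _, v, cm_le_rst hY' e hv, (zero_add v).symm⟩
  | zero => exact ⟨0, zero_mem _, 0, zero_mem _, (add_zero 0).symm⟩
  | add a b _ _ ha hb =>
    obtain ⟨a1, ha1, a2, ha2, rfl⟩ := ha
    obtain ⟨b1, hb1, b2, hb2, rfl⟩ := hb
    exact ⟨a1 + b1, add_mem ha1 hb1, a2 + b2, add_mem ha2 hb2, by abel⟩
  | neg a _ ha =>
    obtain ⟨a1, ha1, a2, ha2, rfl⟩ := ha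
    exact ⟨-a1, neg_mem ha1, -a2, neg_mem ha2, by abel⟩

theorem IsBlk.fix [Finite W] {Y : Subgroup Γ} (b : IsBlk W Y) {v : W} (hv : v ∈ cm W Y)
    (hf : ∀ y ∈ Y, y • v = v) : v = 0 := by
  obtain ⟨A, _, _, _, _, htv, -, e, h2, -⟩ := b.ex
  rw [e] at hv
  exact img_fix htv h2 hv fun y => hf y y.2

namespace Fam

variable {M : Subgroup Γ} {𝒴 : Set (Subgroup Γ)} (Fa : Fam W M 𝒴)
include Fa

theorem triv_rst {Y : Subgroup Γ} (hY : Y ∈ 𝒴) {y : Γ} (hy : y ∈ Y) {v : W} (hv : v ∈ rst W 𝒴 Y) : y • v = v := by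
  induction hv using AddSubgroup.closure_induction with
  | mem v hv =>
    obtain ⟨Y', hY', hne, hv⟩ := hv
    exact Fa.triv Y hY Y' hY' (Ne.symm hne) y hy v hv
  | zero => exact smul_zero y
  | add a b _ _ ha hb => rw [smul_add, ha, hb]
  | neg a _ ha => rw [smul_neg, ha]

/-- an element of `RR` acts on a block as an element of `Y` -/
theorem RR_cm {r : Γ} (hr : r ∈ RR 𝒴) : ∀ Y ∈ 𝒴, ∃ y ∈ Y, ∀ v ∈ cm W Y, r • v = y • v := by
  let K : Subgroup Γ :=
    { carrier := {r | ∀ Y ∈ 𝒴, ∃ y ∈ Y, ∀ v ∈ cm W Y, r • v = y • v}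
      one_mem' := fun Y _ => ⟨1, one_mem _, fun v _ => rfl⟩
      mul_mem' := by
        intro a b ha hb Y hY
        obtain ⟨x, hx, hxv⟩ := ha Y hY
        obtain ⟨y, hy, hyv⟩ := hb Y hY
        exact ⟨x * y, mul_mem hx hy, fun v hv => by rw [mul_smul, hyv v hv, hxv _ (smul_cm_self hy hv), mul_smul]⟩
      inv_mem' := by
        intro a ha Y hY
        obtain ⟨x, hx, hxv⟩ := ha Y hY
        refine ⟨x⁻¹, inv_mem hx, fun v hv => ?_⟩
        rw [inv_smul_eq_iff, hxv _ (smul_cm_self (inv_mem hx) hv), smul_inv_smul] }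
  have h1 : RR 𝒴 ≤ K := by
    refine sSup_le fun Y' hY' r hr Y hY => ?_
    by_cases e : Y' = Y
    · subst e
      exact ⟨r, hr, fun v _ => rfl⟩
    · exact ⟨1, one_mem _, fun v hv => by rw [one_smul, Fa.triv Y' hY' Y hY e r hr v hv]⟩
  exact h1 hr

theorem smul_cm_RR {r : Γ} (hr : r ∈ RR 𝒴) {Y : Subgroup Γ} (hY : Y ∈ 𝒴) {v : W} (hv : v ∈ cm W Y) :
    r • v ∈ cm W Y := by
  obtain ⟨y, hy, hyv⟩ := Fa.RR_cm hr Y hY
  rw [hyv v hv]
  exact smul_cm_self hy hv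

theorem smul_rst_RR {r : Γ} (hr : r ∈ RR 𝒴) {Y : Subgroup Γ} {v : W} (hv : v ∈ rst W 𝒴 Y) :
    r • v ∈ rst W 𝒴 Y := by
  induction hv using AddSubgroup.closure_induction with
  | mem v hv =>
    obtain ⟨Y', hY', hne, hv⟩ := hv
    exact AddSubgroup.subset_closure ⟨Y', hY', hne, Fa.smul_cm_RR hr hY' hv⟩
  | zero => rw [smul_zero]; exact zero_mem _
  | add a b _ _ ha hb => rw [smul_add]; exact add_mem ha hb
  | neg a _ ha => rw [smul_neg]; exact neg_mem ha

theorem smul_sm_RR {r : Γ} (hr : r ∈ RR 𝒴) {v : W} (hv : v ∈ sm W 𝒴) : r • v ∈ sm W 𝒴 := by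
  induction hv using AddSubgroup.closure_induction with
  | mem v hv =>
    obtain ⟨Y', hY', hv⟩ := hv
    exact AddSubgroup.subset_closure ⟨Y', hY', Fa.smul_cm_RR hr hY' hv⟩
  | zero => rw [smul_zero]; exact zero_mem _
  | add a b _ _ ha hb => rw [smul_add]; exact add_mem ha hb
  | neg a _ ha => rw [smul_neg]; exact neg_mem ha

theorem RR_le : RR 𝒴 ≤ M := sSup_le Fa.le

theorem smul_rst {t : Γ} (ht : t ∈ M) {Y : Subgroup Γ} (hn : Y.map (MulAut.conj t).toMonoidHom = Y) {v : W}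
    (hv : v ∈ rst W 𝒴 Y) : t • v ∈ rst W 𝒴 Y := by
  induction hv using AddSubgroup.closure_induction with
  | mem v hv =>
    obtain ⟨Y', hY', hne, hv⟩ := hv
    refine AddSubgroup.subset_closure ⟨_, Fa.conj Y' hY' t ht, fun e => hne ?_, smul_cm t hv⟩
    exact Subgroup.map_injective (MulAut.conj t).injective (e.trans hn.symm)
  | zero => rw [smul_zero]; exact zero_mem _
  | add a b _ _ ha hb => rw [smul_add]; exact add_mem ha hb
  | neg a _ ha => rw [smul_neg]; exact neg_mem ha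

theorem RR_conj {m r : Γ} (hm : m ∈ M) (hr : r ∈ RR 𝒴) : m * r * m⁻¹ ∈ RR 𝒴 := by
  have h1 : RR 𝒴 ≤ (RR 𝒴).comap (MulAut.conj m).toMonoidHom := by
    refine sSup_le fun Y hY y hy => ?_
    exact (le_sSup (Fa.conj Y hY m hm) : _ ≤ RR 𝒴) ⟨y, hy, rfl⟩
  exact h1 hr

theorem indep [Finite W] {Y : Subgroup Γ} (hY : Y ∈ 𝒴) {v : W} (hv : v ∈ cm W Y) (hv' : v ∈ rst W 𝒴 Y) : v = 0 :=
  (Fa.blk Y hY).fix hv fun _ hy => Fa.triv_rst hY hy hv'

/-- an element of `sm` fixed by all `Y` is zero -/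
theorem sep [Finite Γ] [Finite W] {v : W} (hv : v ∈ sm W 𝒴) (hf : ∀ Y ∈ 𝒴, ∀ y ∈ Y, y • v = v) : v = 0 := by
  classical
  have hfin : Finite (Subgroup Γ) := inferInstance
  let A : Finset (Subgroup Γ) → AddSubgroup W := fun T =>
    AddSubgroup.closure {v | ∃ Y ∈ T, Y ∈ 𝒴 ∧ v ∈ cm W Y}
  have key : ∀ T : Finset (Subgroup Γ), ∀ v ∈ A T, (∀ Y ∈ 𝒴, ∀ y ∈ Y, y • v = v) → v = 0 := by
    intro T
    induction T using Finset.induction with
    | empty =>
      intro v hv _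
      have h1 : A ∅ ≤ ⊥ := (AddSubgroup.closure_le _).2 (by
        rintro v ⟨Y, hY, -⟩
        exact absurd hY (Finset.notMem_empty _))
      exact AddSubgroup.mem_bot.1 (h1 hv)
    | insert Y T hYT ih =>
      intro v hv hf
      have hdec : ∀ v ∈ A (insert Y T), ∃ w v', v = w + v' ∧ v' ∈ A T ∧ w ∈ cm W Y ∧ (w ≠ 0 → Y ∈ 𝒴) := by
        intro y hy
        induction hy using AddSubgroup.closure_induction with
        | mem y hy =>
          obtain ⟨Y', hY', hm, hyW⟩ := hy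
          rcases Finset.mem_insert.1 hY' with hY' | hY'
          · rw [hY'] at hm hyW
            exact ⟨y, 0, (add_zero y).symm, zero_mem _, hyW, fun _ => hm⟩
          · exact ⟨0, y, (zero_add y).symm, AddSubgroup.subset_closure ⟨Y', hY', hm, hyW⟩, zero_mem _,
              fun h => absurd rfl h⟩
        | zero => exact ⟨0, 0, (add_zero 0).symm, zero_mem _, zero_mem _, fun h => absurd rfl h⟩
        | add a b _ _ ha hb =>
          obtain ⟨a1, a2, rfl, ha2, ha1, ha3⟩ := ha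
          obtain ⟨b1, b2, rfl, hb2, hb1, hb3⟩ := hb
          refine ⟨a1 + b1, a2 + b2, by abel, add_mem ha2 hb2, add_mem ha1 hb1, fun h => ?_⟩
          by_cases h0 : a1 = 0
          · exact hb3 fun h4 => h (by rw [h0, h4, add_zero])
          · exact ha3 h0
        | neg a _ ha =>
          obtain ⟨a1, a2, rfl, ha2, ha1, ha3⟩ := ha
          exact ⟨-a1, -a2, by abel, neg_mem ha2, neg_mem ha1, fun h => ha3 fun h4 => h (by rw [h4, neg_zero])⟩
      obtain ⟨w, v', rfl, hv', hw, hwY⟩ := hdec v hv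
      have hw0 : w = 0 := by
        by_contra h0
        have hY := hwY h0
        have h1 : v' ∈ rst W 𝒴 Y := by
          have h2 : A T ≤ rst W 𝒴 Y := (AddSubgroup.closure_le _).2 (by
            rintro x ⟨Y', hY', hY'', hx⟩
            exact AddSubgroup.subset_closure ⟨Y', hY'', fun e => hYT (e ▸ hY'), hx⟩)
          exact h2 hv'
        refine h0 ((Fa.blk Y hY).fix hw fun k hk => ?_)
        have h2 := hf Y hY k hk
        rw [smul_add, Fa.triv_rst hY hk h1] at h2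
        exact add_right_cancel h2
      subst hw0
      rw [zero_add] at hf ⊢
      exact ih v' hv' hf
  have := Fintype.ofFinite (Subgroup Γ)
  refine key Finset.univ v ?_ hf
  have h2 : sm W 𝒴 ≤ A Finset.univ := (AddSubgroup.closure_le _).2 (by
    rintro x ⟨Y, hY, hx⟩
    exact AddSubgroup.subset_closure ⟨Y, Finset.mem_univ _, hY, hx⟩)
  exact h2 hv

theorem sep' [Finite Γ] [Finite W] {v : W} (hv : v ∈ sm W 𝒴) (hf : ∀ Y ∈ 𝒴, v ∈ rst W 𝒴 Y) : v = 0 :=
  Fa.sep hv fun Y hY _ hy => Fa.triv_rst hY hy (hf Y hY)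

theorem mem_RR {Y : Subgroup Γ} (hY : Y ∈ 𝒴) {y : Γ} (hy : y ∈ Y) : y ∈ RR 𝒴 := (le_sSup hY : Y ≤ RR 𝒴) hy

/-- an element of a block in `rst + C(RR)` is zero -/
theorem block_sep [Finite Γ] [Finite W] {Y : Subgroup Γ} (hY : Y ∈ 𝒴) {x b c : W} (hx : x ∈ cm W Y)
    (hb : b ∈ rst W 𝒴 Y) (hc : ∀ r ∈ RR 𝒴, r • c = c) (e : x = b + c) : x = 0 := by
  have h1 : c ∈ sm W 𝒴 := by
    have e1 : c = x - b := by rw [e]; abel
    rw [e1]
    exact sub_mem (cm_le_sm hY hx) (rst_le_sm _ _ hb)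
  have h2 : c = 0 := Fa.sep h1 fun Y' hY' y hy => hc _ (Fa.mem_RR hY' hy)
  rw [h2, add_zero] at e
  exact Fa.indep hY hx (e ▸ hb)

end Fam

/-! ### the closure -/

/-- `C_W(C_{RR}(D))` -/
def fcl (𝒴 : Set (Subgroup Γ)) (D : AddSubgroup W) : AddSubgroup W where
  carrier := {v | ∀ r ∈ RR 𝒴, (∀ d ∈ D, r • d = d) → r • v = v}
  zero_mem' := fun r _ _ => smul_zero r
  add_mem' := fun {a b} ha hb r hr hD => by rw [smul_add, ha r hr hD, hb r hr hD]
  neg_mem' := fun {a} ha r hr hD => by rw [smul_neg, ha r hr hD]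

theorem mem_fcl {𝒴 : Set (Subgroup Γ)} {D : AddSubgroup W} {v : W} :
    v ∈ fcl 𝒴 D ↔ ∀ r ∈ RR 𝒴, (∀ d ∈ D, r • d = d) → r • v = v := Iff.rfl

theorem le_fcl {𝒴 : Set (Subgroup Γ)} (D : AddSubgroup W) : D ≤ fcl 𝒴 D := fun _ hv _ _ h => h _ hv

theorem fcl_mono {𝒴 : Set (Subgroup Γ)} {D D' : AddSubgroup W} (hD : D ≤ D') : fcl 𝒴 D ≤ fcl 𝒴 D' :=
  fun _ hv r hr h => hv r hr fun d hd => h d (hD hd)

/-- `fcl F = F` for a flat `F = C_W(Q)`, `Q ≤ Y ∈ 𝒴` -/
theorem fcl_flat {𝒴 : Set (Subgroup Γ)} {Y Q : Subgroup Γ} (hY : Y ∈ 𝒴) (hQ : Q ≤ Y) :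
    fcl 𝒴 (fx W Q) = fx W Q :=
  le_antisymm (fun _ hv d hd => hv d ((le_sSup hY : Y ≤ RR 𝒴) (hQ hd)) fun _ hf => hf d hd) (le_fcl _)

/-- the block `[W, Y]` is bad: not contained in `fcl D` -/
def Bd (𝒴 : Set (Subgroup Γ)) (D : AddSubgroup W) (Y : Subgroup Γ) : Prop := ∃ w ∈ cm W Y, w ∉ fcl 𝒴 D

/-- the sum of the bad blocks -/
def bd (𝒴 : Set (Subgroup Γ)) (D : AddSubgroup W) : AddSubgroup W :=
  AddSubgroup.closure {v | ∃ Y ∈ 𝒴, Bd 𝒴 D Y ∧ v ∈ cm W Y}

theorem bd_le_sm (𝒴 : Set (Subgroup Γ)) (D : AddSubgroup W) : bd 𝒴 D ≤ sm W 𝒴 :=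
  AddSubgroup.closure_mono (by rintro v ⟨Y, hY, -, hv⟩; exact ⟨Y, hY, hv⟩)

namespace Fam

variable [Finite Γ] [Finite W] {M : Subgroup Γ} {𝒴 : Set (Subgroup Γ)} (Fa : Fam W M 𝒴)
variable (gas : ∀ w : W, ∃ a ∈ sm W 𝒴, ∃ c : W, (∀ r ∈ RR 𝒴, r • c = c) ∧ w = a + c)
include Fa gas

omit Fa [Finite Γ] [Finite W] in
theorem le_bd_sup (D : AddSubgroup W) (v : W) : v ∈ bd 𝒴 D ⊔ fcl 𝒴 D := by
  obtain ⟨a, ha, c, hc, rfl⟩ := gas v
  refine add_mem ?_ (le_sup_right (a := bd 𝒴 D) (show c ∈ fcl 𝒴 D from fun r hr _ => hc r hr))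
  have h1 : sm W 𝒴 ≤ bd 𝒴 D ⊔ fcl 𝒴 D := by
    refine (AddSubgroup.closure_le _).2 ?_
    rintro w ⟨Y, hY, hw⟩
    by_cases hb : Bd 𝒴 D Y
    · exact le_sup_left (a := bd 𝒴 D) (AddSubgroup.subset_closure ⟨Y, hY, hb, hw⟩)
    · refine le_sup_right (a := bd 𝒴 D) ?_
      by_contra hcon
      exact hb ⟨w, hw, hcon⟩
  exact h1 ha

/-- the components of a fixed vector are fixed -/
theorem fix_comp {r : Γ} (hr : r ∈ RR 𝒴) {Y : Subgroup Γ} (hY : Y ∈ 𝒴) {a b c : W} (ha : a ∈ cm W Y)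
    (hb : b ∈ rst W 𝒴 Y) (hc : ∀ r ∈ RR 𝒴, r • c = c) (h : r • (a + b + c) = a + b + c) : r • a = a := by
  rw [smul_add, smul_add, hc r hr] at h
  have h1 : r • a - a = 0 := by
    refine Fa.indep hY (sub_mem (Fa.smul_cm_RR hr hY ha) ha) ?_
    have e : r • a - a = b - r • b := by
      have h2 : r • a = a + b + c - r • b - c := by rw [← h]; abel
      rw [h2]
      abel
    rw [e]
    exact sub_mem hb (Fa.smul_rst_RR hr hb)
  exact sub_eq_zero.1 h1

/-- if `r ∈ RR` fixes `D` then its component in `Y` fixes `D` -/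
theorem fix_part {r : Γ} (hr : r ∈ RR 𝒴) {D : AddSubgroup W} (hD : ∀ d ∈ D, r • d = d) {Y : Subgroup Γ} (hY : Y ∈ 𝒴)
    {y : Γ} (hy : y ∈ Y) (hyr : ∀ v ∈ cm W Y, r • v = y • v) {d : W} (hd : d ∈ D) : y • d = d := by
  obtain ⟨a0, ha0, c, hc, e⟩ := gas d
  obtain ⟨a, ha, b, hb, rfl⟩ := sm_dec Y ha0
  have h1 := hD d hd
  rw [e] at h1
  have h2 := Fa.fix_comp gas hr hY ha hb hc h1
  rw [e, smul_add, smul_add, ← hyr a ha, h2, Fa.triv_rst hY hy hb, hc y (Fa.mem_RR hY hy)]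

/-- **One bad block** -/
theorem exists_y {t : Γ} (ht : t ∈ M) {D : AddSubgroup W} (h1 : ∀ w : W, t • w - w ∈ D) (h2 : ∀ d ∈ D, t • d = d)
    {Y : Subgroup Γ} (hY : Y ∈ 𝒴) (hb : Bd 𝒴 D Y) : ∃ y ∈ Y, ∀ v ∈ cm W Y, t • v = y • v := by
  obtain ⟨w, hw, hwn⟩ := hb
  have h3 : ∃ r ∈ RR 𝒴, (∀ d ∈ D, r • d = d) ∧ r • w ≠ w := by
    by_contra hcon
    push Not at hcon
    exact hwn hcon
  obtain ⟨r0, hr0, hrD0, hrw⟩ := h3
  obtain ⟨r, hr, hrr⟩ := Fa.RR_cm hr0 Y hY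
  have hrD : ∀ d ∈ D, r • d = d := fun d hd => Fa.fix_part gas hr0 hrD0 hY hr hrr hd
  rw [hrr w hw] at hrw
  -- `t` normalises `Y`
  have hn : Y.map (MulAut.conj t⁻¹).toMonoidHom = Y := by
    by_contra hne
    apply hrw
    have h4 : t⁻¹ * r * t ∈ Y.map (MulAut.conj t⁻¹).toMonoidHom := ⟨r, hr, by
      change t⁻¹ * r * t⁻¹⁻¹ = _
      rw [inv_inv]⟩
    have h5 := Fa.triv _ (Fa.conj Y hY t⁻¹ (inv_mem ht)) Y hY hne _ h4 w hw
    have h6 : r • t • w = t • w := by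
      conv_rhs => rw [← h5]
      rw [smul_smul, smul_smul]
      congr 1
      group
    have h7 := hrD _ (h1 w)
    rw [smul_sub, h6] at h7
    exact (sub_right_inj.1 h7)
  obtain ⟨A, _, _, _, _, htv, -, e, hd, hd'⟩ := (Fa.blk Y hY).ex
  have hne : ∃ f : HomY Y A W, f ≠ 0 := by
    have : Nontrivial (HomY Y A W) := Module.nontrivial_of_finrank_pos (R := KK Y A) (by omega)
    exact exists_ne 0
  obtain ⟨y, hy⟩ := exists_blkT (W := W) htv hne (t := t) (fun k hk => by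
      have h4 : t⁻¹ * k * t ∈ Y.map (MulAut.conj t⁻¹).toMonoidHom := ⟨k, hk, by
        change t⁻¹ * k * t⁻¹⁻¹ = _
        rw [inv_inv]⟩
      rwa [hn] at h4) (X := D) (fun v _ => h1 v) h2 (r := ⟨r, hr⟩) hrD (by
      by_contra hcon
      push Not at hcon
      apply hrw
      rw [e] at hw
      exact img_ind (P := fun v => r • v = v) (smul_zero _) (fun a b ha hb => by rw [smul_add, ha, hb])
        (fun a ha => by rw [smul_neg, ha]) (fun f a => by
          have h4 := f.2 ⟨r, hr⟩ a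
          rw [hcon] at h4
          exact h4.symm) hw)
  exact ⟨y, y.2, fun v hv => hy v (e ▸ hv)⟩

/-- the product over a set of bad blocks -/
theorem exists_ys {t : Γ} (ht : t ∈ M) {D : AddSubgroup W} (h1 : ∀ w : W, t • w - w ∈ D)
    (h2 : ∀ d ∈ D, t • d = d) (s : Finset (Subgroup Γ)) :
    ∃ y ∈ RR 𝒴, (∀ Y ∈ 𝒴, Y ∈ s → Bd 𝒴 D Y → ∀ v ∈ cm W Y, y • v = t • v) ∧
      ∀ Y ∈ 𝒴, (Y ∉ s ∨ ¬ Bd 𝒴 D Y) → ∀ v ∈ cm W Y, y • v = v := by
  classical
  induction s using Finset.induction_on with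
  | empty => exact ⟨1, one_mem _, fun Y _ h => absurd h (Finset.notMem_empty _), fun _ _ _ _ _ => one_smul _ _⟩
  | insert Y0 s hs ih =>
    obtain ⟨y, hy, hy1, hy2⟩ := ih
    by_cases hc : Y0 ∈ 𝒴 ∧ Bd 𝒴 D Y0
    · obtain ⟨hY0, hb0⟩ := hc
      obtain ⟨y0, hy0, e0⟩ := Fa.exists_y gas ht h1 h2 hY0 hb0
      refine ⟨y0 * y, mul_mem (Fa.mem_RR hY0 hy0) hy, fun Y hY hYs hb v hv => ?_, fun Y hY hor v hv => ?_⟩
      · by_cases e : Y0 = Y
        · subst e
          rw [mul_smul, hy2 Y0 hY (Or.inl hs) v hv, ← e0 v hv]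
        · have h4 : Y ∈ s := (Finset.mem_insert.1 hYs).resolve_left (Ne.symm e)
          have h5 := hy1 Y hY h4 hb v hv
          rw [mul_smul, Fa.triv Y0 hY0 Y hY e y0 hy0 _ (Fa.smul_cm_RR hy hY hv), h5]
      · have e : Y0 ≠ Y := by
          rintro rfl
          rcases hor with h5 | h5
          · exact h5 (Finset.mem_insert_self _ _)
          · exact h5 hb0
        have h6 : Y ∉ s ∨ ¬ Bd 𝒴 D Y := hor.imp (fun h h' => h (Finset.mem_insert_of_mem h')) id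
        rw [mul_smul, hy2 Y hY h6 v hv, Fa.triv Y0 hY0 Y hY e y0 hy0 v hv]
    · refine ⟨y, hy, fun Y hY hYs hb v hv => ?_, fun Y hY hor v hv => ?_⟩
      · rcases Finset.mem_insert.1 hYs with rfl | h5
        · exact absurd ⟨hY, hb⟩ hc
        · exact hy1 Y hY h5 hb v hv
      · refine hy2 Y hY (hor.imp (fun h h' => h (Finset.mem_insert_of_mem h')) id) v hv

/-- **LEMMA T2**: `t` agrees on the bad blocks with an element of `RR` which fixes `D` -/
theorem tt {t : Γ} (ht : t ∈ M) {D : AddSubgroup W} (h1 : ∀ w : W, t • w - w ∈ D) (h2 : ∀ d ∈ D, t • d = d) :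
    ∃ y ∈ RR 𝒴, (∀ v ∈ bd 𝒴 D, y • v = t • v) ∧ (∀ d ∈ D, y • d = d) ∧ ∀ v ∈ bd 𝒴 D, y⁻¹ • v ∈ bd 𝒴 D := by
  classical
  have := Fintype.ofFinite (Subgroup Γ)
  obtain ⟨y, hy, hy1, hy2⟩ := Fa.exists_ys gas ht h1 h2 Finset.univ
  have hy1' : ∀ Y ∈ 𝒴, Bd 𝒴 D Y → ∀ v ∈ cm W Y, y • v = t • v := fun Y hY => hy1 Y hY (Finset.mem_univ _)
  have hy2' : ∀ Y ∈ 𝒴, ¬ Bd 𝒴 D Y → ∀ v ∈ cm W Y, y • v = v := fun Y hY hb => hy2 Y hY (Or.inr hb)
  refine ⟨y, hy, ?_, ?_, ?_⟩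
  · intro v hv
    induction hv using AddSubgroup.closure_induction with
    | mem v hv =>
      obtain ⟨Y, hY, hb, hv⟩ := hv
      exact hy1' Y hY hb v hv
    | zero => rw [smul_zero, smul_zero]
    | add a b _ _ ha hb => rw [smul_add, smul_add, ha, hb]
    | neg a _ ha => rw [smul_neg, smul_neg, ha]
  · intro d hd
    obtain ⟨a, ha, c, hc, e⟩ := gas d
    have h3 : y • a - a = 0 := by
      refine Fa.sep' (sub_mem (Fa.smul_sm_RR hy ha) ha) fun Y hY => ?_
      obtain ⟨a1, ha1, b1, hb1, rfl⟩ := sm_dec Y ha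
      have h4 : y • a1 = a1 := by
        by_cases hb : Bd 𝒴 D Y
        swap
        · exact hy2' Y hY hb a1 ha1
        have h5 := hy1' Y hY hb a1 ha1
        -- `t` normalises `Y`
        have hn : Y.map (MulAut.conj t).toMonoidHom = Y := by
          by_contra hne
          obtain ⟨v, hv, hv0⟩ : ∃ v ∈ cm W Y, v ≠ 0 := by
            obtain ⟨w, hw, hwn⟩ := hb
            exact ⟨w, hw, fun h0 => hwn (h0 ▸ zero_mem _)⟩
          have h6 : t • v ∈ cm W Y := by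
            rw [← hy1' Y hY hb v hv]
            exact Fa.smul_cm_RR hy hY hv
          have h7 : t • v ∈ rst W 𝒴 Y := cm_le_rst (Fa.conj Y hY t ht) hne (smul_cm t hv)
          have h8 := Fa.indep hY h6 h7
          exact hv0 (by rw [← inv_smul_smul t v, h8, smul_zero])
        have h7 : t • b1 ∈ rst W 𝒴 Y := Fa.smul_rst ht hn hb1
        have h9 : ∀ r ∈ RR 𝒴, r • (t • c) = t • c := by
          intro r hr
          have h10 := hc _ (Fa.RR_conj (inv_mem ht) hr)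
          rw [inv_inv, mul_smul, mul_smul, inv_smul_eq_iff] at h10
          exact h10
        have h11 := h2 _ hd
        rw [e, smul_add, smul_add] at h11
        have h12 : t • a1 - a1 = 0 := by
          refine Fa.block_sep hY (x := t • a1 - a1) (b := b1 - t • b1) (c := c - t • c) (sub_mem ?_ ha1)
            (sub_mem hb1 h7) (fun r hr => by rw [smul_sub, hc r hr, h9 r hr]) ?_
          · rw [← h5]
            exact Fa.smul_cm_RR hy hY ha1
          · have h13 : t • a1 = a1 + b1 + c - t • b1 - t • c := by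
              rw [← h11]
              abel
            rw [h13]
            abel
        rw [h5]
        exact sub_eq_zero.1 h12
      have e : y • (a1 + b1) - (a1 + b1) = y • b1 - b1 := by
        rw [smul_add, h4]
        abel
      rw [e]
      exact sub_mem (Fa.smul_rst_RR hy hb1) hb1
    rw [e, smul_add, hc y hy, sub_eq_zero.1 h3]
  · intro v hv
    induction hv using AddSubgroup.closure_induction with
    | mem v hv =>
      obtain ⟨Y, hY, hb, hv⟩ := hv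
      exact AddSubgroup.subset_closure ⟨Y, hY, hb, Fa.smul_cm_RR (inv_mem hy) hY hv⟩
    | zero => rw [smul_zero]; exact zero_mem _
    | add a b _ _ ha hb => rw [smul_add]; exact add_mem ha hb
    | neg a _ ha => rw [smul_neg]; exact neg_mem ha

/-- **LEMMA T2**, second form -/
theorem tt' {t : Γ} (ht : t ∈ M) {D : AddSubgroup W} (h1 : ∀ w : W, t • w - w ∈ D) (h2 : ∀ d ∈ D, t • d = d) :
    (∀ v ∈ bd 𝒴 D, v ∈ fcl 𝒴 D → t • v = v) ∧
      ∃ m ∈ M, (∀ v ∈ bd 𝒴 D, m • v = v) ∧ ∀ v ∈ fcl 𝒴 D, m • v = t • v := by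
  obtain ⟨y, hy, hy1, hyD, hy3⟩ := Fa.tt gas ht h1 h2
  refine ⟨fun v hv hv' => ?_, t * y⁻¹, mul_mem ht (inv_mem (Fa.RR_le hy)), fun v hv => ?_, fun v hv => ?_⟩
  · rw [← hy1 v hv]
    exact hv' y hy hyD
  · rw [mul_smul, ← hy1 _ (hy3 v hv), smul_inv_smul]
  · rw [mul_smul]
    congr 1
    rw [inv_smul_eq_iff]
    exact (hv y hy hyD).symm

end Fam

end Cfsg.Agent.Omega.NO3b.BasePt
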