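import Cfsg.Agent.Omega.NO3b.BasePt.DatB

/-!
# THEOREM L with two lines (#22211, helper16)

`vb_eq` : `DatB S Vb V F` and `MBU U B` imply `Vb = V`.

After conjugation `B O ≤ S`, `O = O₂(Y₀)`, `Y₀ = ⟨B, B^x⟩`, `M = N_{Y₀}(V)`.  `[Vb, B] = 0` (`nfb`); `t ∈ B ∩ O` acts on
`Vb^x`, `x ∉ M`, with `[Vb^x, t] ≤ F`; so `⟨(B ∩ O)^{Y₀}⟩` acts on `V` as a subgroup of `{e ∈ S : [Vb, e] ≤ F}`
(`act_le`) and `nfd` gives the hypothesis of the weak THEOREM L (`LW3.core`): `C_U(B) = V C_U(Y₀)`; hence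
`Vb = V (Vb ∩ C_U(Y₀)) = V`.
-/

set_option autoImplicit false
set_option linter.unusedSectionVars false
set_option linter.dupNamespace false

namespace Cfsg.Agent.Omega.NO3b.BasePt

open Cfsg.Agent.Omega.FF.Basic
open Cfsg.Agent.Omega.NO3b.Exit.TT
open Cfsg.Agent.Omega.MinFF (TI)
open Cfsg.Agent.Omega.NO3b.TheoremL.Tight (MBU)
open Cfsg (pCore)
open scoped Pointwise

variable {X : Type*} [Group X] {U : Type*} [AddCommGroup U] [DistribMulAction X U]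
  {Vb V F : AddSubgroup U} {B T : Subgroup X}

section card

/-- orbit-stabiliser for the action on the inclusion `V → U` -/
theorem card_orb [Finite X] (V : AddSubgroup U) (E : Subgroup X) :
    Nat.card ↥(E ⊓ cf X V) * (MulAction.orbit E (fun v : V => (v : U))).ncard = Nat.card E := by
  have h1 : Nat.card (MulAction.stabilizer E (fun v : V => (v : U))) = Nat.card ↥(E ⊓ cf X V) := by
    refine Nat.card_congr ⟨fun e => ⟨(e : E), (e : E).2, fun v hv => ?_⟩,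
      fun e => ⟨⟨(e : X), e.2.1⟩, ?_⟩, fun e => rfl, fun e => rfl⟩
    · have h2 : (e : E) • (fun v : V => (v : U)) = fun v : V => (v : U) := e.2
      exact congrFun h2 ⟨v, hv⟩
    · rw [MulAction.mem_stabilizer_iff]
      funext v
      exact e.2.2 v v.2
  rw [← h1, ← MulAction.index_stabilizer, Subgroup.card_mul_index]

end card

/-- the hypotheses at a line, `T` any 2-subgroup -/
structure DatT (T : Subgroup X) (Vb V F : AddSubgroup U) : Prop where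
  two : ∀ u : U, u + u = 0
  faith : ∀ x : X, (∀ u : U, x • u = u) → x = 1
  TV : T ≤ nf X V
  TVb : T ≤ nf X Vb
  FV : F ≤ V
  VVb : V ≤ Vb
  Fx : ∀ (x : X), ∀ f ∈ F, x • f = f
  ti : ∀ x : X, x ∉ nf X V → Vb ⊓ x • Vb ≤ F
  nfb : ∀ A : Subgroup X, A ≤ T → (∀ a ∈ A, ∀ v ∈ Vb, a • a • v = v) → ¬ A ≤ cf X Vb →
    Nat.card A * Nat.card ↥(Vb ⊓ fx U A) < Nat.card Vb * Nat.card ↥(A ⊓ cf X Vb)
  nfd : ∀ E : Subgroup X, E ≤ T → (∀ e ∈ E, ∀ v ∈ Vb, e • v - v ∈ F) → ¬ E ≤ cf X V →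
    Nat.card E * Nat.card ↥(V ⊓ fx U E) < Nat.card V * Nat.card ↥(E ⊓ cf X V)

theorem DatB.datT {S : Sylow 2 X} (h : DatB S Vb V F) : DatT (S : Subgroup X) Vb V F where
  two := h.two
  faith := h.faith
  TV := h.SV
  TVb := h.SVb
  FV := h.FV
  VVb := h.VVb
  Fx := h.Fx
  ti := h.ti
  nfb := h.nfb
  nfd := h.nfd

namespace DatT

section conj

/-- transport of an NF inequality -/
theorem nf_conj_card (y : X) {A : Subgroup X} {W : AddSubgroup U}
    (h1 : Nat.card (cj y⁻¹ A) * Nat.card ↥(W ⊓ fx U (cj y⁻¹ A)) < Nat.card W * Nat.card ↥(cj y⁻¹ A ⊓ cf X W)) :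
    Nat.card A * Nat.card ↥(y • W ⊓ fx U A) < Nat.card ↥(y • W) * Nat.card ↥(A ⊓ cf X (y • W)) := by
  rw [card_cj] at h1
  have e1 : Nat.card ↥(W ⊓ fx U (cj y⁻¹ A)) = Nat.card ↥(y • W ⊓ fx U A) := by
    refine (card_smul y fun v => ?_).symm
    constructor
    · rintro ⟨h2, h3⟩
      exact ⟨mem_smul.1 h2, smul_mem_fx_cj h3⟩
    · rintro ⟨h2, h3⟩
      have h3' := mem_fx_cj.1 h3
      rw [inv_inv, smul_inv_smul] at h3'
      exact ⟨mem_smul.2 h2, h3'⟩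
  have e2 : Nat.card ↥(cj y⁻¹ A ⊓ cf X W) = Nat.card ↥(A ⊓ cf X (y • W)) := by
    have e3 : cj y⁻¹ A ⊓ cf X W = cj y⁻¹ (A ⊓ cf X (y • W)) := by
      ext a
      rw [mem_cj, inv_inv, Subgroup.mem_inf, Subgroup.mem_inf, mem_cj, inv_inv, cf_conj]
      have e : y⁻¹ * (y * a * y⁻¹) * y = a := by group
      rw [e]
    rw [e3, card_cj]
  rw [e1, e2, ← card_smul' y W] at h1
  exact h1

variable (h : DatT T Vb V F)
include h

theorem F_eq (y : X) {f : U} (hf : f ∈ F) : y⁻¹ • f = f := h.Fx y⁻¹ f hf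

theorem conj (y : X) : DatT (cj y T) (y • Vb) (y • V) F where
  two := h.two
  faith := h.faith
  TV := fun x hx => nf_conj.2 (h.TV (mem_cj.1 hx))
  TVb := fun x hx => nf_conj.2 (h.TVb (mem_cj.1 hx))
  FV := fun f hf => mem_smul.2 (by rw [h.F_eq y hf]; exact h.FV hf)
  VVb := AddSubgroup.pointwise_smul_le_pointwise_smul_iff.2 h.VVb
  Fx := h.Fx
  ti := fun x hx w hw => by
    have h1 : y⁻¹ * x * y ∉ nf X V := fun h0 => hx (nf_conj.2 h0)
    have h2 : y⁻¹ • w ∈ F := by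
      refine h.ti _ h1 ⟨mem_smul.1 hw.1, mem_smul.2 ?_⟩
      have h3 := mem_smul.1 (mem_smul.1 hw.2)
      have e : (y⁻¹ * x * y)⁻¹ • y⁻¹ • w = y⁻¹ • x⁻¹ • w := by
        rw [smul_smul, smul_smul]; congr 1; group
      rw [e]; exact h3
    have h3 := h.Fx y _ h2
    rw [smul_inv_smul] at h3
    rw [h3]; exact h2
  nfb := fun A hA hsq hne => by
    refine nf_conj_card y (h.nfb (cj y⁻¹ A) (fun a ha => ?_) (fun a ha v hv => ?_) (fun h0 => hne fun a ha => ?_))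
    · have h1 := mem_cj.1 (hA (mem_cj.1 ha))
      have e : y⁻¹ * (y⁻¹⁻¹ * a * y⁻¹) * y = a := by group
      rwa [e] at h1
    · have ha' := mem_cj.1 ha
      have h2 := hsq _ ha' _ (smul_mem' (x := y) hv)
      rw [smul_smul, smul_smul] at h2
      have e : y⁻¹⁻¹ * a * y⁻¹ * (y⁻¹⁻¹ * a * y⁻¹) * y = y * (a * a) := by group
      rw [e, mul_smul] at h2
      rw [smul_smul]
      exact smul_left_cancel y h2
    · rw [cf_conj]
      have h2 := h0 (mem_cj_of (g := y⁻¹) ha)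
      rwa [inv_inv] at h2
  nfd := fun A hA hsq hne => by
    refine nf_conj_card y (h.nfd (cj y⁻¹ A) (fun a ha => ?_) (fun a ha v hv => ?_) (fun h0 => hne fun a ha => ?_))
    · have h1 := mem_cj.1 (hA (mem_cj.1 ha))
      have e : y⁻¹ * (y⁻¹⁻¹ * a * y⁻¹) * y = a := by group
      rwa [e] at h1
    · have ha' := mem_cj.1 ha
      have h2 := hsq _ ha' _ (smul_mem' (x := y) hv)
      have e : (y⁻¹⁻¹ * a * y⁻¹) • y • v - y • v = y • (a • v - v) := by
        rw [smul_sub, smul_smul, smul_smul]; congr 2; group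
      rw [e] at h2
      have h3 := h.Fx y⁻¹ _ h2
      rw [inv_smul_smul] at h3
      rw [h3]; exact h2
    · rw [cf_conj]
      have h2 := h0 (mem_cj_of (g := y⁻¹) ha)
      rwa [inv_inv] at h2

end conj

section main

variable [Finite X] [Finite U] (h : DatT T Vb V F) (m : MBU U B)
include h m

/-- `[Vb, B] = 0` -/
theorem vb_le (hBT : B ≤ T) : Vb ≤ fx U B := by
  rw [← le_cf]
  by_contra hne
  have h1 := h.nfb B hBT (fun a ha v _ => by rw [smul_smul, m.ea a ha, one_smul]) hne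
  set E := B ⊓ cf X Vb with hE
  have h2 := m.bo.le E inf_le_left
  have h3 : Vb ⊔ fx U B ≤ fx U E := sup_le (le_cf.1 inf_le_right) (fx_anti inf_le_left)
  have h4 := card_sup_inf Vb (fx U B)
  have h5 := card_le h3
  rw [mm, mm] at h2
  have h6 : Nat.card Vb * Nat.card E ≤ Nat.card B * Nat.card ↥(Vb ⊓ fx U B) := by
    have p : 0 < Nat.card (fx U B) := Nat.card_pos
    refine Nat.le_of_mul_le_mul_right ?_ p
    calc Nat.card Vb * Nat.card E * Nat.card (fx U B) = Nat.card E * (Nat.card Vb * Nat.card (fx U B)) := by ring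
      _ = Nat.card E * (Nat.card ↥(Vb ⊔ fx U B) * Nat.card ↥(Vb ⊓ fx U B)) := by rw [h4]
      _ ≤ Nat.card E * (Nat.card (fx U E) * Nat.card ↥(Vb ⊓ fx U B)) :=
        Nat.mul_le_mul_left _ (Nat.mul_le_mul_right _ h5)
      _ = Nat.card E * Nat.card (fx U E) * Nat.card ↥(Vb ⊓ fx U B) := by ring
      _ ≤ Nat.card B * Nat.card (fx U B) * Nat.card ↥(Vb ⊓ fx U B) := Nat.mul_le_mul_right _ h2
      _ = _ := by ring
  exact absurd h1 (not_lt.2 h6)

variable {Y₀ : Subgroup X}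

/-- the quadratic TI group `B` of `Y₀` -/
theorem toQ (hBY : B ≤ Y₀) (hti : TI (B.subgroupOf Y₀) ((nf X V).subgroupOf Y₀)) :
    TheoremL.Act.Q U (B.subgroupOf Y₀) ((nf X V).subgroupOf Y₀) where
  two := h.two
  faith := fun z hz => Subtype.ext (h.faith z fun u => hz u)
  ti := hti
  quad := fun a ha b hb u => quad' h.two m.ea m.ne_bot m.off m.min _ (Subgroup.mem_subgroupOf.1 ha) _
    (Subgroup.mem_subgroupOf.1 hb) u

/-- `Vb^x ∩ C_U(Y₀) ≤ F` -/
theorem inf_Z (hti : TI (B.subgroupOf Y₀) ((nf X V).subgroupOf Y₀)) (x : Y₀) {v : U} (hv : (x : X)⁻¹ • v ∈ Vb)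
    (hvZ : v ∈ fx U (⊤ : Subgroup Y₀)) : v ∈ F := by
  obtain ⟨k, hk⟩ := hti.exists_not_mem
  have h1 : ∀ z : Y₀, (z : X) • v = v := fun z => hvZ z (Subgroup.mem_top z)
  have h2 : (x : X)⁻¹ • v = v := h1 x⁻¹
  have h3 : (k : X)⁻¹ • v = v := h1 k⁻¹
  rw [h2] at hv
  refine h.ti (k : X) (fun h0 => hk (Subgroup.mem_subgroupOf.2 h0)) ⟨hv, mem_smul.2 ?_⟩
  rw [h3]; exact hv

/-- `[Vb^x, t] ≤ F` for `t ∈ B ∩ O₂(Y₀)` and `x ∉ M` -/
theorem comm_F (hBT : B ≤ T) (hBY : B ≤ Y₀) (hti : TI (B.subgroupOf Y₀) ((nf X V).subgroupOf Y₀))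
    (hO : ∀ k : Y₀, k ∈ pCore 2 Y₀ → (k : X) ∈ T) {t : Y₀} (ht : t ∈ B.subgroupOf Y₀ ⊓ pCore 2 Y₀) {x : Y₀}
    (hx : x ∉ (nf X V).subgroupOf Y₀) {v : U} (hv : (x : X)⁻¹ • v ∈ Vb) : (t : X) • v - v ∈ F := by
  have q := h.toQ m hBY hti
  have hn : (pCore 2 Y₀).Normal := Lib.Cores.pCore_normal 2
  have h1 : x⁻¹ * t * x ∈ pCore 2 Y₀ := by
    have := hn.conj_mem t ht.2 x⁻¹
    rwa [inv_inv] at this
  have h2 := hO _ h1
  have h3 : (x : X)⁻¹ • ((t : X) • v - v) ∈ Vb := by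
    have e : (x : X)⁻¹ • ((t : X) • v - v) = ((x⁻¹ * t * x : Y₀) : X) • ((x : X)⁻¹ • v) - (x : X)⁻¹ • v := by
      rw [smul_sub, smul_smul, smul_smul]
      congr 2
      push_cast
      group
    rw [e]
    exact sub_mem (nf_smul (h.TVb h2) hv) hv
  refine h.inf_Z m hti x h3 ?_
  refine q.inf_le hx ?_ ?_
  · intro b hb
    exact q.quad t ht.1 b hb v
  · intro b hb
    exact h.vb_le m hBT h3 _ (Subgroup.mem_subgroupOf.1 hb)

/-- the elements of `Y₀` which act on `V` like an element `e` of `T` with `[Vb, e] ≤ F` -/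
def K (T : Subgroup X) (Vb V F : AddSubgroup U) (Y₀ : Subgroup X) : Set Y₀ :=
  {k | ∃ e ∈ T, (∀ v ∈ Vb, e • v - v ∈ F) ∧ ∀ v ∈ V, e • v = (k : X) • v}

omit [Finite X] [Finite U] m in
theorem mul_F {e f : X} (he : ∀ v ∈ Vb, e • v - v ∈ F) (hf : ∀ v ∈ Vb, f • v - v ∈ F) :
    ∀ v ∈ Vb, (e * f) • v - v ∈ F := by
  intro v hv
  have e1 : (e * f) • v - v = e • (f • v - v) + (e • v - v) := by rw [mul_smul, smul_sub]; abel
  rw [e1]
  refine add_mem ?_ (he v hv)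
  rw [h.Fx e _ (hf v hv)]
  exact hf v hv

omit [Finite X] [Finite U] m in
theorem inv_F {e : X} (he : ∀ v ∈ Vb, e • v - v ∈ F) : ∀ v ∈ Vb, e⁻¹ • v - v ∈ F := by
  intro v hv
  have h1 := he v hv
  have h2 := h.Fx e⁻¹ _ h1
  have e1 : e⁻¹ • v - v = -(e⁻¹ • (e • v - v)) := by rw [smul_sub, inv_smul_smul]; abel
  rw [e1, h2]
  exact neg_mem h1

omit [Finite X] [Finite U] m in
theorem K_mul {k l : Y₀} (hk : k ∈ K T Vb V F Y₀) (hl : l ∈ K T Vb V F Y₀) : k * l ∈ K T Vb V F Y₀ := by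
  obtain ⟨e, heT, he, hek⟩ := hk
  obtain ⟨f, hfT, hf, hfl⟩ := hl
  refine ⟨e * f, T.mul_mem heT hfT, h.mul_F he hf, fun v hv => ?_⟩
  rw [mul_smul, hek _ (nf_smul (h.TV hfT) hv), hfl v hv]
  push_cast
  rw [mul_smul]

omit [Finite X] [Finite U] m in
theorem K_inv {k : Y₀} (hk : k ∈ K T Vb V F Y₀) : k⁻¹ ∈ K T Vb V F Y₀ := by
  obtain ⟨e, heT, he, hek⟩ := hk
  refine ⟨e⁻¹, T.inv_mem heT, h.inv_F he, fun v hv => ?_⟩
  have h1 : e⁻¹ • v ∈ V := nf_smul (h.TV (T.inv_mem heT)) hv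
  have h2 := hek _ h1
  rw [smul_inv_smul] at h2
  push_cast
  rw [eq_inv_smul_iff]
  exact h2.symm

omit [Finite X] [Finite U] m in
theorem K_one : (1 : Y₀) ∈ K T Vb V F Y₀ := by
  refine ⟨1, T.one_mem, fun v _ => ?_, fun v _ => ?_⟩
  · rw [one_smul, sub_self]; exact zero_mem _
  · rfl

/-- `⟨(B ∩ O)^{Y₀}⟩` acts on `V` as a subgroup of `{e ∈ T : [Vb, e] ≤ F}` -/
theorem act_le (hBT : B ≤ T) (hBY : B ≤ Y₀) (hti : TI (B.subgroupOf Y₀) ((nf X V).subgroupOf Y₀))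
    (hO : ∀ k : Y₀, k ∈ pCore 2 Y₀ → (k : X) ∈ T) {k : Y₀} (hk : k ∈ LW1.QQ (B.subgroupOf Y₀)) :
    k ∈ K T Vb V F Y₀ := by
  let KK : Subgroup Y₀ :=
    { carrier := K T Vb V F Y₀
      mul_mem' := h.K_mul
      one_mem' := h.K_one
      inv_mem' := h.K_inv }
  have hn : (pCore 2 Y₀).Normal := Lib.Cores.pCore_normal 2
  have h1 : LW1.QQ (B.subgroupOf Y₀) ≤ KK := by
    rw [LW1.QQ, Subgroup.normalClosure, Subgroup.closure_le]
    intro z hz
    obtain ⟨t, ht, htz⟩ := Group.mem_conjugatesOfSet_iff.1 hz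
    obtain ⟨g, rfl⟩ := isConj_iff.1 htz
    by_cases hg : g⁻¹ ∈ (nf X V).subgroupOf Y₀
    · refine ⟨1, T.one_mem, fun v _ => ?_, fun v hv => ?_⟩
      · rw [one_smul, sub_self]; exact zero_mem _
      · have h2 : ((g⁻¹ : Y₀) : X) • v ∈ V := nf_smul (Subgroup.mem_subgroupOf.1 hg) hv
        have h3 : (t : X) • ((g⁻¹ : Y₀) : X) • v = ((g⁻¹ : Y₀) : X) • v :=
          h.vb_le m hBT (h.VVb h2) _ (Subgroup.mem_subgroupOf.1 ht.1)
        push_cast at h3 ⊢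
        rw [mul_smul, mul_smul, h3, smul_inv_smul, one_smul]
    · refine ⟨((g * t * g⁻¹ : Y₀) : X), hO _ (hn.conj_mem t ht.2 g), fun v hv => ?_, fun v _ => rfl⟩
      have h2 : (t : X) • ((g : X)⁻¹ • v) - (g : X)⁻¹ • v ∈ F := by
        refine h.comm_F m hBT hBY hti hO ht hg ?_
        push_cast
        rw [inv_inv, smul_inv_smul]
        exact hv
      have e : ((g * t * g⁻¹ : Y₀) : X) • v - v = (g : X) • ((t : X) • ((g : X)⁻¹ • v) - (g : X)⁻¹ • v) := by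
        push_cast
        rw [smul_sub, smul_inv_smul, mul_smul, mul_smul]
      rw [e, h.Fx _ _ h2]
      exact h2
  exact h1 hk

/-- NF for the subgroups of `⟨(B ∩ O)^{Y₀}⟩` on `V` -/
theorem nf_QQ (hBT : B ≤ T) (hBY : B ≤ Y₀) (hti : TI (B.subgroupOf Y₀) ((nf X V).subgroupOf Y₀))
    (hO : ∀ k : Y₀, k ∈ pCore 2 Y₀ → (k : X) ∈ T) {B' : Subgroup Y₀} (hB' : B' ≤ LW1.QQ (B.subgroupOf Y₀))
    (hne : ¬ B' ≤ cf Y₀ V) :
    Nat.card B' * Nat.card ↥(V ⊓ fx U B') < Nat.card V * Nat.card ↥(B' ⊓ cf Y₀ V) := by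
  let E : Subgroup X :=
    { carrier := {e | e ∈ T ∧ (∀ v ∈ Vb, e • v - v ∈ F) ∧ ∃ k ∈ B', ∀ v ∈ V, e • v = (k : X) • v}
      mul_mem' := by
        rintro e f ⟨heT, he, k, hk, hek⟩ ⟨hfT, hf, l, hl, hfl⟩
        refine ⟨T.mul_mem heT hfT, h.mul_F he hf, k * l, B'.mul_mem hk hl, fun v hv => ?_⟩
        rw [mul_smul, hek _ (nf_smul (h.TV hfT) hv), hfl v hv]
        push_cast
        rw [mul_smul]
      one_mem' := ⟨T.one_mem, fun v _ => by rw [one_smul, sub_self]; exact zero_mem _, 1, B'.one_mem, fun v _ => rfl⟩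
      inv_mem' := by
        rintro e ⟨heT, he, k, hk, hek⟩
        refine ⟨T.inv_mem heT, h.inv_F he, k⁻¹, B'.inv_mem hk, fun v hv => ?_⟩
        have h1 : e⁻¹ • v ∈ V := nf_smul (h.TV (T.inv_mem heT)) hv
        have h2 := hek _ h1
        rw [smul_inv_smul] at h2
        push_cast
        rw [eq_inv_smul_iff]
        exact h2.symm }
  have hET : E ≤ T := fun e he => he.1
  have toE : ∀ k ∈ B', ∃ e ∈ E, ∀ v ∈ V, e • v = (k : X) • v := by
    intro k hk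
    obtain ⟨e, heT, he, hek⟩ := h.act_le m hBT hBY hti hO (hB' hk)
    exact ⟨e, ⟨heT, he, k, hk, hek⟩, hek⟩
  have hEne : ¬ E ≤ cf X V := by
    intro h0
    apply hne
    intro k hk v hv
    obtain ⟨e, he, hek⟩ := toE k hk
    have h1 : (k : X) • v = v := by rw [← hek v hv]; exact h0 he v hv
    exact h1
  have h1 := h.nfd E hET (fun e he => he.2.1) hEne
  have e1 : V ⊓ fx U E = V ⊓ fx U B' := by
    ext v
    constructor
    · rintro ⟨hv, hv2⟩
      refine ⟨hv, fun k hk => ?_⟩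
      obtain ⟨e, he, hek⟩ := toE k hk
      have h2 : (k : X) • v = v := by rw [← hek v hv]; exact hv2 e he
      exact h2
    · rintro ⟨hv, hv2⟩
      refine ⟨hv, fun e he => ?_⟩
      obtain ⟨k, hk, hek⟩ := he.2.2
      rw [hek v hv]
      exact hv2 k hk
  have e2 : MulAction.orbit E (fun v : V => (v : U)) = MulAction.orbit B' (fun v : V => (v : U)) := by
    ext f
    constructor
    · rintro ⟨e, rfl⟩
      obtain ⟨k, hk, hek⟩ := e.2.2.2
      refine ⟨⟨k, hk⟩, ?_⟩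
      funext v
      exact (hek v v.2).symm
    · rintro ⟨k, rfl⟩
      obtain ⟨e, he, hek⟩ := toE k k.2
      refine ⟨⟨e, he⟩, ?_⟩
      funext v
      exact hek v v.2
  have c1 := card_orb V E
  have c2 := card_orb V B'
  rw [e2] at c1
  rw [e1] at h1
  set n := (MulAction.orbit B' (fun v : V => (v : U))).ncard with hn
  have pn : 0 < Nat.card ↥(E ⊓ cf X V) := Nat.card_pos
  refine lt_of_mul_lt_mul_right ?_ pn.le
  calc Nat.card B' * Nat.card ↥(V ⊓ fx U B') * Nat.card ↥(E ⊓ cf X V)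
      = (Nat.card ↥(E ⊓ cf X V) * n) * Nat.card ↥(V ⊓ fx U B') * Nat.card ↥(B' ⊓ cf Y₀ V) := by rw [← c2]; ring
    _ = Nat.card E * Nat.card ↥(V ⊓ fx U B') * Nat.card ↥(B' ⊓ cf Y₀ V) := by rw [c1]
    _ < Nat.card V * Nat.card ↥(E ⊓ cf X V) * Nat.card ↥(B' ⊓ cf Y₀ V) :=
        Nat.mul_lt_mul_of_pos_right h1 Nat.card_pos
    _ = _ := by ring

/-- the conclusion, `Y₀` normalised -/
theorem eq_of_ti (hBT : B ≤ T) (hBY : B ≤ Y₀) (hti : TI (B.subgroupOf Y₀) ((nf X V).subgroupOf Y₀))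
    (hO : ∀ k : Y₀, k ∈ pCore 2 Y₀ → (k : X) ∈ T) : Vb = V := by
  have hBm := TheoremL.Tight.map_sub hBY
  have hy : LW1.Hyp (B.subgroupOf Y₀) ((nf X V).subgroupOf Y₀) V :=
    { two := h.two
      faith := fun z hz => Subtype.ext (h.faith z fun u => hz u)
      ti := hti
      ea := fun a ha => Subtype.ext (m.ea _ (Subgroup.mem_subgroupOf.1 ha))
      off := by rw [← TheoremL.Tight.mm_sub, hBm]; exact m.off
      min := by
        intro E hE hE0
        rw [← TheoremL.Tight.mm_sub E, ← TheoremL.Tight.mm_sub (B.subgroupOf Y₀), hBm]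
        refine m.min _ ?_ ?_
        · rw [← hBm]
          exact lt_of_le_of_ne (Subgroup.map_mono hE.le) fun h0 =>
            hE.ne (Subgroup.map_injective Y₀.subtype_injective h0)
        · intro h0
          exact hE0 ((Subgroup.map_eq_bot_iff_of_injective _ Y₀.subtype_injective).1 h0)
      inv := fun z hz => Subgroup.mem_subgroupOf.1 hz
      VC := fun v hv b hb => h.vb_le m hBT (h.VVb hv) _ (Subgroup.mem_subgroupOf.1 hb)
      nff := fun B' hB' hne => h.nf_QQ m hBT hBY hti hO hB' hne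
      nz := by
        intro h0
        apply hti.ne
        rw [eq_top_iff]
        intro z _
        rw [Subgroup.mem_subgroupOf]
        refine cf_le_nf V ?_
        intro v hv
        exact h0 hv z (Subgroup.mem_top z) }
  have o := LW3.core hy
  refine le_antisymm (fun w hw => ?_) h.VVb
  have h1 : w ∈ fx U (B.subgroupOf Y₀) := fun b hb => h.vb_le m hBT hw _ (Subgroup.mem_subgroupOf.1 hb)
  rw [o.C_eq] at h1
  obtain ⟨v, hv, z, hz, rfl⟩ := AddSubgroup.mem_sup.1 h1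
  have h2 : z ∈ Vb := by
    have h3 := sub_mem hw (h.VVb hv)
    rwa [add_sub_cancel_left] at h3
  have h3 : z ∈ F := h.inf_Z m hti 1 (by
    rw [Subgroup.coe_one, inv_one, one_smul]; exact h2) hz
  exact add_mem hv (h.FV h3)

end main

end DatT

/-- Sylow's theorem in `N` -/
theorem exists_cj_le [Finite X] (S : Sylow 2 X) {N P : Subgroup X} (hS : (S : Subgroup X) ≤ N) (hP : IsPGroup 2 P)
    (hPN : P ≤ N) : ∃ n ∈ N, cj n P ≤ (S : Subgroup X) := by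
  have hf : Fact (Nat.Prime 2) := ⟨Nat.prime_two⟩
  have h1 : IsPGroup 2 (P.subgroupOf N) := hP.comap_of_injective _ N.subtype_injective
  obtain ⟨Q, hQ⟩ := h1.exists_le_sylow
  obtain ⟨n, hn⟩ := MulAction.exists_smul_eq N Q (S.subtype hS)
  refine ⟨n, n.2, cj_le_iff.2 fun a ha => ?_⟩
  have h2 : (⟨a, hPN ha⟩ : N) ∈ (Q : Subgroup N) := hQ (Subgroup.mem_subgroupOf.2 ha)
  have h3 : n * ⟨a, hPN ha⟩ * n⁻¹ ∈ ((n • Q : Sylow 2 N) : Subgroup N) := by
    rw [Sylow.coe_subgroup_smul]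
    exact Subgroup.smul_mem_pointwise_smul _ (MulAut.conj n) _ h2
  rw [hn] at h3
  exact h3

/-- **THEOREM L with two lines: `Vb = V`.** -/
theorem vb_eq [Finite X] [Finite U] {S : Sylow 2 X} (h : DatB S Vb V F) (m : MBU U B) : Vb = V := by
  have hf : Fact (Nat.Prime 2) := ⟨Nat.prime_two⟩
  obtain ⟨x, y, hti⟩ := TheoremL.Lift.exists_ti S (nf X V) h.SV h.ne h.uniq m.ea.isPGroup m.nle
  set Y₀ := B ⊔ MulAut.conj x • B with hY₀
  have hB : B ≤ Y₀ := le_sup_left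
  have hN : MulAut.conj y • nf X V = nf X (y • V) := by
    ext a
    rw [MinFF.mem_cj, nf_conj]
  rw [hN] at hti
  have hn : (pCore 2 Y₀).Normal := Lib.Cores.pCore_normal 2
  have q : TheoremL.Act.Q U (B.subgroupOf Y₀) ((nf X (y • V)).subgroupOf Y₀) :=
    { two := h.two
      faith := fun z hz => Subtype.ext (h.faith z fun u => hz u)
      ti := hti
      quad := fun a ha b hb u => quad' h.two m.ea m.ne_bot m.off m.min _ (Subgroup.mem_subgroupOf.1 ha) _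
        (Subgroup.mem_subgroupOf.1 hb) u }
  have hOM := q.core_le
  -- `P = B O`
  set P₀ : Subgroup Y₀ := B.subgroupOf Y₀ ⊔ pCore 2 Y₀ with hP₀
  have hP₀p : IsPGroup 2 P₀ := by
    refine IsPGroup.to_sup_of_normal_right ?_ (Lib.Cores.pCore_isPGroup 2)
    exact m.ea.isPGroup.comap_of_injective _ Y₀.subtype_injective
  have hP₀M : P₀ ≤ (nf X (y • V)).subgroupOf Y₀ := sup_le hti.le hOM
  have hP : IsPGroup 2 (cj y⁻¹ (P₀.map Y₀.subtype)) := isPGroup_cj _ (hP₀p.map _)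
  have hPN : cj y⁻¹ (P₀.map Y₀.subtype) ≤ nf X V := by
    refine cj_le_iff.2 ?_
    rintro _ ⟨a, ha, rfl⟩
    have h1 := nf_conj.1 (Subgroup.mem_subgroupOf.1 (hP₀M ha))
    rwa [inv_inv]
  obtain ⟨n, hnN, hnS⟩ := exists_cj_le S h.SV hP hPN
  -- the line `V^{y n⁻¹} = V^y`
  have d := h.datT.conj (y * n⁻¹)
  have e1 : (y * n⁻¹) • V = y • V := by
    rw [mul_smul]
    congr 1
    exact (nf X V).inv_mem hnN
  rw [e1] at d
  have hPT : P₀.map Y₀.subtype ≤ cj (y * n⁻¹) (S : Subgroup X) := by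
    rw [cj_cj] at hnS
    have h1 := cj_mono (y * n⁻¹) hnS
    rw [cj_cj] at h1
    have e : y * n⁻¹ * (n * y⁻¹) = 1 := by group
    rwa [e, cj_one] at h1
  have h2 := d.eq_of_ti m (Y₀ := Y₀) (by
    intro b hb
    refine hPT ⟨⟨b, hB hb⟩, ?_, rfl⟩
    exact (le_sup_left : B.subgroupOf Y₀ ≤ P₀) (Subgroup.mem_subgroupOf.2 hb)) hB hti (fun k hk => by
    refine hPT ⟨k, ?_, rfl⟩
    exact (le_sup_right : pCore 2 Y₀ ≤ P₀) hk)
  rw [← e1] at h2
  exact smul_left_cancel (y * n⁻¹) h2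

end Cfsg.Agent.Omega.NO3b.BasePt
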