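import Cfsg.Agent.Omega.NO3b.BasePt.VTwo
import Cfsg.Agent.Omega.NO3b.BasePt.Pre

/-!
# The field `good` of `BaseDat` (helper235, `End.lean`) from `Fam`

`R = preR h (RR 𝒴)`, `S₁ = S ∩ R`, `V₂ = NN V S₁ (C(S₁))`.

* `blkAct_of_fam` : `BlkAct (S ∩ R) V₂ U`;
* **`good_of_fam`** : the good sets for all closed `D < V₂`.
-/

set_option autoImplicit false

namespace Cfsg.Agent.Omega.NO3b.BasePt.VTwo

open Subgroup Cfsg
open Cfsg.Agent.Omega.NO3b.Exit.Bridge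
open Cfsg.Agent.Omega.FFBr (XX pr im)
open Cfsg.Agent.Omega.NO3b.ClosedPow (NN mem_NN)
open Cfsg.Agent.Omega.NO3b.ClosedPt (GoodAt)
open Cfsg.Agent.Omega.NOThreeL.EndFive (Zo)

universe u

variable {G : Type u} [Group G] [Finite G] {V H S : Subgroup G} {hc : V ≤ centralizer (V : Set G)}
  {h : H ≤ normalizer (V : Set G)} {M : Subgroup (XX h)} {𝒴 : Set (Subgroup (XX h))}

variable (f : Fam (MU hc) M 𝒴) (d : PThree.Dec (MU hc) 𝒴) (hS : IsPGroup 2 S) (hSH : S ≤ H)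
  (SM : im h S ≤ M) (syl : ¬ 2 ∣ (im h S).relIndex M)
include f d hS hSH SM syl

/-- `C_S(Z₁) = S ∩ R` -/
theorem inf_cent_Zo : S ⊓ centralizer (Zo S (preR h (RR 𝒴)) V : Set G) = S ⊓ preR h (RR 𝒴) :=
  le_antisymm (le_inf inf_le_left (s1_of_fam hc f d hS hSH SM syl))
    (le_inf inf_le_left (cent_symm inf_le_right))

/-- **The free blocks of `V₂`.** -/
theorem blkAct_of_fam : ∃ U : Option 𝒴 → Subgroup G, BlkAct (S ⊓ preR h (RR 𝒴))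
    (NN V (S ⊓ preR h (RR 𝒴)) (centralizer ((S ⊓ preR h (RR 𝒴) : Subgroup G) : Set G))) U := by
  set R := preR h (RR 𝒴) with hR
  have e := inf_cent_Zo f d hS hSH SM syl
  have hn : S ⊓ R ≤ normalizer (V : Set G) := inf_le_left.trans (hSH.trans h)
  have h1 : ∀ v : G, v ∈ Zo S R V ↔ v ∈ V ∧ ∀ s : H, (s : G) ∈ S → pr h s ∈ RR 𝒴 → (s : G) * v = v * s := by
    intro v
    constructor
    · rintro ⟨hv, h1⟩
      exact ⟨hv, fun s hs hsR => mem_centralizer_iff.1 h1 s ⟨hs, mem_preR'.2 hsR⟩⟩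
    · rintro ⟨hv, h1⟩
      refine ⟨hv, mem_centralizer_iff.2 fun s hs => ?_⟩
      exact h1 ⟨s, hSH hs.1⟩ hs.1 (mem_preR'.1 hs.2)
  have h2 : ∀ v : G, v ∈ NN V (S ⊓ R) (centralizer ((S ⊓ R : Subgroup G) : Set G)) ↔
      v ∈ V ∧ ∀ s ∈ S ⊓ centralizer (Zo S R V : Set G), s * v * s⁻¹ * v⁻¹ ∈ Zo S R V := by
    intro v
    rw [mem_NN hc hn, e]
    constructor
    · rintro ⟨hv, h1⟩
      exact ⟨hv, fun s hs => ⟨ClosedPow.cm_mem hn hs hv, h1 s hs⟩⟩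
    · rintro ⟨hv, h1⟩
      exact ⟨hv, fun s hs => (h1 s hs).2⟩
  obtain ⟨U, hU⟩ := exists_blkAct f d hS hSH SM syl h1 h2
  rw [e] at hU
  exact ⟨U, hU⟩

/-- **The good sets.** -/
theorem good_of_fam (D : Subgroup G)
    (hD : D ≤ NN V (S ⊓ preR h (RR 𝒴)) (centralizer ((S ⊓ preR h (RR 𝒴) : Subgroup G) : Set G)))
    (hne : D ≠ NN V (S ⊓ preR h (RR 𝒴)) (centralizer ((S ⊓ preR h (RR 𝒴) : Subgroup G) : Set G)))
    (hclo : ∀ w ∈ NN V (S ⊓ preR h (RR 𝒴)) (centralizer ((S ⊓ preR h (RR 𝒴) : Subgroup G) : Set G)),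
      (∀ t ∈ (S ⊓ preR h (RR 𝒴)) ⊓ centralizer (D : Set G), t * w = w * t) → w ∈ D) :
    ∃ lam T₀, GoodAt ((S ⊓ preR h (RR 𝒴)) ⊓ centralizer (D : Set G))
      (NN V (S ⊓ preR h (RR 𝒴)) (centralizer ((S ⊓ preR h (RR 𝒴) : Subgroup G) : Set G))) D lam T₀ := by
  obtain ⟨U, hU⟩ := blkAct_of_fam f d hS hSH SM syl
  exact hU.exists_good hD hne hclo

end Cfsg.Agent.Omega.NO3b.BasePt.VTwo
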