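import Cfsg.Agent.Omega.NO3b.BasePt.Final

/-!
# The NotFF root without generation hypothesis (helper319 #25185, helper344 #24670)

`NFRoot S L` (`MergeNF`): `L ∈ L(S)`, `C_S(V_L) ≤ O₂(L)`, `V_L ≤ O₂(C_G(Z))`, `V_L` not FF, `⟨L, C_G(Z)⟩` nonlocal.
`HypG.gen` (`L` generated by members of `P*(S)`) is not needed: `L` is generated by `N_L(S)` and the `S`-minimal
`R ≤ L`; `N_G(S)` normalises `V₂` (`B` is weakly closed in `S`).

* `le_cz_of_norm` : `R` minimal parabolic over `S`, `R ≤ N_G(Z)` : `R ≤ C_G(Z)`;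
* `BaseDat.norm_S` : `N_G(S) ≤ N_G(V₂)`; `BaseDat.gen_of_loc` : `M ≤ ⟨N_G(V₂), C_G(Z)⟩`;
* `BaseDat.baseFlag'`, `exists_baseFlag_weak`;
* **`false_of_nfRoot (hG : Ctx G) (ml) (h : AbsP) : NFRoot S L → False`**.
-/

set_option autoImplicit false

namespace Cfsg.Agent.Omega.NO3b.BasePt

open Subgroup Cfsg
open Cfsg.Agent.ZN (o2 zc zl)
open Cfsg.Agent.ZN.ChoiceBase hiding mem_zc
open Cfsg.Agent.ZN.ChoiceSit (Syl o2_le_syl syl_not_dvd)
open Cfsg.Agent.MinSimple.EmptyTI (syl_of_le)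
open Cfsg.Agent.MinSimple.MinParabolic (IsMinPar)
open Cfsg.Agent.MinSimple.VModule (le_centralizer_zc le_normalizer_zl zc_le_zl le_normalizer_o2 mem_zc le_o2
  o2_isPGroup)
open Cfsg.Agent.Omega.MinPar Cfsg.Agent.Omega.Frame Cfsg.Agent.Omega.FrameNOFF
open Cfsg.Agent.Omega.NO3b.EZero (cl cl_le le_cl cj_le_cl cent_symm)
open Cfsg.Agent.Omega.NO3b.ClosedPow (NN mem_NN cm)
open Cfsg.Agent.Omega.NO3b.ClosedPt (Flag Geo FixS Clo GoodAt)
open Cfsg.Agent.Omega.NOThreeL.EndFive (Zo mem_norm_inf mem_norm_cent)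
open Cfsg.Agent.Omega.NO3b.Exit (Adm VB)
open Cfsg.Agent.Omega.NO3b.Alpha (Fl)
open Cfsg.Agent.Omega.NO3b.EndX (AbsP)
open Cfsg.Agent.Omega.NOThreeL.HypGFrame (LocG exists_locG)
open Cfsg.Agent.Omega.NOThreeL.MergeNF (NFRoot)
open Cfsg.Agent.Omega.ML.Final (MLK)

universe u

variable {G : Type u} [Group G] [Finite G]

/-- a minimal parabolic over `S` which normalises `Z` centralises it -/
theorem le_cz_of_norm {S : Sylow 2 G} {R : Subgroup G} (hR : IsMinPar (S : Subgroup G) R)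
    (h : R ≤ normalizer (zc (S : Subgroup G) : Set G)) : R ≤ CZ (S : Subgroup G) := by
  have : Fact (Nat.Prime 2) := ⟨Nat.prime_two⟩
  have hn : R ≤ normalizer ((R ⊓ CZ (S : Subgroup G) : Subgroup G) : Set G) := fun p hp =>
    mem_norm_inf (Subgroup.le_normalizer hp) (mem_norm_cent (h hp))
  have hSC : (S : Subgroup G) ≤ R ⊓ CZ (S : Subgroup G) := le_inf hR.le (le_centralizer_zc _)
  rcases hR.sup_eq_or_inf_le S.isPGroup' (syl_not_dvd (syl_of_le hR.le)) inf_le_left hn with h1 | h1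
  · rw [sup_eq_left.2 hSC] at h1
    rw [← h1]
    exact inf_le_right
  · exfalso
    rw [inf_eq_left.2 hSC] at h1
    have h2 : o2 R ≤ (S : Subgroup G) := o2_le_syl (syl_of_le hR.le)
    have h3 : o2 R = (S : Subgroup G) := le_antisymm h2 h1
    apply hR.not_le
    have h4 := le_normalizer_o2 R
    rwa [h3] at h4

namespace BaseDat

variable {S : Sylow 2 G} {M V B R : Subgroup G} (h : BaseDat S M V B R) (l : NoEmp.Lines S B V)
include h l

/-- `N_G(S) ≤ N_G(V₂)` -/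
theorem norm_S : normalizer ((S : Subgroup G) : Set G) ≤ normalizer (V2g (S : Subgroup G) R V : Set G) := by
  have key : ∀ n ∈ normalizer ((S : Subgroup G) : Set G), ∀ v ∈ V2g (S : Subgroup G) R V,
      n * v * n⁻¹ ∈ V2g (S : Subgroup G) R V := by
    intro n hn v hv
    have hB : n ∈ normalizer (B : Set G) := by
      rw [mem_normalizer_iff_cj]
      refine l.wc n ?_
      have h1 := cj_mono n l.JS
      rwa [cj_eq_of_mem_normalizer hn] at h1
    have hSR : n ∈ normalizer (((S : Subgroup G) ⊓ R : Subgroup G) : Set G) := mem_norm_inf hn (h.NR hB)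
    have hZ : n ∈ normalizer (Zo (S : Subgroup G) R V : Set G) := mem_norm_inf (l.NJ hB) (mem_norm_cent hSR)
    rw [mem_V2 l] at hv ⊢
    refine ⟨(mem_normalizer_iff.1 (l.NJ hB) v).1 hv.1, fun s hs => ?_⟩
    have h1 : n⁻¹ * s * n ∈ (S : Subgroup G) ⊓ R := (mem_normalizer_iff''.1 hSR s).1 hs
    have h2 := (mem_normalizer_iff.1 hZ _).1 (hv.2 _ h1)
    have e : n * (n⁻¹ * s * n * v * (n⁻¹ * s * n)⁻¹ * v⁻¹) * n⁻¹ =
        s * (n * v * n⁻¹) * s⁻¹ * (n * v * n⁻¹)⁻¹ := by group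
    rwa [e] at h2
  intro n hn
  rw [mem_normalizer_iff]
  intro v
  refine ⟨key n hn v, fun hv => ?_⟩
  have h1 := key n⁻¹ (inv_mem hn) _ hv
  have e : n⁻¹ * (n * v * n⁻¹) * n⁻¹⁻¹ = v := by group
  rwa [e] at h1

/-- `M ≤ ⟨N_G(V₂), C_G(Z)⟩` for every `M ∈ L(S)` -/
theorem gen_of_loc (hM : IsLoc (S : Subgroup G) M) :
    M ≤ normalizer (V2g (S : Subgroup G) R V : Set G) ⊔ CZ (S : Subgroup G) := by
  refine MinSimple.MinParabolic.le_of_forall hM.le (inf_le_right.trans ((h.norm_S l).trans le_sup_left)) ?_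
  intro P hP hPM
  by_cases h1 : P ≤ CZ (S : Subgroup G)
  · exact h1.trans le_sup_right
  have h2 : o2 P ≠ ⊥ := by
    intro e
    apply hM.o2_ne
    rw [← le_bot_iff, ← e]
    exact le_o2 ((o2_le_syl (syl_of_le hM.le)).trans hP.le) (o2_isPGroup _) (hPM.trans (le_normalizer_o2 M))
  have h3 : IsParS (S : Subgroup G) P := ⟨⟨hP, h2⟩, fun h4 => h1 (le_cz_of_norm hP h4)⟩
  exact (h.e2 P h3 hPM h1).trans le_sup_left

variable (hc : IsCharacteristicTwoType G) (hne : zc (S : Subgroup G) ≠ ⊥)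
  (gen : M ≤ normalizer (V2g (S : Subgroup G) R V : Set G) ⊔ CZ (S : Subgroup G))
  (nonLoc : NonLoc M (CZ (S : Subgroup G)))
include hc hne gen nonLoc

/-- **the flag data** -/
theorem flagDat' : FlagDat (S : Subgroup G) (zc (S : Subgroup G)) V (Zo (S : Subgroup G) R V)
    (V2g (S : Subgroup G) R V) M (CZ (S : Subgroup G)) := by
  have syl : Syl (S : Subgroup G) (centralizer (zc (S : Subgroup G) : Set G)) := syl_of_le (le_centralizer_zc _)
  have ZV : zc (S : Subgroup G) ≤ Zo (S : Subgroup G) R V :=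
    le_inf l.ZV fun z hz => mem_centralizer_iff.2 fun s hs => (mem_zc.1 hz).2.1 s hs.1
  refine FlagDat.of_wc (B := B) syl (l.S_le_NJ.trans l.NJ) hne ZV (fun v hv => by rw [← pow_two]; exact l.sq v hv)
    (Vo_of_lines l hc) (fun a b hab => l.comm_of_inter (l.char2 hc) hab)
    (fun w hw hs _ c hcc => (mem_centralizer_iff.1 hcc w (fix_of_lines l hc hne hw hs)).symm)
    (h.S_le_Z1 l) (syl_of_norm syl ZV h.bp) ⟨l.JS, l.wc⟩ l.JV l.NJ ?_ ?_ h.bp gen nonLoc
  · intro v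
    rw [h.s1_eq]
    constructor
    · rintro ⟨h1, h2⟩
      exact ⟨h1, fun s hs => mem_centralizer_iff.1 h2 s hs⟩
    · rintro ⟨h1, h2⟩
      exact ⟨h1, mem_centralizer_iff.2 fun s hs => h2 s hs⟩
  · intro v
    rw [h.s1_eq]
    exact mem_V2 l

/-- the pair for #19499 -/
theorem geo' : Geo ((S : Subgroup G) ⊓ R) (Zo (S : Subgroup G) R V) (V2g (S : Subgroup G) R V)
    (normalizer (V2g (S : Subgroup G) R V : Set G)) := by
  have f := h.flagDat' l hc hne gen nonLoc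
  have e := h.s1_eq
  have syl := f.syl₁
  rw [e] at syl
  refine ⟨⟨syl, f.Z₁V', inf_le_left.trans f.SV', f.Vo₁, f.comm', fun v hv => f.sq v (f.V'V hv), ?_, ?_⟩, f.ne, le_rfl,
    f.hz', fun Q hQ h1 h2 => f.nonloc' Q hQ h1 h2⟩
  · intro w hw hs
    exact f.fixC' w hw (by rw [e]; exact hs)
  · intro v hv hs
    exact f.fixV v hv (by rw [e]; exact hs)

/-- **The base flag.** -/
theorem baseFlag' : BaseFlag ((S : Subgroup G) ⊓ R) (Zo (S : Subgroup G) R V) (V2g (S : Subgroup G) R V)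
    (normalizer (V2g (S : Subgroup G) R V : Set G)) where
  geo := h.geo' l hc hne gen nonLoc
  fixS := by
    have f := h.flagDat' l hc hne gen nonLoc
    intro w hw hs
    exact f.fixS (fun w hw hs c hcc => (mem_centralizer_iff.1 hcc w (fix_of_lines l hc hne hw hs)).symm) w hw
      (by rw [h.s1_eq]; exact hs)
  good := fun D hD hne => h.good D hD.DV hne hD.clo

end BaseDat

/-- **The base flag for `LocG`**, without `gen`. -/
theorem exists_baseFlag_weak (hc : IsCharacteristicTwoType G) {S : Sylow 2 G} (hSne : (S : Subgroup G) ≠ ⊥)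
    {M B : Subgroup G} (hM : IsLoc (S : Subgroup G) M) (nonLoc : NonLoc M (CZ (S : Subgroup G))) (g : LocG S M B) :
    ∃ S₁ Z₁ V₁ Lam : Subgroup G, BaseFlag S₁ Z₁ V₁ Lam := by
  obtain ⟨H, h, hcm, 𝒴, hBH, Fa, gas, fl⟩ := existsFam G S M B hc hSne g
  have D := baseDat_of_fam g.adm.lines hBH Fa gas fl g.adm.cs
    (fun _ _ p => Base.exists_opt_of_locG g hc hSne p) hc hSne g.le
  exact ⟨_, _, _, _, D.baseFlag' g.adm.lines hc (MinSimple.Basic.zc_ne_bot S.isPGroup' hSne)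
    (D.gen_of_loc g.adm.lines hM) nonLoc⟩

/-- **there is no NotFF root** -/
theorem false_of_nfRoot (hG : Ctx G) (ml : MLK.{u, u}) (h : AbsP.{u, u}) {S : Sylow 2 G} {L : Subgroup G}
    (r : NFRoot (S : Subgroup G) L) : False := by
  have hSne := hG.sylow_ne_bot S
  obtain ⟨B, g⟩ := exists_locG hG.char2 hSne r
  obtain ⟨S₁, Z₁, V₁, Lam, f⟩ := exists_baseFlag_weak hG.char2 hSne r.loc r.nonloc g
  exact ExEnd.baseFlag_false hG ml h f

end Cfsg.Agent.Omega.NO3b.BasePt
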